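import Mathlib
set_option linter.all false

/-!
# Lower bounds for the degree of a permutation representation

* `card_le_of_const` : all nonidentity elements of the finite group `Q` have exactly `c < |Ω|` fixed points on `Ω`:
  `|Q| + c ≤ |Ω|`.
* `card_le_index` : `π : S → X` onto a simple group, `Q ≤ S` with all nonidentity elements conjugate in `S`, not in the
  kernel: every proper subgroup of `X` has index at least `|Q|`.
* `sub_eq_sum_stab` : `|Ω| - c = ∑ |Z_ω|`, the sum over the points `ω` with `Z_ω ≤ ker lam`, if all nonidentity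
  elements of `Z` have `c` fixed points, `lam` any nontrivial linear character of `Z`.
-/

set_option autoImplicit false

namespace Cfsg.Agent.H934.Burn

open MulAction

section Fused

variable {G : Type*} [Group G] {Ω : Type*} [MulAction G Ω]

/-- The number of fixed points. -/
noncomputable def fx (Ω : Type*) {G : Type*} [Group G] [MulAction G Ω] (x : G) : ℕ := Nat.card (fixedBy Ω x)

theorem fx_one : fx Ω (1 : G) = Nat.card Ω := by
  unfold fx
  rw [show fixedBy Ω (1 : G) = Set.univ by ext; simp]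
  exact Nat.card_congr (Equiv.Set.univ Ω)

theorem fx_le [Finite Ω] (x : G) : fx Ω x ≤ Nat.card Ω := Nat.card_le_card_of_injective _ Subtype.val_injective

/-- Conjugate elements have the same number of fixed points. -/
theorem fx_conj (g x : G) : fx Ω (g * x * g⁻¹) = fx Ω x := by
  unfold fx
  rw [← smul_fixedBy]
  exact Nat.card_congr ((MulAction.toPerm g).image _).symm

theorem fx_of_isConj {x y : G} (h : IsConj x y) : fx Ω x = fx Ω y := by
  obtain ⟨g, rfl⟩ := isConj_iff.1 h
  exact (fx_conj g x).symm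

theorem fx_coe {K : Subgroup G} (x : K) : fx Ω x = fx Ω (x : G) := rfl

theorem fx_lt [Finite Ω] {x : G} (hx : ∃ ω : Ω, x • ω ≠ ω) : fx Ω x < Nat.card Ω := by
  obtain ⟨ω, hω⟩ := hx
  unfold fx
  have h1 : fixedBy Ω x ⊂ Set.univ := by
    rw [Set.ssubset_univ_iff]
    intro h
    exact hω (by rw [← mem_fixedBy, h]; trivial)
  have h2 := Set.ncard_lt_ncard h1 (Set.toFinite _)
  rwa [Set.ncard_univ] at h2

end Fused

/-- Burnside counting for one value `c` of the number of fixed points of the nonidentity elements. -/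
theorem card_le_of_const {Q : Type*} [Group Q] [Finite Q] {Ω : Type*} [MulAction Q Ω] [Finite Ω] (c : ℕ)
    (hc : ∀ x : Q, x ≠ 1 → fx Ω x = c) (hlt : c < Nat.card Ω) : Nat.card Q + c ≤ Nat.card Ω := by
  classical
  have := Fintype.ofFinite Q
  have := Fintype.ofFinite Ω
  have h := MulAction.sum_card_fixedBy_eq_card_orbits_mul_card_group Q Ω
  have h1 : ∀ x : Q, Fintype.card (fixedBy Ω x) = if x = 1 then Nat.card Ω else c := by
    intro x
    have h2 : Fintype.card (fixedBy Ω x) = fx Ω x := by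
      unfold fx; rw [Nat.card_eq_fintype_card]
    rw [h2]
    split_ifs with hx
    · rw [hx, fx_one]
    · exact hc x hx
  rw [Finset.sum_congr rfl fun x _ => h1 x] at h
  have h3 : ∑ x : Q, (if x = 1 then Nat.card Ω else c) = (Nat.card Ω - c) + Nat.card Q * c := by
    have h4 : ∀ x : Q, (if x = 1 then Nat.card Ω else c) = (if x = 1 then Nat.card Ω - c else 0) + c := by
      intro x
      split_ifs <;> omega
    rw [Finset.sum_congr rfl fun x _ => h4 x, Finset.sum_add_distrib, Finset.sum_ite_eq' Finset.univ (1 : Q)]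
    simp [Nat.card_eq_fintype_card]
  rw [h3, ← Nat.card_eq_fintype_card (α := Q)] at h
  set r := Fintype.card (Quotient (orbitRel Q Ω)) with hr
  have hpos : 0 < Nat.card Ω - c := by omega
  have h5 : Nat.card Q * c < r * Nat.card Q := by omega
  have h6 : c < r := by
    rw [mul_comm r] at h5
    exact lt_of_mul_lt_mul_left h5 (Nat.zero_le _)
  have h7 : Nat.card Q * (c + 1) ≤ r * Nat.card Q := by
    rw [mul_comm r]
    exact Nat.mul_le_mul_left _ h6
  have h8 : Nat.card Q * (c + 1) = Nat.card Q * c + Nat.card Q := by ring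
  omega

section Action

variable {S X : Type*} [Group S] [Group X]

/-- The action of `S` on the cosets of `H ≤ X` through `π : S →* X`. -/
def Cos (_ : S →* X) (H : Subgroup X) : Type _ := X ⧸ H

instance cosAction (π : S →* X) (H : Subgroup X) : MulAction S (Cos π H) :=
  MulAction.compHom (X ⧸ H) π

instance cosFinite [Finite X] (π : S →* X) (H : Subgroup X) : Finite (Cos π H) :=
  inferInstanceAs (Finite (X ⧸ H))

theorem card_cos (π : S →* X) (H : Subgroup X) : Nat.card (Cos π H) = H.index := rfl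

theorem cos_smul (π : S →* X) (H : Subgroup X) (s : S) (x : X) :
    s • (show Cos π H from (x : X ⧸ H)) = (show Cos π H from ((π s * x : X) : X ⧸ H)) := rfl

/-- An element of `S` outside the kernel of `π` moves some coset of the proper subgroup `H` of the simple group `X`. -/
theorem exists_moved [IsSimpleGroup X] (π : S →* X) {H : Subgroup X} (hH : H ≠ ⊤) {s : S} (hs : π s ≠ 1) :
    ∃ ω : Cos π H, s • ω ≠ ω := by
  by_contra hcon
  push Not at hcon
  have h1 : π s ∈ H.normalCore := by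
    rw [Subgroup.normalCore_eq_ker, MonoidHom.mem_ker]
    ext ω
    exact hcon ω
  rcases IsSimpleGroup.eq_bot_or_eq_top_of_normal _ H.normalCore_normal with h | h
  · rw [h, Subgroup.mem_bot] at h1
    exact hs h1
  · apply hH
    rw [eq_top_iff, ← h]
    exact H.normalCore_le

/-- **Index bound from a fused subgroup.** -/
theorem card_add_le_index [IsSimpleGroup X] [Finite X] (π : S →* X) {H : Subgroup X} (hH : H ≠ ⊤)
    (Q : Subgroup S) [Finite Q] (hQ : ∀ x ∈ Q, ∀ y ∈ Q, x ≠ 1 → y ≠ 1 → IsConj x y)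
    (hne : ∃ x ∈ Q, π x ≠ 1) : ∃ c, (∀ x ∈ Q, x ≠ 1 → fx (Cos π H) x = c) ∧ Nat.card Q + c ≤ H.index := by
  obtain ⟨x, hx, hπ⟩ := hne
  have hx1 : x ≠ 1 := fun h => hπ (by rw [h, map_one])
  have hc : ∀ y ∈ Q, y ≠ 1 → fx (Cos π H) y = fx (Cos π H) x :=
    fun y hy hy1 => fx_of_isConj (hQ y hy x hx hy1 hx1)
  refine ⟨fx (Cos π H) x, hc, ?_⟩
  rw [← card_cos π H]
  refine card_le_of_const (Q := Q) (fx (Cos π H) x) (fun y hy => ?_) (fx_lt (exists_moved π hH hπ))
  exact hc y y.2 fun h => hy (Subtype.ext h)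

/-- **Index bound from a fused subgroup.** -/
theorem card_le_index [IsSimpleGroup X] [Finite X] (π : S →* X) {H : Subgroup X} (hH : H ≠ ⊤)
    (Q : Subgroup S) [Finite Q] (hQ : ∀ x ∈ Q, ∀ y ∈ Q, x ≠ 1 → y ≠ 1 → IsConj x y)
    (hne : ∃ x ∈ Q, π x ≠ 1) : Nat.card Q ≤ H.index := by
  obtain ⟨c, -, h⟩ := card_add_le_index π hH Q hQ hne
  omega

end Action

section Fourier

open Classical in
/-- `∑_{z ∈ Z} fx(z) lam(z) = ∑_{Z_ω ≤ ker lam} |Z_ω|`. -/
theorem sum_fx {Z : Type*} [Group Z] [Fintype Z] {Ω : Type*} [MulAction Z Ω] [Fintype Ω] (lam : Z →* ℂ) :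
    ∑ z : Z, (fx Ω z : ℂ) * lam z =
      ∑ ω : Ω, if (∀ z ∈ stabilizer Z ω, lam z = 1) then (Nat.card (stabilizer Z ω) : ℂ) else 0 := by
  have h1 : ∀ z : Z, (fx Ω z : ℂ) * lam z = ∑ ω : Ω, if z • ω = ω then lam z else 0 := by
    intro z
    rw [← Finset.sum_filter, Finset.sum_const, nsmul_eq_mul]
    congr 2
    unfold fx
    rw [Nat.card_eq_fintype_card, Fintype.card_subtype]
    rfl
  rw [Finset.sum_congr rfl fun z _ => h1 z, Finset.sum_comm]
  refine Finset.sum_congr rfl fun ω _ => ?_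
  have h2 : ∑ z : Z, (if z • ω = ω then lam z else 0) = ∑ z : stabilizer Z ω, lam z := by
    rw [← Finset.sum_filter]
    refine Finset.sum_subtype _ (fun x => ?_) _
    simp [mem_stabilizer_iff]
  rw [h2]
  have h3 := sum_hom_units (lam.comp (stabilizer Z ω).subtype)
  have h4 : ∑ z : stabilizer Z ω, lam z = ∑ z : stabilizer Z ω, (lam.comp (stabilizer Z ω).subtype) z := rfl
  rw [h4, h3]
  by_cases h : ∀ z ∈ stabilizer Z ω, lam z = 1
  · rw [if_pos h, if_pos]
    · rw [Nat.card_eq_fintype_card]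
    · ext z
      exact h z z.2
  · rw [if_neg h, if_neg]
    · simp
    intro h'
    apply h
    intro z hz
    exact DFunLike.congr_fun h' ⟨z, hz⟩

open Classical in
/-- `|Z_ω|` if `Z_ω ≤ ker lam`, otherwise `0`. -/
noncomputable def wt {Z : Type*} [Group Z] {Ω : Type*} [MulAction Z Ω] (lam : Z →* ℂ) (ω : Ω) : ℕ :=
  if (∀ z ∈ stabilizer Z ω, lam z = 1) then Nat.card (stabilizer Z ω) else 0

theorem wt_pos {Z : Type*} [Group Z] {Ω : Type*} [MulAction Z Ω] {lam : Z →* ℂ} {ω : Ω}
    (h : ∀ z ∈ stabilizer Z ω, lam z = 1) : wt lam ω = Nat.card (stabilizer Z ω) := by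
  unfold wt
  rw [if_pos h]

theorem wt_zero {Z : Type*} [Group Z] {Ω : Type*} [MulAction Z Ω] {lam : Z →* ℂ} {ω : Ω}
    (h : ¬ ∀ z ∈ stabilizer Z ω, lam z = 1) : wt lam ω = 0 := by
  unfold wt
  rw [if_neg h]

/-- `|Ω| - c = ∑_{Z_ω ≤ ker lam} |Z_ω|`. -/
theorem sub_eq_sum_stab {Z : Type*} [Group Z] [Finite Z] {Ω : Type*} [MulAction Z Ω] [Fintype Ω] (lam : Z →* ℂ)
    (hl : lam ≠ 1) (c : ℕ) (hc : ∀ z : Z, z ≠ 1 → fx Ω z = c) :
    Nat.card Ω = c + ∑ ω : Ω, wt lam ω := by
  classical
  have := Fintype.ofFinite Z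
  have h := sum_fx (Ω := Ω) lam
  have h1 : ∑ z : Z, (fx Ω z : ℂ) * lam z = Nat.card Ω - c := by
    have h2 : ∀ z : Z, (fx Ω z : ℂ) * lam z = (if z = 1 then ((Nat.card Ω : ℂ) - c) else 0) + c * lam z := by
      intro z
      split_ifs with hz
      · rw [hz, fx_one, map_one]; ring
      · rw [hc z hz, zero_add]
    rw [Finset.sum_congr rfl fun z _ => h2 z, Finset.sum_add_distrib, ← Finset.mul_sum, sum_hom_units, if_neg hl,
      Finset.sum_ite_eq' Finset.univ (1 : Z)]
    simp
  rw [h1] at h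
  have h3 : (Nat.card Ω : ℂ) = c + ∑ ω : Ω, (wt lam ω : ℂ) := by
    have h4 : ∑ ω : Ω, (wt lam ω : ℂ) = Nat.card Ω - c := by
      rw [h]
      refine Finset.sum_congr rfl fun ω _ => ?_
      by_cases h5 : ∀ z ∈ stabilizer Z ω, lam z = 1
      · rw [wt_pos h5, if_pos h5]
      · rw [wt_zero h5, if_neg h5, Nat.cast_zero]
    rw [h4]; ring
  exact_mod_cast h3

end Fourier

end Cfsg.Agent.H934.Burn
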