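import Mathlib
import Cfsg.Agent.H934.Heis
import Cfsg.Agent.H934.IdxRoot
import Cfsg.Agent.ChevalleyStructure.Elts
import Cfsg.Agent.S1025
import Cfsg.Agent.S1030
import Cfsg.Agent.S1032
import Cfsg.Agent.S1082
import Cfsg.Agent.ChevalleyStructure.D4U
import Cfsg.Agent.FastGrp
import Cfsg.Agent.Prune
set_option linter.all false

section
prune_inst 0x7ffcfdffaff8bddfdfff7e7faedfdffc19c19fffe6fff94bffe8e1ff0bdf170e29e56bad0de010fe1ef7e29410b87853f9fffeffea6bdc7ffffd5ff41ffbee4ff5f7b50851d58c340fbc0fff03f07f8e7f3fffffffffffffffffffffffffffbeffffffffffff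

-- part: H934/HeisRoot
section
prune_inst 0x20200400400002000018051200001e4282000000004b000000e007020e880c60a9012e21b8300410001000c46038006000100000420800000a000c00011900a080801002a1080100200006000800000000000000000000000000000000000000000000000
set_option linter.all false
open scoped Cfsg.Agent.FastGrp

-- part: H934/HeisData
section
/-!
# Index bounds from a special normal subgroup given by coordinates

`Data Γ V A K`: elements `X v` (`v ∈ V`), `z a` (`a ∈ A`) of the group `Γ` with `[X v, X w] = z (om v w)`, and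
elements `y k` of `Γ` centralising all `z a` and normalising the group of all `X v * z a`, acting irreducibly on `V`.
If `Γ` maps to a simple group, all `z a`, `a ≠ 0`, are conjugate in `Γ` and some `z a` is not in the kernel, then
proper subgroups `H` of the simple group have index `n` with `n - c ≥ |V||A|` or `(n - c)² ≥ m² |V||A|²`.
-/

set_option autoImplicit false

namespace Cfsg.Agent.H934.HeisData

open MulAction Cfsg.Agent.H934.Burn Cfsg.Agent.H934.Heis

/-- Coordinates for a special subgroup with an irreducible complement. -/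
structure Data (Γ V A K : Type*) [Group Γ] [AddCommGroup V] [AddCommGroup A] where
  X : V → Γ
  z : A → Γ
  om : V → V → A
  y : K → Γ
  rho : K → V → V
  z_add : ∀ a b, z (a + b) = z a * z b
  z_inj : ∀ a, z a = 1 → a = 0
  X_add : ∀ v w, ∃ a, X (v + w) = X v * X w * z a
  X_z : ∀ v a, X v * z a = z a * X v
  y_z : ∀ k, ∀ a, y k * z a = z a * y k
  comm : ∀ v w, X v * X w = X w * X v * z (om v w)
  special : ∀ v, v ≠ 0 → ∀ a, ∃ w, om v w = a
  y_X : ∀ k, ∀ v, ∃ a, y k * X v * (y k)⁻¹ = X (rho k v) * z a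
  irr : ∀ W : AddSubgroup V, (∀ k, ∀ v ∈ W, rho k v ∈ W) → W = ⊥ ∨ W = ⊤

namespace Data

variable {Γ V A K : Type*} [Group Γ] [AddCommGroup V] [AddCommGroup A] (D : Data Γ V A K)

theorem z_zero : D.z 0 = 1 := by
  have h := D.z_add 0 0
  rw [add_zero] at h
  exact mul_right_cancel (b := D.z 0) (by rw [← h, one_mul])

theorem z_neg (a : A) : D.z (-a) = (D.z a)⁻¹ := by
  rw [eq_inv_iff_mul_eq_one, ← D.z_add, neg_add_cancel, D.z_zero]

theorem uniq [Nontrivial A] (v : V) (a : A) (h : D.X v = D.z a) : v = 0 := by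
  by_contra hv
  obtain ⟨b, hb⟩ := exists_ne (0 : A)
  obtain ⟨w, hw⟩ := D.special v hv b
  have h1 := D.comm v w
  rw [h, D.X_z, hw] at h1
  exact hb (D.z_inj b (mul_left_cancel (a := D.z a * D.X w) (by rw [← h1, mul_one])))

theorem z_comm (a b : A) : D.z a * D.z b = D.z b * D.z a := by rw [← D.z_add, ← D.z_add, add_comm]

theorem exists_X_zero : ∃ a, D.X 0 = D.z a := by
  obtain ⟨a, ha⟩ := D.X_add 0 0
  refine ⟨-a, ?_⟩
  rw [add_zero] at ha
  rw [D.z_neg, eq_inv_iff_mul_eq_one]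
  apply mul_left_cancel (a := D.X 0)
  rw [← mul_assoc, ← ha, mul_one]

theorem exists_X_neg (v : V) : ∃ a, (D.X v)⁻¹ = D.X (-v) * D.z a := by
  obtain ⟨a, ha⟩ := D.X_add v (-v)
  obtain ⟨b, hb⟩ := D.exists_X_zero
  rw [add_neg_cancel, hb] at ha
  refine ⟨a - b, ?_⟩
  rw [inv_eq_iff_mul_eq_one, ← mul_assoc, sub_eq_add_neg, D.z_add, ← mul_assoc, ← ha, D.z_neg, mul_inv_cancel]

/-- The group of all `z a`. -/
def Zg : Subgroup Γ where
  carrier := Set.range D.z
  one_mem' := ⟨0, D.z_zero⟩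
  mul_mem' := by
    rintro _ _ ⟨a, rfl⟩ ⟨b, rfl⟩
    exact ⟨a + b, D.z_add a b⟩
  inv_mem' := by
    rintro _ ⟨a, rfl⟩
    exact ⟨-a, D.z_neg a⟩

/-- The group of all `X v * z a`. -/
def Qg : Subgroup Γ where
  carrier := {g | ∃ v a, g = D.X v * D.z a}
  one_mem' := by
    obtain ⟨a, ha⟩ := D.exists_X_zero
    exact ⟨0, -a, by rw [ha, D.z_neg, mul_inv_cancel]⟩
  mul_mem' := by
    rintro _ _ ⟨v, a, rfl⟩ ⟨w, b, rfl⟩
    obtain ⟨c, hc⟩ := D.X_add v w
    refine ⟨v + w, -c + (a + b), ?_⟩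
    rw [hc, D.z_add, D.z_add, D.z_neg, mul_assoc (D.X v * D.X w), ← mul_assoc (D.z c), mul_inv_cancel, one_mul,
      mul_assoc (D.X v) (D.z a), ← mul_assoc (D.z a), ← D.X_z, mul_assoc, mul_assoc]
  inv_mem' := by
    rintro _ ⟨v, a, rfl⟩
    obtain ⟨b, hb⟩ := D.exists_X_neg v
    refine ⟨-v, b - a, ?_⟩
    rw [mul_inv_rev, hb, ← D.z_neg, ← mul_assoc, ← D.X_z, mul_assoc, ← D.z_add]
    congr 2
    abel

theorem z_mem_Qg (a : A) : D.z a ∈ D.Qg := by
  obtain ⟨b, hb⟩ := D.exists_X_zero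
  exact ⟨0, -b + a, by rw [hb, D.z_add, D.z_neg, mul_inv_cancel_left]⟩

theorem X_mem_Qg (v : V) : D.X v ∈ D.Qg := ⟨v, 0, by rw [D.z_zero, mul_one]⟩

theorem eq_of_mul_eq [Nontrivial A] {v w : V} {a b : A} (h : D.X v * D.z a = D.X w * D.z b) : v = w ∧ a = b := by
  have h1 : v = w := by
    obtain ⟨c, hc⟩ := D.X_add (v - w) w
    rw [sub_add_cancel] at hc
    rw [← sub_eq_zero]
    have h2 : D.X (v - w) = D.z (-c + (-a + b)) := by
      have h3 : D.X (v - w) = D.X v * (D.z c)⁻¹ * (D.X w)⁻¹ := by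
        rw [hc]
        group
      have h4 : D.X v = D.X w * D.z b * (D.z a)⁻¹ := by rw [← h]; group
      rw [h3, h4, ← D.z_neg, ← D.z_neg, mul_assoc (D.X w), ← D.z_add, mul_assoc (D.X w), ← D.z_add, D.X_z,
        mul_inv_cancel_right]
      congr 1
      abel
    exact D.uniq _ _ h2
  subst h1
  refine ⟨rfl, ?_⟩
  have h2 := mul_left_cancel h
  have h3 : D.z (a - b) = 1 := by rw [sub_eq_add_neg, D.z_add, D.z_neg, h2, mul_inv_cancel]
  exact sub_eq_zero.1 (D.z_inj _ h3)

theorem card_Qg [Nontrivial A] : Nat.card D.Qg = Nat.card V * Nat.card A := by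
  rw [← Nat.card_prod]
  symm
  refine Nat.card_congr (Equiv.ofBijective (fun p : V × A => (⟨D.X p.1 * D.z p.2, p.1, p.2, rfl⟩ : D.Qg)) ⟨?_, ?_⟩)
  · rintro ⟨v, a⟩ ⟨w, b⟩ h
    obtain ⟨h1, h2⟩ := D.eq_of_mul_eq (congrArg Subtype.val h)
    exact Prod.ext h1 h2
  · rintro ⟨_, v, a, rfl⟩
    exact ⟨(v, a), rfl⟩

theorem card_Zg : Nat.card D.Zg = Nat.card A := by
  symm
  refine Nat.card_congr (Equiv.ofBijective (fun a : A => (⟨D.z a, a, rfl⟩ : D.Zg)) ⟨?_, ?_⟩)
  · intro a b h
    have h1 : D.z a = D.z b := congrArg Subtype.val h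
    have h3 : D.z (a - b) = 1 := by rw [sub_eq_add_neg, D.z_add, D.z_neg, h1, mul_inv_cancel]
    exact sub_eq_zero.1 (D.z_inj _ h3)
  · rintro ⟨_, a, rfl⟩
    exact ⟨a, rfl⟩

/-- The group generated by all our elements. -/
def Pg : Subgroup Γ := Subgroup.closure (Set.range D.X ∪ Set.range D.z ∪ Set.range D.y)

theorem X_mem (v : V) : D.X v ∈ D.Pg := Subgroup.subset_closure (Or.inl (Or.inl ⟨v, rfl⟩))

theorem z_mem (a : A) : D.z a ∈ D.Pg := Subgroup.subset_closure (Or.inl (Or.inr ⟨a, rfl⟩))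

theorem y_mem (k : K) : D.y k ∈ D.Pg := Subgroup.subset_closure (Or.inr ⟨k, rfl⟩)

theorem Qg_le : D.Qg ≤ D.Pg := by
  rintro _ ⟨v, a, rfl⟩
  exact mul_mem (D.X_mem v) (D.z_mem a)

theorem Zg_le_Qg : D.Zg ≤ D.Qg := by
  rintro _ ⟨a, rfl⟩
  exact D.z_mem_Qg a

theorem central {g : Γ} (hg : g ∈ D.Pg) (a : A) : g * D.z a = D.z a * g := by
  have h : D.Pg ≤ Subgroup.centralizer ({D.z a} : Set Γ) := by
    rw [Pg, Subgroup.closure_le]
    rintro x ((⟨v, rfl⟩ | ⟨b, rfl⟩) | ⟨k, rfl⟩)
    · exact Subgroup.mem_centralizer_singleton_iff.2 (D.X_z v a)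
    · exact Subgroup.mem_centralizer_singleton_iff.2 (D.z_comm b a)
    · exact Subgroup.mem_centralizer_singleton_iff.2 (D.y_z k a)
  exact Subgroup.mem_centralizer_singleton_iff.1 (h hg)

theorem Pg_le_normalizer [Finite Γ] : D.Pg ≤ Subgroup.normalizer (D.Qg : Set Γ) := by
  rw [Pg, Subgroup.closure_le]
  rintro x ((⟨v, rfl⟩ | ⟨b, rfl⟩) | ⟨k, rfl⟩)
  · exact Subgroup.le_normalizer (D.X_mem_Qg v)
  · exact Subgroup.le_normalizer (D.z_mem_Qg b)
  · apply mem_norm
    rintro _ ⟨v, a, rfl⟩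
    obtain ⟨b, hb⟩ := D.y_X k v
    refine ⟨D.rho k v, b + a, ?_⟩
    calc D.y k * (D.X v * D.z a) * (D.y k)⁻¹ = D.y k * D.X v * (D.z a * (D.y k)⁻¹) := by group
      _ = D.y k * D.X v * ((D.y k)⁻¹ * D.z a) := by
        rw [D.central (inv_mem (D.y_mem k)) a]
      _ = (D.y k * D.X v * (D.y k)⁻¹) * D.z a := by group
      _ = _ := by rw [hb, D.z_add, mul_assoc]

/-- `Q` as a subgroup of `P`. -/
abbrev QQ : Subgroup D.Pg := D.Qg.subgroupOf D.Pg

/-- `Z` as a subgroup of `P`. -/
abbrev ZZ : Subgroup D.Pg := D.Zg.subgroupOf D.Pg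

theorem normal_QQ [Finite Γ] : D.QQ.Normal :=
  Subgroup.normal_subgroupOf_of_le_normalizer D.Pg_le_normalizer

theorem card_QQ [Nontrivial A] : Nat.card D.QQ = Nat.card V * Nat.card A := by
  rw [Nat.card_congr (Subgroup.subgroupOfEquivOfLe D.Qg_le).toEquiv, card_Qg]

theorem card_ZZ : Nat.card D.ZZ = Nat.card A := by
  rw [Nat.card_congr (Subgroup.subgroupOfEquivOfLe (D.Zg_le_Qg.trans D.Qg_le)).toEquiv, card_Zg]

theorem comm_eq (v w : V) (a b : A) :
    (D.X v * D.z a) * (D.X w * D.z b) * (D.X v * D.z a)⁻¹ * (D.X w * D.z b)⁻¹ = D.z (D.om v w) := by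
  have h1 : (D.X v * D.z a) * (D.X w * D.z b) = D.X v * D.X w * (D.z a * D.z b) := by
    rw [mul_assoc, ← mul_assoc (D.z a), ← D.X_z, mul_assoc, mul_assoc]
  have h2 : (D.X w * D.z b) * (D.X v * D.z a) = D.X w * D.X v * (D.z a * D.z b) := by
    rw [mul_assoc, ← mul_assoc (D.z b), ← D.X_z, D.z_comm a b, mul_assoc, mul_assoc]
  rw [mul_assoc _ (D.X v * D.z a)⁻¹, ← mul_inv_rev, h1, h2, D.comm, mul_inv_eq_iff_eq_mul]
  have h3 : D.X w * D.X v ∈ D.Pg := mul_mem (D.X_mem w) (D.X_mem v)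
  rw [D.central h3, mul_assoc]

theorem hyp : Hyp D.ZZ D.QQ where
  le := by
    intro g hg
    exact D.Zg_le_Qg hg
  central := by
    rintro z ⟨a, ha⟩ g
    apply Subtype.ext
    show (g : Γ) * (z : Γ) = (z : Γ) * (g : Γ)
    have ha' : D.z a = (z : Γ) := ha
    rw [← ha']
    exact D.central g.2 a
  comm_mem := by
    rintro x ⟨v, a, hx⟩ y ⟨w, b, hy⟩
    refine ⟨D.om v w, ?_⟩
    have hx' : (x : Γ) = D.X v * D.z a := hx
    have hy' : (y : Γ) = D.X w * D.z b := hy
    show D.z (D.om v w) = (x : Γ) * (y : Γ) * (x : Γ)⁻¹ * (y : Γ)⁻¹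
    rw [hx', hy', D.comm_eq]
  special := by
    rintro x ⟨v, a, hx⟩ hxZ z ⟨b, hz⟩
    have hx' : (x : Γ) = D.X v * D.z a := hx
    have hz' : D.z b = (z : Γ) := hz
    have hv : v ≠ 0 := by
      rintro rfl
      apply hxZ
      obtain ⟨c, hc⟩ := D.exists_X_zero
      exact ⟨c + a, by rw [D.z_add, ← hc]; exact hx'.symm⟩
    obtain ⟨w, hw⟩ := D.special v hv b
    refine ⟨⟨D.X w, D.X_mem w⟩, D.X_mem_Qg w, ?_⟩
    apply Subtype.ext
    show (x : Γ) * D.X w * (x : Γ)⁻¹ * (D.X w)⁻¹ = (z : Γ)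
    have h1 := D.comm_eq v w a 0
    rw [D.z_zero, mul_one, hw] at h1
    rw [hx', h1, hz']

theorem irred (R : Subgroup D.Pg) (hR : R.Normal) (hZ : D.ZZ ≤ R) (hQ : R ≤ D.QQ) : R = D.ZZ ∨ R = D.QQ := by
  have hz : ∀ a, (⟨D.z a, D.z_mem a⟩ : D.Pg) ∈ R := fun a => hZ ⟨a, rfl⟩
  let W : AddSubgroup V :=
    { carrier := {v | (⟨D.X v, D.X_mem v⟩ : D.Pg) ∈ R}
      zero_mem' := by
        obtain ⟨a, ha⟩ := D.exists_X_zero
        show (⟨D.X 0, D.X_mem 0⟩ : D.Pg) ∈ R
        have h1 : (⟨D.X 0, D.X_mem 0⟩ : D.Pg) = ⟨D.z a, D.z_mem a⟩ := Subtype.ext ha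
        rw [h1]
        exact hz a
      add_mem' := by
        intro v w hv hw
        obtain ⟨a, ha⟩ := D.X_add v w
        show (⟨D.X (v + w), D.X_mem (v + w)⟩ : D.Pg) ∈ R
        have h1 : (⟨D.X (v + w), D.X_mem (v + w)⟩ : D.Pg) =
            ⟨D.X v, D.X_mem v⟩ * ⟨D.X w, D.X_mem w⟩ * ⟨D.z a, D.z_mem a⟩ := Subtype.ext ha
        rw [h1]
        exact mul_mem (mul_mem hv hw) (hz a)
      neg_mem' := by
        intro v hv
        obtain ⟨a, ha⟩ := D.exists_X_neg v
        show (⟨D.X (-v), D.X_mem (-v)⟩ : D.Pg) ∈ R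
        have h1 : (⟨D.X (-v), D.X_mem (-v)⟩ : D.Pg) =
            (⟨D.X v, D.X_mem v⟩ : D.Pg)⁻¹ * (⟨D.z a, D.z_mem a⟩ : D.Pg)⁻¹ := by
          apply Subtype.ext
          show D.X (-v) = (D.X v)⁻¹ * (D.z a)⁻¹
          rw [ha, mul_inv_cancel_right]
        rw [h1]
        exact mul_mem (inv_mem hv) (inv_mem (hz a)) }
  have hW : ∀ v, v ∈ W ↔ (⟨D.X v, D.X_mem v⟩ : D.Pg) ∈ R := fun v => Iff.rfl
  have hinv : ∀ k, ∀ v ∈ W, D.rho k v ∈ W := by
    intro k v hv
    obtain ⟨a, ha⟩ := D.y_X k v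
    rw [hW] at hv ⊢
    have h1 := hR.conj_mem _ hv ⟨D.y k, D.y_mem k⟩
    have h2 : (⟨D.X (D.rho k v), D.X_mem _⟩ : D.Pg) =
        ((⟨D.y k, D.y_mem k⟩ : D.Pg) * ⟨D.X v, D.X_mem v⟩ * (⟨D.y k, D.y_mem k⟩ : D.Pg)⁻¹) *
          (⟨D.z a, D.z_mem a⟩ : D.Pg)⁻¹ := by
      apply Subtype.ext
      show D.X (D.rho k v) = (D.y k * D.X v * (D.y k)⁻¹) * (D.z a)⁻¹
      rw [ha, mul_inv_cancel_right]
    rw [h2]
    exact mul_mem h1 (inv_mem (hz a))
  rcases D.irr W hinv with h | h
  · left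
    refine le_antisymm ?_ hZ
    intro g hg
    obtain ⟨v, a, hva⟩ := hQ hg
    have hva' : (g : Γ) = D.X v * D.z a := hva
    have hv : v ∈ W := by
      rw [hW]
      have h2 : (⟨D.X v, D.X_mem v⟩ : D.Pg) = g * (⟨D.z a, D.z_mem a⟩ : D.Pg)⁻¹ := by
        apply Subtype.ext
        show D.X v = (g : Γ) * (D.z a)⁻¹
        rw [hva', mul_inv_cancel_right]
      rw [h2]
      exact mul_mem hg (inv_mem (hz a))
    rw [h, AddSubgroup.mem_bot] at hv
    subst hv
    obtain ⟨c, hc⟩ := D.exists_X_zero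
    exact ⟨c + a, by rw [D.z_add, ← hc]; exact hva'.symm⟩
  · right
    refine le_antisymm hQ ?_
    intro g hg
    obtain ⟨v, a, hva⟩ := hg
    have hva' : (g : Γ) = D.X v * D.z a := hva
    have hv : v ∈ W := by rw [h]; exact AddSubgroup.mem_top v
    rw [hW] at hv
    have h2 : g = (⟨D.X v, D.X_mem v⟩ : D.Pg) * (⟨D.z a, D.z_mem a⟩ : D.Pg) := Subtype.ext hva'
    rw [h2]
    exact mul_mem hv (hz a)

/-- A proper subgroup of `P` containing `Q` misses some `y k`. -/
theorem exists_not_mem {M : Subgroup D.Pg} (hQ : D.QQ ≤ M) (hM : M ≠ ⊤) : ∃ k, (⟨D.y k, D.y_mem k⟩ : D.Pg) ∉ M := by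
  by_contra hcon
  push Not at hcon
  apply hM
  rw [eq_top_iff]
  have h1 : D.Pg ≤ M.map D.Pg.subtype := by
    unfold Pg
    rw [Subgroup.closure_le]
    rintro x ((⟨v, rfl⟩ | ⟨b, rfl⟩) | ⟨κ, rfl⟩)
    · exact ⟨⟨_, D.X_mem v⟩, hQ (D.X_mem_Qg v), rfl⟩
    · exact ⟨⟨_, D.z_mem b⟩, hQ (D.z_mem_Qg b), rfl⟩
    · exact ⟨_, hcon κ, rfl⟩
  intro g _
  obtain ⟨g', hg', h⟩ := h1 g.2
  have : g' = g := Subtype.ext h
  rwa [← this]

/-- **Index bound.** -/
theorem index_bound [Finite Γ] [Nontrivial V] {X0 : Type*} [Group X0] [Finite X0] [IsSimpleGroup X0]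
    (π : Γ →* X0) {H : Subgroup X0} (hH : H ≠ ⊤)
    (hconj : ∀ a b, a ≠ 0 → b ≠ 0 → IsConj (D.z a) (D.z b)) {a0 : A} (ha0 : π (D.z a0) ≠ 1) (m : ℕ)
    (hm : ∀ M : Subgroup D.Pg, D.QQ ≤ M → M ≠ ⊤ → m ≤ M.index) :
    ∃ c, (∀ a, a ≠ 0 → fx (Cos π H) (D.z a) = c) ∧ c < H.index ∧
      (Nat.card V * Nat.card A ≤ H.index - c ∨
        m ^ 2 * (Nat.card A * (Nat.card V * Nat.card A)) ≤ (H.index - c) ^ 2) := by
  have ha1 : a0 ≠ 0 := by
    rintro rfl
    exact ha0 (by rw [D.z_zero, map_one])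
  have : Nontrivial A := ⟨a0, 0, ha1⟩
  have := D.normal_QQ
  have hc : ∀ a, a ≠ 0 → fx (Cos π H) (D.z a) = fx (Cos π H) (D.z a0) := fun a ha =>
    fx_of_isConj (hconj a a0 ha ha1)
  have hlt : fx (Cos π H) (D.z a0) < H.index := by
    rw [← card_cos π H]
    exact fx_lt (exists_moved π hH ha0)
  refine ⟨fx (Cos π H) (D.z a0), hc, hlt, ?_⟩
  have hz1 : D.z a0 ≠ 1 := fun h => ha0 (by rw [h, map_one])
  obtain ⟨lam, hl⟩ := D.hyp.exists_char (t := ⟨D.z a0, D.z_mem a0⟩) ⟨a0, rfl⟩ fun h => hz1 (congrArg Subtype.val h)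
  have hne : D.ZZ ≠ D.QQ := by
    intro h
    obtain ⟨v, hv⟩ := exists_ne (0 : V)
    have h1 : (⟨D.X v, D.X_mem v⟩ : D.Pg) ∈ D.ZZ := by
      rw [h]
      exact D.X_mem_Qg v
    obtain ⟨a, ha⟩ := h1
    exact hv (D.uniq v a ha.symm)
  have h1 := amp (Ω := Cos (π.comp D.Pg.subtype) H) D.hyp hl (fx (Cos π H) (D.z a0)) (fun z hz hz1 => by
      obtain ⟨a, ha⟩ := hz
      have ha' : D.z a = (z : Γ) := ha
      have ha2 : a ≠ 0 := by
        rintro rfl
        exact hz1 (Subtype.ext (by rw [← ha', D.z_zero]; rfl))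
      rw [← hc a ha2, ha']
      rfl) hlt m hm D.irred hne
  rw [card_QQ, card_ZZ] at h1
  exact h1

end Data

end Cfsg.Agent.H934.HeisData
end

-- part: H934/HeisRoot
section
/-!
# Special subgroups given by root elements

`RH`: root elements `x i t`, `z t`, `y β t` with commutator relations of a special group; `toData` produces the
coordinates of `HeisData.Data`.
-/

set_option autoImplicit false

namespace Cfsg.Agent.H934.HeisRoot

open Cfsg.Agent.H934.HeisData

/-- Follow the arrows `next`. -/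
def run {ι κ : Type*} (next : κ → ι → Option ι) : List κ → ι → Option ι
  | [], i => some i
  | β :: P, i => (next β i).bind (run next P)

theorem run_append {ι κ : Type*} {next : κ → ι → Option ι} {Q : List κ} {k j : ι} :
    ∀ {P : List κ} {i : ι}, run next P i = some j → run next Q j = some k → run next (P ++ Q) i = some k
  | [], i, h, h' => by
    rw [run, Option.some_inj] at h
    subst h
    exact h'
  | β :: P, i, h, h' => by
    cases hn : next β i with
    | none =>
      rw [run, hn] at h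
      simp at h
    | some l =>
      rw [run, hn] at h
      show (next β i).bind (run next (P ++ Q)) = some k
      rw [hn]
      exact run_append (P := P) (i := l) h h'

/-- Root elements of a special group and of a group acting on it. -/
structure RH (Γ F ι κ : Type*) [Group Γ] [Field F] [Fintype ι] [DecidableEq ι] where
  x : ι → F → Γ
  z : F → Γ
  y : κ → F → Γ
  x_add : ∀ i s t, x i (s + t) = x i s * x i t
  z_add : ∀ s t, z (s + t) = z s * z t
  z_inj : ∀ a, z a = 1 → a = 0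
  x_z : ∀ i t a, x i t * z a = z a * x i t
  y_z : ∀ β t a, y β t * z a = z a * y β t
  b : ι → ι → F
  x_comm : ∀ i j s t, x i s * x j t = x j t * x i s * z (b i j * s * t)
  opp : ι → ι
  b_opp : ∀ i, b i (opp i) ≠ 0
  b_zero : ∀ i k, k ≠ i → b k (opp i) = 0
  next : κ → ι → Option ι
  c : κ → ι → F
  c_ne : ∀ β i j, next β i = some j → c β i ≠ 0
  y_none : ∀ β i, next β i = none → ∀ t u, y β t * x i u * (y β t)⁻¹ = x i u
  y_some : ∀ β i j, next β i = some j → ∀ t u, y β t * x i u * (y β t)⁻¹ = x i u * x j (c β i * t * u)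
  iso : ∀ i, ∃ P j, P ≠ [] ∧ run next P i = some j ∧ ∀ k, k ≠ i → run next P k = none
  conn : ∀ i j, ∃ P, run next P i = some j

namespace RH

variable {Γ F ι κ : Type*} [Group Γ] [Field F] [Fintype ι] [DecidableEq ι] (R : RH Γ F ι κ)

theorem x_zero (i : ι) : R.x i 0 = 1 := by
  have h := R.x_add i 0 0
  rw [add_zero] at h
  exact mul_right_cancel (b := R.x i 0) (by rw [← h, one_mul])

theorem z_zero : R.z 0 = 1 := by
  have h := R.z_add 0 0
  rw [add_zero] at h
  exact mul_right_cancel (b := R.z 0) (by rw [← h, one_mul])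

/-- Product over a list. -/
def P (l : List ι) (v : ι → F) : Γ := (l.map fun i => R.x i (v i)).prod

theorem P_nil (v : ι → F) : R.P [] v = 1 := rfl

theorem P_cons (i : ι) (l : List ι) (v : ι → F) : R.P (i :: l) v = R.x i (v i) * R.P l v := by
  simp [P]

theorem P_z (l : List ι) (v : ι → F) (a : F) : R.P l v * R.z a = R.z a * R.P l v := by
  induction l with
  | nil => simp [P_nil]
  | cons i l ih => rw [P_cons, mul_assoc, ih, ← mul_assoc, R.x_z, mul_assoc]

theorem x_P_comm (i : ι) (t : F) (l : List ι) (v : ι → F) :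
    ∃ a, R.x i t * R.P l v = R.P l v * R.x i t * R.z a := by
  induction l with
  | nil => exact ⟨0, by rw [P_nil, R.z_zero, mul_one, one_mul, mul_one]⟩
  | cons j l ih =>
    obtain ⟨a, ha⟩ := ih
    refine ⟨R.b i j * t * v j + a, ?_⟩
    rw [P_cons, ← mul_assoc, R.x_comm i j t (v j), mul_assoc (R.x j (v j) * R.x i t), ← R.P_z, ← mul_assoc,
      mul_assoc (R.x j (v j)), ha, R.z_add, ← mul_assoc, ← mul_assoc, mul_assoc _ (R.z a), ← R.z_add, add_comm a,
      R.z_add, ← mul_assoc]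

theorem P_add (l : List ι) (v w : ι → F) : ∃ a, R.P l (v + w) = R.P l v * R.P l w * R.z a := by
  induction l with
  | nil => exact ⟨0, by rw [P_nil, P_nil, P_nil, R.z_zero, one_mul, one_mul]⟩
  | cons i l ih =>
    obtain ⟨a, ha⟩ := ih
    obtain ⟨b, hb⟩ := R.x_P_comm i (w i) l v
    refine ⟨b + a, ?_⟩
    have h1 : R.x i (w i) * R.P l v * (R.P l w * R.z a) = R.P l v * (R.x i (w i) * R.P l w) * R.z (b + a) := by
      rw [hb, R.z_add, mul_assoc (R.P l v * R.x i (w i)), ← mul_assoc (R.z b), ← R.P_z l w b]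
      simp only [mul_assoc]
    rw [P_cons, P_cons, P_cons, Pi.add_apply, R.x_add, ha]
    calc R.x i (v i) * R.x i (w i) * (R.P l v * R.P l w * R.z a)
        = R.x i (v i) * (R.x i (w i) * R.P l v * (R.P l w * R.z a)) := by simp only [mul_assoc]
      _ = _ := by rw [h1]; simp only [mul_assoc]

theorem P_single_not_mem {i : ι} {l : List ι} (h : i ∉ l) (t : F) : R.P l (Pi.single i t) = 1 := by
  induction l with
  | nil => rfl
  | cons j l ih =>
    rw [List.mem_cons, not_or] at h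
    rw [P_cons, Pi.single_eq_of_ne (Ne.symm h.1), R.x_zero, one_mul, ih h.2]

theorem P_single {i : ι} {l : List ι} (hl : l.Nodup) (h : i ∈ l) (t : F) : R.P l (Pi.single i t) = R.x i t := by
  induction l with
  | nil => simp at h
  | cons j l ih =>
    rw [List.nodup_cons] at hl
    rw [P_cons]
    rcases eq_or_ne i j with rfl | hij
    · rw [Pi.single_eq_same, R.P_single_not_mem hl.1, mul_one]
    · rw [Pi.single_eq_of_ne (Ne.symm hij), R.x_zero, one_mul]
      exact ih hl.2 (List.mem_of_ne_of_mem hij h)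

/-- The element of the special group with given coordinates. -/
noncomputable def X (v : ι → F) : Γ := R.P (Finset.univ : Finset ι).toList v

theorem X_add (v w : ι → F) : ∃ a, R.X (v + w) = R.X v * R.X w * R.z a := R.P_add _ v w

theorem X_z (v : ι → F) (a : F) : R.X v * R.z a = R.z a * R.X v := R.P_z _ v a

theorem X_single (i : ι) (t : F) : R.X (Pi.single i t) = R.x i t :=
  R.P_single (Finset.nodup_toList _) (Finset.mem_toList.2 (Finset.mem_univ i)) t

theorem X_zero : R.X 0 = 1 := by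
  unfold X
  generalize (Finset.univ : Finset ι).toList = l
  induction l with
  | nil => rfl
  | cons i l ih => rw [P_cons, ih, Pi.zero_apply, R.x_zero, one_mul]

/-- Additive properties hold everywhere as soon as they hold for the vectors with one non-zero coordinate. -/
theorem pi_induction {p : (ι → F) → Prop} (h0 : p 0) (hadd : ∀ v w, p v → p w → p (v + w))
    (hs : ∀ i t, p (Pi.single i t)) (v : ι → F) : p v := by
  rw [← Finset.univ_sum_single v]
  exact Finset.sum_induction _ p hadd h0 fun i _ => hs i (v i)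

/-- The commutator form. -/
def om (v w : ι → F) : F := ∑ i, ∑ j, R.b i j * v i * w j

theorem om_add_left (v v' w : ι → F) : R.om (v + v') w = R.om v w + R.om v' w := by
  unfold om
  rw [← Finset.sum_add_distrib]
  refine Finset.sum_congr rfl fun i _ => ?_
  rw [← Finset.sum_add_distrib]
  refine Finset.sum_congr rfl fun j _ => ?_
  rw [Pi.add_apply]
  ring

theorem om_add_right (v w w' : ι → F) : R.om v (w + w') = R.om v w + R.om v w' := by
  unfold om
  rw [← Finset.sum_add_distrib]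
  refine Finset.sum_congr rfl fun i _ => ?_
  rw [← Finset.sum_add_distrib]
  refine Finset.sum_congr rfl fun j _ => ?_
  rw [Pi.add_apply]
  ring

theorem om_zero_left (w : ι → F) : R.om 0 w = 0 := by simp [om]

theorem om_zero_right (v : ι → F) : R.om v 0 = 0 := by simp [om]

theorem om_single_right (v : ι → F) (j : ι) (t : F) : R.om v (Pi.single j t) = ∑ i, R.b i j * v i * t := by
  unfold om
  refine Finset.sum_congr rfl fun i _ => ?_
  rw [Finset.sum_eq_single j (fun k _ hk => by rw [Pi.single_eq_of_ne hk, mul_zero])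
    (fun h => absurd (Finset.mem_univ j) h), Pi.single_eq_same]

theorem om_single (i j : ι) (s t : F) : R.om (Pi.single i s) (Pi.single j t) = R.b i j * s * t := by
  rw [om_single_right, Finset.sum_eq_single i (fun k _ hk => by rw [Pi.single_eq_of_ne hk, mul_zero, zero_mul])
    (fun h => absurd (Finset.mem_univ i) h), Pi.single_eq_same]

theorem comm (v w : ι → F) : R.X v * R.X w = R.X w * R.X v * R.z (R.om v w) := by
  have hz : ∀ a b, R.z a * R.z b = R.z b * R.z a := fun a b => by rw [← R.z_add, ← R.z_add, add_comm]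
  revert w
  refine pi_induction (p := fun v => ∀ w, R.X v * R.X w = R.X w * R.X v * R.z (R.om v w)) ?_ ?_ ?_ v
  · intro w
    rw [X_zero, om_zero_left, R.z_zero, one_mul, mul_one, mul_one]
  · intro v v' hv hv' w
    obtain ⟨a, ha⟩ := R.X_add v v'
    have h1 := hv w
    have h2 := hv' w
    rw [om_add_left, ha, R.z_add]
    calc R.X v * R.X v' * R.z a * R.X w = R.X v * R.X v' * (R.z a * R.X w) := by simp only [mul_assoc]
      _ = R.X v * (R.X v' * R.X w) * R.z a := by rw [← R.X_z]; simp only [mul_assoc]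
      _ = (R.X v * R.X w) * R.X v' * R.z (R.om v' w) * R.z a := by rw [h2]; simp only [mul_assoc]
      _ = R.X w * R.X v * (R.z (R.om v w) * R.X v') * R.z (R.om v' w) * R.z a := by rw [h1]; simp only [mul_assoc]
      _ = R.X w * (R.X v * R.X v') * (R.z (R.om v w) * R.z (R.om v' w)) * R.z a := by
        rw [← R.X_z]; simp only [mul_assoc]
      _ = R.X w * (R.X v * R.X v') * (R.z a * (R.z (R.om v w) * R.z (R.om v' w))) := by
        rw [← R.z_add (R.om v w), mul_assoc, hz]
      _ = _ := by simp only [mul_assoc]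
  · intro i s w
    refine pi_induction (p := fun w => R.X (Pi.single i s) * R.X w = R.X w * R.X (Pi.single i s) *
      R.z (R.om (Pi.single i s) w)) ?_ ?_ ?_ w
    · rw [X_zero, om_zero_right, R.z_zero, one_mul, mul_one]
    · intro w w' h1 h2
      obtain ⟨a, ha⟩ := R.X_add w w'
      rw [om_add_right, ha, R.z_add]
      set x := R.X (Pi.single i s) with hx
      calc x * (R.X w * R.X w' * R.z a) = (x * R.X w) * R.X w' * R.z a := by simp only [mul_assoc]
        _ = R.X w * x * (R.z (R.om (Pi.single i s) w) * R.X w') * R.z a := by rw [h1]; simp only [mul_assoc]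
        _ = R.X w * (x * R.X w') * R.z (R.om (Pi.single i s) w) * R.z a := by
          rw [← R.X_z]; simp only [mul_assoc]
        _ = R.X w * R.X w' * x * R.z (R.om (Pi.single i s) w') * R.z (R.om (Pi.single i s) w) * R.z a := by
          rw [h2]; simp only [mul_assoc]
        _ = R.X w * R.X w' * (x * R.z a) * (R.z (R.om (Pi.single i s) w) * R.z (R.om (Pi.single i s) w')) := by
          have h3 : R.z (R.om (Pi.single i s) w') * (R.z (R.om (Pi.single i s) w) * R.z a) =
              R.z a * (R.z (R.om (Pi.single i s) w) * R.z (R.om (Pi.single i s) w')) := by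
            rw [← R.z_add, ← R.z_add, ← R.z_add, ← R.z_add]
            congr 1
            ring
          simp only [mul_assoc]
          rw [h3]
        _ = _ := by
          rw [hx, R.X_z]; simp only [mul_assoc]
    · intro j t
      rw [X_single, X_single, om_single]
      exact R.x_comm i j s t

theorem special {v : ι → F} (hv : v ≠ 0) (a : F) : ∃ w, R.om v w = a := by
  obtain ⟨i, hi⟩ := Function.ne_iff.1 hv
  have hi' : v i ≠ 0 := hi
  refine ⟨Pi.single (R.opp i) (a / (R.b i (R.opp i) * v i)), ?_⟩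
  rw [om_single_right, Finset.sum_eq_single i (fun k _ hk => by rw [R.b_zero i k hk, zero_mul, zero_mul])
    (fun h => absurd (Finset.mem_univ i) h)]
  exact mul_div_cancel₀ a (mul_ne_zero (R.b_opp i) hi')

/-- The nilpotent operators. -/
def N (β : κ) : (ι → F) →ₗ[F] (ι → F) where
  toFun v := fun j => ∑ i, if R.next β i = some j then R.c β i * v i else 0
  map_add' v w := by
    ext j
    rw [Pi.add_apply, ← Finset.sum_add_distrib]
    refine Finset.sum_congr rfl fun i _ => ?_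
    split_ifs
    · rw [Pi.add_apply]; ring
    · rw [add_zero]
  map_smul' a v := by
    ext j
    rw [Pi.smul_apply, RingHom.id_apply, smul_eq_mul, Finset.mul_sum]
    refine Finset.sum_congr rfl fun i _ => ?_
    split_ifs
    · rw [Pi.smul_apply, smul_eq_mul]; ring
    · rw [mul_zero]

theorem N_apply (β : κ) (v : ι → F) (j : ι) :
    R.N β v j = ∑ i, if R.next β i = some j then R.c β i * v i else 0 := rfl

theorem N_single_none {β : κ} {i : ι} (h : R.next β i = none) (a : F) : R.N β (Pi.single i a) = 0 := by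
  ext j
  rw [N_apply, Pi.zero_apply]
  refine Finset.sum_eq_zero fun k _ => ?_
  rcases eq_or_ne k i with rfl | hk
  · rw [h, if_neg (by simp)]
  · rw [Pi.single_eq_of_ne hk, mul_zero, ite_self]

theorem N_single_some {β : κ} {i j : ι} (h : R.next β i = some j) (a : F) :
    R.N β (Pi.single i a) = Pi.single j (R.c β i * a) := by
  ext k
  rw [N_apply, Finset.sum_eq_single i (fun l _ hl => by rw [Pi.single_eq_of_ne hl, mul_zero, ite_self])
    (fun h' => absurd (Finset.mem_univ i) h'), Pi.single_eq_same, h]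
  rcases eq_or_ne k j with rfl | hk
  · rw [if_pos rfl, Pi.single_eq_same]
  · rw [if_neg (by rw [Option.some_inj]; exact Ne.symm hk), Pi.single_eq_of_ne hk]

/-- Composition along a path. -/
def T : List κ → (ι → F) →ₗ[F] (ι → F)
  | [] => LinearMap.id
  | β :: L => (T L).comp (R.N β)

theorem T_single_none (L : List κ) : ∀ {i : ι}, run R.next L i = none → ∀ a, R.T L (Pi.single i a) = 0 := by
  induction L with
  | nil => intro i h; simp [run] at h
  | cons β L ih =>
    intro i h a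
    show R.T L (R.N β (Pi.single i a)) = 0
    cases hn : R.next β i with
    | none => rw [R.N_single_none hn, map_zero]
    | some j =>
      rw [R.N_single_some hn]
      apply ih
      rw [run, hn] at h
      exact h

theorem T_single_some (L : List κ) : ∀ {i j : ι}, run R.next L i = some j →
    ∃ e, e ≠ 0 ∧ ∀ a, R.T L (Pi.single i a) = Pi.single j (e * a) := by
  induction L with
  | nil =>
    intro i j h
    rw [run, Option.some_inj] at h
    subst h
    exact ⟨1, one_ne_zero, fun a => by rw [one_mul]; rfl⟩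
  | cons β L ih =>
    intro i j h
    cases hn : R.next β i with
    | none =>
      rw [run, hn] at h
      simp at h
    | some k =>
      rw [run, hn] at h
      obtain ⟨e, he, he'⟩ := ih h
      refine ⟨e * R.c β i, mul_ne_zero he (R.c_ne β i k hn), fun a => ?_⟩
      show R.T L (R.N β (Pi.single i a)) = _
      rw [R.N_single_some hn, he', mul_assoc]

/-- The action of `y β t`. -/
def rho (k : κ × F) (v : ι → F) : ι → F := v + k.2 • R.N k.1 v

theorem irr (W : AddSubgroup (ι → F)) (hW : ∀ k, ∀ v ∈ W, R.rho k v ∈ W) : W = ⊥ ∨ W = ⊤ := by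
  have h1 : ∀ (β : κ) (t : F), ∀ v ∈ W, t • R.N β v ∈ W := by
    intro β t v hv
    have h := W.sub_mem (hW (β, t) v hv) hv
    rwa [rho, add_sub_cancel_left] at h
  have h2 : ∀ L, ∀ v ∈ W, R.T L v ∈ W := by
    intro L
    induction L with
    | nil => exact fun v hv => hv
    | cons β L ih =>
      intro v hv
      apply ih
      have h := h1 β 1 v hv
      rwa [one_smul] at h
  have h3 : ∀ L, L ≠ [] → ∀ v ∈ W, ∀ t : F, t • R.T L v ∈ W := by
    intro L hL v hv t
    cases L with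
    | nil => exact absurd rfl hL
    | cons β L =>
      have h := h2 L _ (h1 β t v hv)
      rwa [map_smul] at h
  rcases eq_or_ne W ⊥ with h | h
  · exact Or.inl h
  right
  obtain ⟨v, hv, hv0⟩ : ∃ v : ι → F, v ∈ W ∧ v ≠ 0 := by
    by_contra hcon
    push Not at hcon
    exact h ((AddSubgroup.eq_bot_iff_forall W).2 hcon)
  obtain ⟨i, hi⟩ := Function.ne_iff.1 hv0
  have hi' : v i ≠ 0 := hi
  obtain ⟨L, j, hL, hr, hk⟩ := R.iso i
  obtain ⟨e, he, he'⟩ := R.T_single_some L hr
  have h4 : R.T L v = Pi.single j (e * v i) := by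
    conv_lhs => rw [← Finset.univ_sum_single v]
    rw [map_sum, Finset.sum_eq_single i (fun k _ hki => R.T_single_none L (hk k hki) _)
      (fun h' => absurd (Finset.mem_univ i) h'), he']
  have h5 : ∀ a, Pi.single j a ∈ W := by
    intro a
    have h6 := h3 L hL v hv (a / (e * v i))
    rw [h4, ← Pi.single_smul, smul_eq_mul, div_mul_cancel₀ _ (mul_ne_zero he hi')] at h6
    exact h6
  have h6 : ∀ k a, Pi.single k a ∈ W := by
    intro k a
    obtain ⟨L', hL'⟩ := R.conn j k
    obtain ⟨e', he1, he2⟩ := R.T_single_some L' hL'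
    have h7 := h2 L' _ (h5 (a / e'))
    rwa [he2, mul_div_cancel₀ _ he1] at h7
  rw [eq_top_iff]
  intro w _
  rw [← Finset.univ_sum_single w]
  exact W.sum_mem fun k _ => h6 k _

theorem y_X (k : κ × F) (v : ι → F) :
    ∃ a, R.y k.1 k.2 * R.X v * (R.y k.1 k.2)⁻¹ = R.X (R.rho k v) * R.z a := by
  obtain ⟨β, t⟩ := k
  have hadd : ∀ v w, R.rho (β, t) (v + w) = R.rho (β, t) v + R.rho (β, t) w := by
    intro v w
    simp only [rho, map_add, smul_add]
    abel
  refine pi_induction (p := fun v => ∃ a, R.y β t * R.X v * (R.y β t)⁻¹ = R.X (R.rho (β, t) v) * R.z a) ?_ ?_ ?_ v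
  · refine ⟨0, ?_⟩
    have h0 : R.rho (β, t) (0 : ι → F) = 0 := by simp only [rho, map_zero, smul_zero, add_zero]
    rw [h0, X_zero, R.z_zero, mul_one, mul_inv_cancel, one_mul]
  · rintro v w ⟨a, ha⟩ ⟨b, hb⟩
    obtain ⟨c, hc⟩ := R.X_add v w
    obtain ⟨d, hd⟩ := R.X_add (R.rho (β, t) v) (R.rho (β, t) w)
    refine ⟨-d + (a + (b + c)), ?_⟩
    rw [hadd, hd, hc]
    have hzc : R.y β t * R.z c * (R.y β t)⁻¹ = R.z c := by rw [R.y_z, mul_inv_cancel_right]
    calc R.y β t * (R.X v * R.X w * R.z c) * (R.y β t)⁻¹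
        = (R.y β t * R.X v * (R.y β t)⁻¹) * (R.y β t * R.X w * (R.y β t)⁻¹) * (R.y β t * R.z c * (R.y β t)⁻¹) := by
          group
      _ = R.X (R.rho (β, t) v) * (R.z a * R.X (R.rho (β, t) w)) * R.z b * R.z c := by
          rw [ha, hb, hzc]; simp only [mul_assoc]
      _ = R.X (R.rho (β, t) v) * R.X (R.rho (β, t) w) * (R.z a * (R.z b * R.z c)) := by
          rw [← R.X_z]; simp only [mul_assoc]
      _ = _ := by
          rw [← R.z_add b c, ← R.z_add a, mul_assoc (R.X (R.rho (β, t) v) * R.X (R.rho (β, t) w)) (R.z d),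
            ← R.z_add d, add_neg_cancel_left]
  · intro i u
    rw [X_single]
    cases hn : R.next β i with
    | none =>
      refine ⟨0, ?_⟩
      have h1 : R.rho (β, t) (Pi.single i u) = Pi.single i u := by
        simp only [rho]
        rw [R.N_single_none hn, smul_zero, add_zero]
      rw [h1, X_single, R.z_zero, mul_one, R.y_none β i hn]
    | some j =>
      obtain ⟨a, ha⟩ := R.X_add (Pi.single i u) (Pi.single j (R.c β i * t * u))
      refine ⟨-a, ?_⟩
      have h1 : R.rho (β, t) (Pi.single i u) = Pi.single i u + Pi.single j (R.c β i * t * u) := by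
        simp only [rho]
        rw [R.N_single_some hn, ← Pi.single_smul, smul_eq_mul]
        congr 2
        ring
      rw [h1, ha, X_single, X_single, R.y_some β i j hn, mul_assoc _ (R.z a), ← R.z_add, add_neg_cancel, R.z_zero,
        mul_one]

/-- The coordinates. -/
noncomputable def toData : Data Γ (ι → F) F (κ × F) where
  X := R.X
  z := R.z
  om := R.om
  y := fun k => R.y k.1 k.2
  rho := R.rho
  z_add := R.z_add
  z_inj := R.z_inj
  X_add := R.X_add
  X_z := R.X_z
  y_z := fun k a => R.y_z _ _ a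
  comm := R.comm
  special := fun _ hv a => R.special hv a
  y_X := R.y_X
  irr := R.irr

end RH

end Cfsg.Agent.H934.HeisRoot
end

private theorem dce_7ce9fa2d50b1 : _root_.True := by
  try have : _root_.True := by simp only [_root_.Cfsg.Agent.H934.HeisRoot.run.eq_def]
  try have : _root_.True := by simp only [_root_.Cfsg.Agent.H934.HeisRoot.run.eq_1]
  try have : _root_.True := by simp only [_root_.Cfsg.Agent.H934.HeisData.Data.Pg.eq_1]
  try have : _root_.True := by simp only [_root_.Cfsg.Agent.H934.HeisRoot.run.eq_2]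
  try have : _root_.True := by simp only [_root_.Cfsg.Agent.H934.HeisRoot.RH.om.eq_1]
  try have : _root_.True := by simp only [_root_.Cfsg.Agent.H934.HeisRoot.RH.rho.eq_1]
  try have : _root_.True := by simp only [_root_.Cfsg.Agent.H934.HeisRoot.RH.P.eq_1]
  exact _root_.True.intro
end

-- part: H934/HeisChev
section
set_option linter.all false
open scoped Cfsg.Agent.FastGrp

/-!
# The special group of the highest root in a Chevalley group

`HTab`: a table of the roots `r` with `(r, θ) = 1`, of roots orthogonal to `θ`, and of the structure constants; `Ok` is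
the (decidable) correctness. `HTab.rh` is the resulting family of root elements.
-/

set_option autoImplicit false

namespace Cfsg.Agent.H934.HeisChev

open Cfsg.Lie Cfsg.Agent.ChevalleyStructure.Elts Cfsg.Agent.H934.HeisRoot Cfsg.Agent.H934.HeisData
  Cfsg.Agent.H934.Burn MulAction

universe u

/-- Tables. -/
structure HTab (n k : ℕ) where
  S : Fin n → ℕ
  th : ℕ
  B : Fin k → ℕ
  opp : Fin n → Fin n
  e : Fin n → ℤ
  next : Fin k → Fin n → Option (Fin n)
  cc : Fin k → Fin n → ℤ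
  /-- index of the opposite root of `L` -/
  ng : Fin k → Fin k
  /-- index of a fundamental root acting on the highest one with exponent 1 -/
  p : ℕ

variable {n k : ℕ}

/-- Correctness of the tables. -/
structure HTab.Ok (T : HTab n k) (D : ChevalleyDatum) : Prop where
  S_lt : ∀ i, T.S i < D.nroots
  th_lt : T.th < D.nroots
  B_lt : ∀ β, T.B β < D.nroots
  th_ne : ∀ i, T.th ≠ T.S i ∧ T.th ≠ D.neg (T.S i) ∧ D.commTerms (T.S i) T.th = []
  th_ne' : ∀ β, T.th ≠ T.B β ∧ T.th ≠ D.neg (T.B β) ∧ D.commTerms (T.B β) T.th = []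
  S_ne : ∀ i j, i ≠ j → T.S i ≠ T.S j ∧ T.S i ≠ D.neg (T.S j) ∧
    D.commTerms (T.S j) (T.S i) = if j = T.opp i then [(T.th, T.e i, 1, 1)] else []
  opp_ne : ∀ i, T.opp i ≠ i
  opp_opp : ∀ i, T.opp (T.opp i) = i
  e_sq : ∀ i, T.e i * T.e i = 1
  B_ne : ∀ β i, T.B β ≠ T.S i ∧ T.B β ≠ D.neg (T.S i) ∧
    D.commTerms (T.S i) (T.B β) = match T.next β i with
      | none => []
      | some j => [(T.S j, T.cc β i, 1, 1)]
  c_sq : ∀ β i, T.cc β i * T.cc β i = 1
  B_comm : ∀ β i j, T.next β i = some j → T.next β j = none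
  ng_spec : ∀ β, T.B (T.ng β) = D.neg (T.B β)
  p_lt : T.p < D.rank
  p_th : D.cartan T.p T.th = 1
  iso : ∀ i, ∃ P j, P ≠ [] ∧ run T.next P i = some j ∧ ∀ l, l ≠ i → run T.next P l = none
  conn : ∀ i j, ∃ P, run T.next P i = some j

variable {D : ChevalleyDatum} (hD : InList D) {F : Type u} [Field F]

/-- `x_r(t)` as an element of the Chevalley group. -/
def xe (r : ℕ) (t : F) : ↥(D.group F) := ⟨xG hD r t, xG_mem_group hD r t⟩

theorem xe_add (r : ℕ) (s t : F) : xe hD r (s + t) = xe hD r s * xe hD r t := Subtype.ext (xG_add hD r s t).symm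

theorem xe_zero (r : ℕ) : xe hD r (0 : F) = 1 := Subtype.ext (xG_zero hD r)

theorem xe_neg (r : ℕ) (t : F) : xe hD r (-t) = (xe hD r t)⁻¹ := Subtype.ext (xG_inv hD r t).symm

theorem xe_eq_one {r : ℕ} (hr : r < D.nroots) {t : F} (h : xe hD r t = 1) : t = 0 :=
  (xG_eq_one_iff hD hr t).1 (congrArg Subtype.val h)

theorem comm_nil {r s : ℕ} (hr : r < D.nroots) (hs : s < D.nroots) (hrs : s ≠ r) (hneg : s ≠ D.neg r)
    (h : D.commTerms r s = []) (t u : F) : xe hD s u * xe hD r t = xe hD r t * xe hD s u := by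
  have h1 := Cfsg.Agent.S1025.result (F := F) D hD r s hr hs hrs hneg t u
  have h2 : D.commWord F r s t u = [] := by
    show (D.commTerms r s).map _ = _
    rw [h]
    rfl
  rw [h2, wordMat_nil, mul_one] at h1
  exact Subtype.ext (Units.ext h1)

theorem comm_single {r s l : ℕ} {c : ℤ} (hr : r < D.nroots) (hs : s < D.nroots) (hrs : s ≠ r) (hneg : s ≠ D.neg r)
    (h : D.commTerms r s = [(l, c, 1, 1)]) (t u : F) :
    xe hD s u * xe hD r t = xe hD r t * xe hD s u * xe hD l (-(c : F) * t * u) := by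
  have h1 := Cfsg.Agent.S1025.result (F := F) D hD r s hr hs hrs hneg t u
  have h2 : D.commWord F r s t u = [(l, -(c : F) * t * u)] := by
    show (D.commTerms r s).map _ = _
    rw [h]
    simp only [List.map_cons, List.map_nil, pow_one]
    congr 2
    ring
  rw [h2, wordMat_cons, wordMat_nil, mul_one] at h1
  exact Subtype.ext (Units.ext h1)

theorem cast_ne_zero {c : ℤ} (h : c * c = 1) : (c : F) ≠ 0 := by
  intro h0
  have h1 : ((c * c : ℤ) : F) = 1 := by rw [h, Int.cast_one]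
  rw [Int.cast_mul, h0, mul_zero] at h1
  exact zero_ne_one h1

/-- The root elements. -/
noncomputable def HTab.rh (T : HTab n k) (ok : T.Ok D) (F : Type u) [Field F] : RH ↥(D.group F) F (Fin n) (Fin k) where
  x := fun i => xe hD (T.S i)
  z := xe hD T.th
  y := fun β => xe hD (T.B β)
  x_add := fun i s t => xe_add hD _ s t
  z_add := fun s t => xe_add hD _ s t
  z_inj := fun a h => xe_eq_one hD ok.th_lt h
  x_z := fun i t a => (comm_nil hD (ok.S_lt i) ok.th_lt (ok.th_ne i).1 (ok.th_ne i).2.1 (ok.th_ne i).2.2 t a).symm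
  y_z := fun β t a =>
    (comm_nil hD (ok.B_lt β) ok.th_lt (ok.th_ne' β).1 (ok.th_ne' β).2.1 (ok.th_ne' β).2.2 t a).symm
  b := fun i j => if j = T.opp i then -(T.e i : F) else 0
  x_comm := by
    intro i j s t
    rcases eq_or_ne i j with rfl | hij
    · rw [if_neg (ok.opp_ne i).symm, zero_mul, zero_mul, xe_zero, mul_one, ← xe_add, ← xe_add, add_comm]
    · obtain ⟨h1, h2, h3⟩ := ok.S_ne i j hij
      split_ifs with h
      · rw [if_pos h] at h3
        rw [comm_single hD (ok.S_lt j) (ok.S_lt i) h1 h2 h3 t s]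
        congr 2
        ring
      · rw [if_neg h] at h3
        rw [comm_nil hD (ok.S_lt j) (ok.S_lt i) h1 h2 h3 t s, zero_mul, zero_mul, xe_zero, mul_one]
  opp := T.opp
  b_opp := fun i => by
    rw [if_pos rfl]
    exact neg_ne_zero.2 (cast_ne_zero (ok.e_sq i))
  b_zero := fun i l hl => by
    rw [if_neg]
    intro h
    apply hl
    rw [← ok.opp_opp l, ← h, ok.opp_opp]
  next := T.next
  c := fun β i => -(T.cc β i : F)
  c_ne := fun β i j _ => neg_ne_zero.2 (cast_ne_zero (ok.c_sq β i))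
  y_none := fun β i h t v => by
    obtain ⟨h1, h2, h3⟩ := ok.B_ne β i
    rw [h] at h3
    rw [comm_nil hD (ok.S_lt i) (ok.B_lt β) h1 h2 h3 v t, mul_inv_cancel_right]
  y_some := fun β i j h t v => by
    obtain ⟨h1, h2, h3⟩ := ok.B_ne β i
    rw [h] at h3
    obtain ⟨h4, h5, h6⟩ := ok.B_ne β j
    rw [ok.B_comm β i j h] at h6
    rw [comm_single hD (ok.S_lt i) (ok.B_lt β) h1 h2 h3 v t, mul_assoc (xe hD (T.S i) v),
      comm_nil hD (ok.S_lt j) (ok.B_lt β) h4 h5 h6 _ t, ← mul_assoc, mul_inv_cancel_right]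
    congr 2
    ring
  iso := ok.iso
  conn := ok.conn

/-- upper unitriangular -/
def up (t : F) : Matrix.SpecialLinearGroup (Fin 2) F := ⟨!![1, t; 0, 1], by rw [Matrix.det_fin_two_of]; ring⟩

/-- diagonal -/
def dg (c : F) (hc : c ≠ 0) : Matrix.SpecialLinearGroup (Fin 2) F :=
  ⟨!![c, 0; 0, c⁻¹], by rw [Matrix.det_fin_two_of, mul_inv_cancel₀ hc]; ring⟩

theorem dg_up (c : F) (hc : c ≠ 0) (t : F) : dg c hc * up t = up (c ^ 2 * t) * dg c hc := by
  apply Subtype.ext
  show !![c, 0; 0, c⁻¹] * !![1, t; 0, 1] = !![1, c ^ 2 * t; 0, 1] * !![c, 0; 0, c⁻¹]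
  rw [Matrix.mul_fin_two, Matrix.mul_fin_two]
  have h : c ^ 2 * t * c⁻¹ = c * t := by field_simp
  simp [h]

theorem z_isConj (T : HTab n k) (ok : T.Ok D) (a b : F) (ha : a ≠ 0) (hb : b ≠ 0) :
    IsConj (xe hD T.th a) (xe hD T.th b) := by
  have h1 := Cfsg.Agent.S1032.result (F := F) D hD T.p T.th ok.p_lt ok.th_lt (b / a) (div_ne_zero hb ha) a
  rw [ok.p_th, zpow_one, div_mul_cancel₀ _ ha] at h1
  rw [isConj_iff]
  refine ⟨⟨hG hD (D.simple T.p) (b / a), hG_mem_group hD _ _⟩, ?_⟩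
  rw [mul_inv_eq_iff_eq_mul]
  apply Subtype.ext
  apply Units.ext
  show (hG hD (D.simple T.p) (b / a) * xG hD T.th a : GL D.Idx F).val =
    (xG hD T.th b * hG hD (D.simple T.p) (b / a) : GL D.Idx F).val
  rw [Units.val_mul, Units.val_mul, coe_hG]
  exact h1

/-- Overgroups of `Q` in `P`. -/
theorem index_ge [Fintype F] (T : HTab n k) (ok : T.Ok D) (M : Subgroup (T.rh hD ok F).toData.Pg)
    (hQ : (T.rh hD ok F).toData.QQ ≤ M) (hM : M ≠ ⊤) : Fintype.card F ≤ 2 * M.index := by
  classical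
  have : Finite (GL D.Idx F) := inferInstance
  obtain ⟨⟨β, t0⟩, hκ⟩ := (T.rh hD ok F).toData.exists_not_mem hQ hM
  -- the homomorphism of `SL₂`
  obtain ⟨φ, hφ1, hφ2⟩ := Cfsg.Agent.S1030.result (F := F) D hD (T.B β) (ok.B_lt β)
  have hrange : ∀ g, ∃ g' : (T.rh hD ok F).toData.Pg, ((g' : ↥(D.group F)) : GL D.Idx F) = φ g := by
    intro g
    have h1 : φ.range ≤ ((T.rh hD ok F).toData.Pg.map (D.group F).subtype) := by
      rw [hφ1, sup_le_iff]
      constructor
      · intro x hx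
        obtain ⟨t, rfl⟩ := (mem_rootSubgroup_iff hD _ _).1 hx
        exact ⟨xe hD (T.B β) t, (T.rh hD ok F).toData.y_mem (β, t), rfl⟩
      · intro x hx
        obtain ⟨t, rfl⟩ := (mem_rootSubgroup_iff hD _ _).1 hx
        rw [← ok.ng_spec β]
        exact ⟨xe hD (T.B (T.ng β)) t, (T.rh hD ok F).toData.y_mem (T.ng β, t), rfl⟩
    obtain ⟨x, hx, hxg⟩ := h1 ⟨g, rfl⟩
    exact ⟨⟨x, hx⟩, hxg⟩
  let x : F → (T.rh hD ok F).toData.Pg :=
    fun t => ⟨(T.rh hD ok F).toData.y (β, t), (T.rh hD ok F).toData.y_mem (β, t)⟩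
  have hadd : ∀ s t, x (s + t) = x s * x t := fun s t => Subtype.ext (xe_add hD _ s t)
  have hup : ∀ t : F, φ (up t) = ((x t : ↥(D.group F)) : GL D.Idx F) :=
    fun t => Units.ext ((hφ2 _ t).1 rfl)
  have hconj : ∀ c : F, c ≠ 0 → ∀ t, ∃ h : (T.rh hD ok F).toData.Pg, h * x t * h⁻¹ = x (c ^ 2 * t) := by
    intro c hc t
    obtain ⟨h, hh⟩ := hrange (dg c hc)
    refine ⟨h, ?_⟩
    rw [mul_inv_eq_iff_eq_mul]
    apply Subtype.ext
    apply Subtype.ext
    show ((h : ↥(D.group F)) : GL D.Idx F) * ((x t : ↥(D.group F)) : GL D.Idx F) =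
      ((x (c ^ 2 * t) : ↥(D.group F)) : GL D.Idx F) * ((h : ↥(D.group F)) : GL D.Idx F)
    rw [hh, ← hup, ← hup, ← map_mul, ← map_mul, dg_up]
  have h1 := BurnSq.card_le_two_mul (Ω := (T.rh hD ok F).toData.Pg ⧸ M) x hadd hconj
    ⟨t0, ((1 : (T.rh hD ok F).toData.Pg) : (T.rh hD ok F).toData.Pg ⧸ M), fun h => by
      have h2 : ((x t0 * 1 : (T.rh hD ok F).toData.Pg) : (T.rh hD ok F).toData.Pg ⧸ M) =
        ((1 : (T.rh hD ok F).toData.Pg) : (T.rh hD ok F).toData.Pg ⧸ M) := h
      apply hκ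
      have h3 := QuotientGroup.eq.1 h2.symm
      rwa [inv_one, one_mul, mul_one] at h3⟩
  exact h1

include hD in
/-- **The bound.** -/
theorem bound [Fintype F] (T : HTab n k) (ok : T.Ok D) (hn : 0 < n) {X : Type*} [Group X] [Finite X]
    [IsSimpleGroup X] (π : ↥(D.group F) →* X) (hπ : Function.Injective π) {H : Subgroup X} (hH : H ≠ ⊤) (m : ℕ)
    (hm : m = 2 ∨ 2 * m ≤ Fintype.card F + 1) :
    Fintype.card F ^ (n + 1) ≤ H.index ∨ m ^ 2 * Fintype.card F ^ (n + 2) ≤ H.index ^ 2 := by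
  classical
  have : Finite (GL D.Idx F) := inferInstance
  have : Nonempty (Fin n) := ⟨⟨0, hn⟩⟩
  obtain ⟨c, -, -, h⟩ := (T.rh hD ok F).toData.index_bound π hH (a0 := 1) (fun a b ha hb => z_isConj hD T ok a b ha hb)
    (fun h => by
      have h1 : xe hD T.th (1 : F) = 1 := hπ (by rw [map_one]; exact h)
      exact one_ne_zero (xe_eq_one hD ok.th_lt h1)) m (fun M hQ hM => by
      rcases hm with rfl | hm
      · have h1 : M.index ≠ 1 := fun h => hM (Subgroup.index_eq_one.1 h)
        have h2 : M.index ≠ 0 := Subgroup.FiniteIndex.index_ne_zero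
        omega
      · have := index_ge hD T ok M hQ hM
        omega)
  rw [Nat.card_fun, Nat.card_eq_fintype_card (α := F), Nat.card_eq_fintype_card (α := Fin n), Fintype.card_fin] at h
  rcases h with h | h
  · left
    rw [pow_succ]
    exact h.trans (Nat.sub_le _ _)
  · right
    calc m ^ 2 * Fintype.card F ^ (n + 2) = m ^ 2 * (Fintype.card F * (Fintype.card F ^ n * Fintype.card F)) := by ring
      _ ≤ (H.index - c) ^ 2 := h
      _ ≤ _ := Nat.pow_le_pow_left (Nat.sub_le _ _) 2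

end Cfsg.Agent.H934.HeisChev

private theorem dce_c516cbaa8cc2 : _root_.True := by
  try have : _root_.True := by simp only [_root_.Cfsg.Agent.H934.HeisChev.xe.congr_simp]
  exact _root_.True.intro
end

-- part: H934/HeisD4
section
set_option linter.all false
open scoped Cfsg.Agent.FastGrp

/-!
# The special group `q^{1+8}` of `D₄(q)`

Every proper subgroup of `PΩ₈⁺(q)` has index at least `2 q⁵`, and at least `q⁶ / 2`.
-/

set_option autoImplicit false

namespace Cfsg.Agent.H934.HeisD4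

open Cfsg.Lie Cfsg.Agent.ChevalleyStructure.Elts Cfsg.Agent.H934.HeisRoot Cfsg.Agent.H934.HeisChev

/-- list look-up -/
def at' {α : Type} (d : α) : List α → ℕ → α
  | [], _ => d
  | a :: _, 0 => a
  | _ :: l, n + 1 => at' d l n

/-- decode: 0 is `none` -/
def dec8 (a : ℕ) : Option (Fin 8) := if h : 1 ≤ a ∧ a ≤ 8 then some ⟨a - 1, by omega⟩ else none

/-- The tables of `D₄`. -/
def tab : HTab 8 6 where
  S := fun i => at' 0 [14, 15, 16, 17, 19, 20, 21, 22] i
  th := 23
  B := fun i => at' 0 [12, 13, 18, 11, 10, 5] i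
  opp := fun i => ⟨7 - i, by omega⟩
  e := fun i => at' 0 [-1, 1, 1, -1, 1, -1, -1, 1] i
  next := fun b i => dec8 (at' 0 (at' [] [[2, 0, 4, 0, 6, 0, 8, 0], [3, 4, 0, 0, 7, 8, 0, 0], [5, 6, 7, 8, 0, 0, 0, 0],
    [0, 1, 0, 3, 0, 5, 0, 7], [0, 0, 1, 2, 0, 0, 5, 6], [0, 0, 0, 0, 1, 2, 3, 4]] b) i)
  cc := fun b i => at' 0 (at' [] [[-1, 1, -1, 1, -1, 1, -1, 1], [-1, -1, 1, 1, -1, -1, 1, 1], [1, 1, 1, 1, 1, 1, 1, 1],
    [1, -1, 1, -1, 1, -1, 1, -1], [1, 1, -1, -1, 1, 1, -1, -1], [1, 1, 1, 1, 1, 1, 1, 1]] b) i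
  ng := fun b => ⟨((b : ℕ) + 3) % 6, Nat.mod_lt _ (by norm_num)⟩
  p := 1

/-- path from the vertex `i` to the vertex `j` of the cube -/
def path (i j : Fin 8) : List (Fin 6) :=
  (if i.val % 2 = 0 ∧ j.val % 2 = 1 then [0] else if i.val % 2 = 1 ∧ j.val % 2 = 0 then [3] else []) ++
  (if i.val / 2 % 2 = 0 ∧ j.val / 2 % 2 = 1 then [1] else if i.val / 2 % 2 = 1 ∧ j.val / 2 % 2 = 0 then [4] else []) ++
  (if i.val / 4 = 0 ∧ j.val / 4 = 1 then [2] else if i.val / 4 = 1 ∧ j.val / 4 = 0 then [5] else [])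

theorem tab_ok : tab.Ok chevD4 where
  S_lt := by decide +kernel
  th_lt := by decide +kernel
  B_lt := by decide +kernel
  th_ne := by decide +kernel
  th_ne' := by decide +kernel
  S_ne := by decide +kernel
  opp_ne := by decide +kernel
  opp_opp := by decide +kernel
  e_sq := by decide +kernel
  B_ne := by decide +kernel
  c_sq := by decide +kernel
  B_comm := by decide +kernel
  ng_spec := by decide +kernel
  p_lt := by decide +kernel
  p_th := by decide +kernel
  iso := fun i => ⟨path i (tab.opp i), tab.opp i, by revert i; decide +kernel⟩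
  conn := fun i j => ⟨path i j, by revert i j; decide +kernel⟩

theorem hD : InList chevD4 := by simp [InList]

universe u

/-- `PΩ₈⁺(q)`: the basic bound. -/
theorem four_le {F : Type u} [Field F] [Fintype F]
    (hs : IsSimpleGroup (Cfsg.POmega F (Cfsg.quadFormPlus 4 F)))
    (H : Subgroup (Cfsg.POmega F (Cfsg.quadFormPlus 4 F))) (hH : H ≠ ⊤) :
    4 * Fintype.card F ^ 10 ≤ H.index ^ 2 := by
  obtain ⟨e⟩ := Cfsg.Agent.S1082.result (F := F)
  have : Finite (Cfsg.isometryGroup F (Cfsg.quadFormPlus 4 F)) := inferInstance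
  have : Finite (Cfsg.POmega F (Cfsg.quadFormPlus 4 F)) := inferInstance
  have hq : 2 ≤ Fintype.card F := Fintype.one_lt_card
  rcases bound hD tab tab_ok (by norm_num) (e : ↥(chevD4.group F) →* _) e.injective hH 2 (Or.inl rfl) with h | h
  · have h1 := Nat.pow_le_pow_left h 2
    refine le_trans ?_ h1
    rw [← pow_mul]
    calc 4 * Fintype.card F ^ 10 ≤ Fintype.card F ^ 2 * Fintype.card F ^ 10 := by
          apply Nat.mul_le_mul_right
          nlinarith
      _ = Fintype.card F ^ 12 := by ring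
      _ ≤ _ := Nat.pow_le_pow_right (by omega) (by norm_num)
  · exact h

/-- `PΩ₈⁺(q)`, `q` odd or even. -/
theorem pow_six_le {F : Type u} [Field F] [Fintype F]
    (hs : IsSimpleGroup (Cfsg.POmega F (Cfsg.quadFormPlus 4 F)))
    (H : Subgroup (Cfsg.POmega F (Cfsg.quadFormPlus 4 F))) (hH : H ≠ ⊤) :
    Fintype.card F ^ 6 ≤ 2 * H.index := by
  obtain ⟨e⟩ := Cfsg.Agent.S1082.result (F := F)
  have : Finite (Cfsg.isometryGroup F (Cfsg.quadFormPlus 4 F)) := inferInstance
  have : Finite (Cfsg.POmega F (Cfsg.quadFormPlus 4 F)) := inferInstance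
  have hq : 2 ≤ Fintype.card F := Fintype.one_lt_card
  rcases bound hD tab tab_ok (by norm_num) (e : ↥(chevD4.group F) →* _) e.injective hH ((Fintype.card F + 1) / 2)
    (Or.inr (Nat.mul_div_le _ _)) with h | h
  · have h1 : Fintype.card F ^ 6 ≤ Fintype.card F ^ (8 + 1) := Nat.pow_le_pow_right (by omega) (by norm_num)
    omega
  · have h2 : Fintype.card F ≤ 2 * ((Fintype.card F + 1) / 2) := by omega
    have h3 : (Fintype.card F ^ 6) ^ 2 ≤ (2 * H.index) ^ 2 := by
      calc (Fintype.card F ^ 6) ^ 2 = Fintype.card F ^ 2 * Fintype.card F ^ 10 := by ring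
        _ ≤ (2 * ((Fintype.card F + 1) / 2)) ^ 2 * Fintype.card F ^ 10 :=
          Nat.mul_le_mul_right _ (Nat.pow_le_pow_left h2 2)
        _ = 4 * (((Fintype.card F + 1) / 2) ^ 2 * Fintype.card F ^ (8 + 2)) := by ring
        _ ≤ 4 * H.index ^ 2 := Nat.mul_le_mul_left _ h
        _ = _ := by ring
    exact (Nat.pow_le_pow_iff_left (by norm_num)).1 h3

end Cfsg.Agent.H934.HeisD4
end

-- part: H934/HeisE6
section
set_option linter.all false
open scoped Cfsg.Agent.FastGrp

/-!
# The special group of the highest root in E₆(q)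

`|E₆(q) : H| ≥ 2 q^11` for every proper subgroup `H` (`q ^ 21` is the order of the special group).
-/

set_option autoImplicit false

namespace Cfsg.Agent.H934.HeisE6

open Cfsg.Lie Cfsg.Agent.ChevalleyStructure.Elts Cfsg.Agent.H934.HeisRoot Cfsg.Agent.H934.HeisChev

/-- list look-up -/
def at' {α : Type} (d : α) : List α → ℕ → α
  | [], _ => d
  | a :: _, 0 => a
  | _ :: l, n + 1 => at' d l n

/-- decode: 0 is `none` -/
def dec (a : ℕ) : Option (Fin 20) := if h : 1 ≤ a ∧ a ≤ 20 then some ⟨a - 1, by omega⟩ else none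

/-- byte `i` of `N` -/
def byte (N i : ℕ) : ℕ := (N >>> (8 * i)) % 256

/-- sign from bit `i` of `N` -/
def sg (N i : ℕ) : ℤ := if N.testBit i then -1 else 1

/-- index -/
def toF (a : ℕ) : Fin 10 := ⟨a % 10, Nat.mod_lt _ (by norm_num)⟩

/-- The tables. -/
def tab : HTab 20 10 where
  S := fun i => byte 0x464544434241403f3e3d37363534333231302f2e i
  th := 71
  B := fun i => byte 0x2322201d0f2425272a38 i
  opp := fun i => ⟨19 - i, by omega⟩
  e := fun i => sg 0x54ad5 i
  next := fun b i => dec (byte (at' 0 [0x100f0e0d0c0b00000000, 0x13121100000000000000000007060500, 0x1400000000000f0e0000000009080000000002, 0x130000100000000c000a0000000600000300, 0x1200000f000d0000000900070000040000, 0xa090807060500000000000000000000, 0x100f0e00000000000000000004030200000000, 0x13000000000d0c00000000070600000000000100, 0x1200000f0000000b0009000000050000020000, 0x1100000e000c000000080006000003000000] b) i)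
  cc := fun b i => sg (at' 0 [0x0, 0xe00e, 0x41861, 0x24512, 0x128a4, 0x0, 0x70070, 0x86182, 0x48a24, 0x25148] b) i
  ng := fun b => ⟨((b : ℕ) + 5) % 10, Nat.mod_lt _ (by norm_num)⟩
  p := 1

/-- paths to the highest weight -/
def upP : List (List ℕ) := [[2, 1, 0, 3, 2, 1, 4, 3, 2], [1, 0, 3, 2, 1, 4, 3, 2], [1, 0, 2, 1, 4, 3, 2], [1, 0, 2, 1, 3, 2], [0, 3, 2, 1, 4, 3, 2], [0, 2, 1, 4, 3, 2], [0, 2, 1, 3, 2], [0, 1, 4, 3, 2], [0, 1, 3, 2], [0, 1, 2], [3, 2, 1, 4, 3, 2], [2, 1, 4, 3, 2], [2, 1, 3, 2], [1, 4, 3, 2], [1, 3, 2], [1, 2], [4, 3, 2], [3, 2], [2], []]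

/-- paths to the lowest weight -/
def dnP : List (List ℕ) := [[], [7], [8, 7], [9, 8, 7], [6, 7], [6, 8, 7], [6, 9, 8, 7], [7, 6, 8, 7], [7, 6, 9, 8, 7], [8, 7, 6, 9, 8, 7], [5, 6, 7], [5, 6, 8, 7], [5, 6, 9, 8, 7], [5, 7, 6, 8, 7], [5, 7, 6, 9, 8, 7], [5, 8, 7, 6, 9, 8, 7], [6, 5, 7, 6, 8, 7], [6, 5, 7, 6, 9, 8, 7], [6, 5, 8, 7, 6, 9, 8, 7], [7, 6, 5, 8, 7, 6, 9, 8, 7]]

/-- paths from the lowest weight -/
def frP : List (List ℕ) := [[], [2], [2, 3], [2, 3, 4], [2, 1], [2, 3, 1], [2, 3, 4, 1], [2, 3, 1, 2], [2, 3, 4, 1, 2], [2, 3, 4, 1, 2, 3], [2, 1, 0], [2, 3, 1, 0], [2, 3, 4, 1, 0], [2, 3, 1, 2, 0], [2, 3, 4, 1, 2, 0], [2, 3, 4, 1, 2, 3, 0], [2, 3, 1, 2, 0, 1], [2, 3, 4, 1, 2, 0, 1], [2, 3, 4, 1, 2, 3, 0, 1], [2, 3, 4, 1, 2, 3, 0, 1, 2]]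

/-- the isolating path -/
def isoP (i : Fin 20) : List (Fin 10) := (at' [] upP i ++ at' [] dnP 19).map toF

theorem isoP_run : ∀ i, isoP i ≠ [] ∧ run tab.next (isoP i) i = some 0 ∧
    ∀ l, l ≠ i → run tab.next (isoP i) l = none := by decide +kernel

theorem dnP_run : ∀ i : Fin 20, run tab.next ((at' [] dnP i).map toF) i = some 0 := by decide +kernel

theorem frP_run : ∀ i : Fin 20, run tab.next ((at' [] frP i).map toF) 0 = some i := by decide +kernel

theorem S_ne : ∀ i j, i ≠ j → tab.S i ≠ tab.S j ∧ tab.S i ≠ chevE6.neg (tab.S j) ∧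
    chevE6.commTerms (tab.S j) (tab.S i) = if j = tab.opp i then [(tab.th, tab.e i, 1, 1)] else [] := by
  decide +kernel

theorem tab_ok : tab.Ok chevE6 where
  S_lt := by decide +kernel
  th_lt := by decide +kernel
  B_lt := by decide +kernel
  th_ne := by decide +kernel
  th_ne' := by decide +kernel
  S_ne := S_ne
  opp_ne := by decide +kernel
  opp_opp := by decide +kernel
  e_sq := by decide +kernel
  B_ne := by decide +kernel
  c_sq := by decide +kernel
  B_comm := by decide +kernel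
  ng_spec := by decide +kernel
  p_lt := by decide +kernel
  p_th := by decide +kernel
  iso := fun i => ⟨isoP i, 0, isoP_run i⟩
  conn := fun i j => ⟨_, run_append (dnP_run i) (frP_run j)⟩

theorem hD : InList chevE6 := by simp [InList]

universe u

/-- The index bound. -/
theorem sq_le {F : Type u} [Field F] [Fintype F] (hs : IsSimpleGroup ↥(chevE6.group F))
    (H : Subgroup ↥(chevE6.group F)) (hH : H ≠ ⊤) : 4 * Fintype.card F ^ 22 ≤ H.index ^ 2 := by
  have : Finite (GL chevE6.Idx F) := inferInstance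
  have hq : 2 ≤ Fintype.card F := Fintype.one_lt_card
  rcases bound hD tab tab_ok (by norm_num) (MonoidHom.id ↥(chevE6.group F)) Function.injective_id hH 2
    (Or.inl rfl) with h | h
  · have h1 := Nat.pow_le_pow_left h 2
    refine le_trans ?_ h1
    rw [← pow_mul]
    calc 4 * Fintype.card F ^ 22 ≤ Fintype.card F ^ 2 * Fintype.card F ^ 22 := by
          apply Nat.mul_le_mul_right
          nlinarith
      _ = Fintype.card F ^ 24 := by ring
      _ ≤ _ := Nat.pow_le_pow_right (by omega) (by norm_num)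
  · exact h

theorem two_mul_le {F : Type u} [Field F] [Fintype F] (hs : IsSimpleGroup ↥(chevE6.group F))
    (H : Subgroup ↥(chevE6.group F)) (hH : H ≠ ⊤) : 2 * Fintype.card F ^ 11 ≤ H.index := by
  have h := sq_le hs H hH
  have h1 : (2 * Fintype.card F ^ 11) ^ 2 ≤ H.index ^ 2 := by
    calc (2 * Fintype.card F ^ 11) ^ 2 = 4 * Fintype.card F ^ 22 := by ring
      _ ≤ _ := h
  exact (Nat.pow_le_pow_iff_left (by norm_num)).1 h1

end Cfsg.Agent.H934.HeisE6
end

-- part: H934/HeisSq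
section
prune_inst 0x20200400500002000018051200001e6286000090006b000000e00b420e880d60a9012f21b4301010000282c44038006000100010420000000a000c00411900a080891202a118ad00300006000004000000000000000000000000000000000000000000000
set_option linter.all false
open scoped Cfsg.Agent.FastGrp

/-!
# Special groups of root elements: the unamplified bound

`D0`: coordinates for a special group; `RS`: root elements; `HT`: tables of structure constants (not only `±1`).
`bound0`: `|F| ^ (n + 2) ≤ |X : H| ^ 2`.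
-/

set_option autoImplicit false

namespace Cfsg.Agent.H934.HeisSq

open MulAction Cfsg.Agent.H934.Burn Cfsg.Agent.H934.Heis

/-- Coordinates for a special subgroup. -/
structure D0 (Γ V A : Type*) [Group Γ] [AddCommGroup V] [AddCommGroup A] where
  X : V → Γ
  z : A → Γ
  om : V → V → A
  z_add : ∀ a b, z (a + b) = z a * z b
  z_inj : ∀ a, z a = 1 → a = 0
  X_add : ∀ v w, ∃ a, X (v + w) = X v * X w * z a
  X_z : ∀ v a, X v * z a = z a * X v
  comm : ∀ v w, X v * X w = X w * X v * z (om v w)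
  special : ∀ v, v ≠ 0 → ∀ a, ∃ w, om v w = a

namespace D0

variable {Γ V A : Type*} [Group Γ] [AddCommGroup V] [AddCommGroup A] (D : D0 Γ V A)

theorem z_zero : D.z 0 = 1 := by
  have h := D.z_add 0 0
  rw [add_zero] at h
  exact mul_right_cancel (b := D.z 0) (by rw [← h, one_mul])

theorem z_neg (a : A) : D.z (-a) = (D.z a)⁻¹ := by
  rw [eq_inv_iff_mul_eq_one, ← D.z_add, neg_add_cancel, D.z_zero]

theorem uniq [Nontrivial A] (v : V) (a : A) (h : D.X v = D.z a) : v = 0 := by
  by_contra hv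
  obtain ⟨b, hb⟩ := exists_ne (0 : A)
  obtain ⟨w, hw⟩ := D.special v hv b
  have h1 := D.comm v w
  rw [h, D.X_z, hw] at h1
  exact hb (D.z_inj b (mul_left_cancel (a := D.z a * D.X w) (by rw [← h1, mul_one])))

theorem z_comm (a b : A) : D.z a * D.z b = D.z b * D.z a := by rw [← D.z_add, ← D.z_add, add_comm]

theorem exists_X_zero : ∃ a, D.X 0 = D.z a := by
  obtain ⟨a, ha⟩ := D.X_add 0 0
  refine ⟨-a, ?_⟩
  rw [add_zero] at ha
  rw [D.z_neg, eq_inv_iff_mul_eq_one]
  apply mul_left_cancel (a := D.X 0)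
  rw [← mul_assoc, ← ha, mul_one]

theorem exists_X_neg (v : V) : ∃ a, (D.X v)⁻¹ = D.X (-v) * D.z a := by
  obtain ⟨a, ha⟩ := D.X_add v (-v)
  obtain ⟨b, hb⟩ := D.exists_X_zero
  rw [add_neg_cancel, hb] at ha
  refine ⟨a - b, ?_⟩
  rw [inv_eq_iff_mul_eq_one, ← mul_assoc, sub_eq_add_neg, D.z_add, ← mul_assoc, ← ha, D.z_neg, mul_inv_cancel]

/-- The group of all `z a`. -/
def Zg : Subgroup Γ where
  carrier := Set.range D.z
  one_mem' := ⟨0, D.z_zero⟩
  mul_mem' := by
    rintro _ _ ⟨a, rfl⟩ ⟨b, rfl⟩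
    exact ⟨a + b, D.z_add a b⟩
  inv_mem' := by
    rintro _ ⟨a, rfl⟩
    exact ⟨-a, D.z_neg a⟩

/-- The group of all `X v * z a`. -/
def Qg : Subgroup Γ where
  carrier := {g | ∃ v a, g = D.X v * D.z a}
  one_mem' := by
    obtain ⟨a, ha⟩ := D.exists_X_zero
    exact ⟨0, -a, by rw [ha, D.z_neg, mul_inv_cancel]⟩
  mul_mem' := by
    rintro _ _ ⟨v, a, rfl⟩ ⟨w, b, rfl⟩
    obtain ⟨c, hc⟩ := D.X_add v w
    refine ⟨v + w, -c + (a + b), ?_⟩
    rw [hc, D.z_add, D.z_add, D.z_neg, mul_assoc (D.X v * D.X w), ← mul_assoc (D.z c), mul_inv_cancel, one_mul,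
      mul_assoc (D.X v) (D.z a), ← mul_assoc (D.z a), ← D.X_z, mul_assoc, mul_assoc]
  inv_mem' := by
    rintro _ ⟨v, a, rfl⟩
    obtain ⟨b, hb⟩ := D.exists_X_neg v
    refine ⟨-v, b - a, ?_⟩
    rw [mul_inv_rev, hb, ← D.z_neg, ← mul_assoc, ← D.X_z, mul_assoc, ← D.z_add]
    congr 2
    abel

theorem z_mem_Qg (a : A) : D.z a ∈ D.Qg := by
  obtain ⟨b, hb⟩ := D.exists_X_zero
  exact ⟨0, -b + a, by rw [hb, D.z_add, D.z_neg, mul_inv_cancel_left]⟩

theorem X_mem_Qg (v : V) : D.X v ∈ D.Qg := ⟨v, 0, by rw [D.z_zero, mul_one]⟩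

theorem eq_of_mul_eq [Nontrivial A] {v w : V} {a b : A} (h : D.X v * D.z a = D.X w * D.z b) : v = w ∧ a = b := by
  have h1 : v = w := by
    obtain ⟨c, hc⟩ := D.X_add (v - w) w
    rw [sub_add_cancel] at hc
    rw [← sub_eq_zero]
    have h2 : D.X (v - w) = D.z (-c + (-a + b)) := by
      have h3 : D.X (v - w) = D.X v * (D.z c)⁻¹ * (D.X w)⁻¹ := by
        rw [hc]
        group
      have h4 : D.X v = D.X w * D.z b * (D.z a)⁻¹ := by rw [← h]; group
      rw [h3, h4, ← D.z_neg, ← D.z_neg, mul_assoc (D.X w), ← D.z_add, mul_assoc (D.X w), ← D.z_add, D.X_z,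
        mul_inv_cancel_right]
      congr 1
      abel
    exact D.uniq _ _ h2
  subst h1
  refine ⟨rfl, ?_⟩
  have h2 := mul_left_cancel h
  have h3 : D.z (a - b) = 1 := by rw [sub_eq_add_neg, D.z_add, D.z_neg, h2, mul_inv_cancel]
  exact sub_eq_zero.1 (D.z_inj _ h3)

theorem card_Qg [Nontrivial A] : Nat.card D.Qg = Nat.card V * Nat.card A := by
  rw [← Nat.card_prod]
  symm
  refine Nat.card_congr (Equiv.ofBijective (fun p : V × A => (⟨D.X p.1 * D.z p.2, p.1, p.2, rfl⟩ : D.Qg)) ⟨?_, ?_⟩)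
  · rintro ⟨v, a⟩ ⟨w, b⟩ h
    obtain ⟨h1, h2⟩ := D.eq_of_mul_eq (congrArg Subtype.val h)
    exact Prod.ext h1 h2
  · rintro ⟨_, v, a, rfl⟩
    exact ⟨(v, a), rfl⟩

theorem card_Zg : Nat.card D.Zg = Nat.card A := by
  symm
  refine Nat.card_congr (Equiv.ofBijective (fun a : A => (⟨D.z a, a, rfl⟩ : D.Zg)) ⟨?_, ?_⟩)
  · intro a b h
    have h1 : D.z a = D.z b := congrArg Subtype.val h
    have h3 : D.z (a - b) = 1 := by rw [sub_eq_add_neg, D.z_add, D.z_neg, h1, mul_inv_cancel]
    exact sub_eq_zero.1 (D.z_inj _ h3)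
  · rintro ⟨_, a, rfl⟩
    exact ⟨a, rfl⟩

theorem zQ_comm {g : Γ} (hg : g ∈ D.Qg) (a : A) : g * D.z a = D.z a * g := by
  obtain ⟨v, b, rfl⟩ := hg
  rw [mul_assoc, D.z_comm, ← mul_assoc, D.X_z, mul_assoc]

theorem comm_eq (v w : V) (a b : A) :
    (D.X v * D.z a) * (D.X w * D.z b) * (D.X v * D.z a)⁻¹ * (D.X w * D.z b)⁻¹ = D.z (D.om v w) := by
  have h1 : (D.X v * D.z a) * (D.X w * D.z b) = D.X v * D.X w * (D.z a * D.z b) := by
    rw [mul_assoc, ← mul_assoc (D.z a), ← D.X_z, mul_assoc, mul_assoc]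
  have h2 : (D.X w * D.z b) * (D.X v * D.z a) = D.X w * D.X v * (D.z a * D.z b) := by
    rw [mul_assoc, ← mul_assoc (D.z b), ← D.X_z, D.z_comm a b, mul_assoc, mul_assoc]
  rw [mul_assoc _ (D.X v * D.z a)⁻¹, ← mul_inv_rev, h1, h2, D.comm, mul_inv_eq_iff_eq_mul]
  have h3 : D.X w * D.X v ∈ D.Qg := mul_mem (D.X_mem_Qg w) (D.X_mem_Qg v)
  rw [D.zQ_comm h3, mul_assoc]

theorem hyp : Hyp (D.Zg.subgroupOf D.Qg) (⊤ : Subgroup D.Qg) where
  le := le_top
  central := by
    rintro z ⟨a, ha⟩ g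
    apply Subtype.ext
    have ha' : D.z a = (z : Γ) := ha
    show (g : Γ) * (z : Γ) = (z : Γ) * (g : Γ)
    rw [← ha']
    exact D.zQ_comm g.2 a
  comm_mem := by
    rintro ⟨_, v, a, rfl⟩ _ ⟨_, w, b, rfl⟩ _
    exact ⟨D.om v w, (D.comm_eq v w a b).symm⟩
  special := by
    rintro ⟨_, v, a, rfl⟩ _ hxZ z ⟨b, hz⟩
    have hz' : D.z b = (z : Γ) := hz
    have hv : v ≠ 0 := by
      rintro rfl
      apply hxZ
      obtain ⟨c, hc⟩ := D.exists_X_zero
      exact ⟨c + a, by rw [D.z_add, ← hc]; rfl⟩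
    obtain ⟨w, hw⟩ := D.special v hv b
    refine ⟨⟨D.X w, D.X_mem_Qg w⟩, trivial, ?_⟩
    apply Subtype.ext
    show (D.X v * D.z a) * D.X w * (D.X v * D.z a)⁻¹ * (D.X w)⁻¹ = (z : Γ)
    have h1 := D.comm_eq v w a 0
    rw [D.z_zero, mul_one, hw] at h1
    rw [h1, hz']

theorem sq_bound [Finite Γ] {X0 : Type*} [Group X0] [Finite X0] [IsSimpleGroup X0]
    (π : Γ →* X0) {H : Subgroup X0} (hH : H ≠ ⊤)
    (hconj : ∀ a b, a ≠ 0 → b ≠ 0 → IsConj (D.z a) (D.z b)) {a0 : A} (ha0 : π (D.z a0) ≠ 1) :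
    Nat.card A * (Nat.card V * Nat.card A) ≤ H.index ^ 2 := by
  have ha1 : a0 ≠ 0 := by
    rintro rfl
    exact ha0 (by rw [D.z_zero, map_one])
  have : Nontrivial A := ⟨a0, 0, ha1⟩
  have hlt : fx (Cos π H) (D.z a0) < H.index := by
    rw [← card_cos π H]
    exact fx_lt (exists_moved π hH ha0)
  have hz1 : D.z a0 ≠ 1 := fun h => ha1 (D.z_inj _ h)
  obtain ⟨lam, hl⟩ := D.hyp.exists_char (t := ⟨D.z a0, D.z_mem_Qg a0⟩) ⟨a0, rfl⟩
    fun h => hz1 (congrArg Subtype.val h)
  have h1 := Heis.sq_le (Ω := Cos (π.comp D.Qg.subtype) H) D.hyp hl (fx (Cos π H) (D.z a0)) (fun z hz hz1 => by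
      obtain ⟨a, ha⟩ := hz
      have ha' : D.z a = (z : Γ) := ha
      have ha2 : a ≠ 0 := by
        rintro rfl
        exact hz1 (Subtype.ext (by rw [← ha', D.z_zero]; rfl))
      rw [← fx_of_isConj (Ω := Cos π H) (hconj a a0 ha2 ha1), ha']
      rfl) hlt
  have h2 : Nat.card (D.Zg.subgroupOf D.Qg) = Nat.card A := by
    rw [Nat.card_congr (Subgroup.subgroupOfEquivOfLe (fun g hg => by
      obtain ⟨a, rfl⟩ := hg
      exact D.z_mem_Qg a)).toEquiv, card_Zg]
  rw [h2, Subgroup.card_top, card_Qg] at h1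
  exact h1.trans (Nat.pow_le_pow_left (Nat.sub_le _ _) 2)

end D0

/-- Root elements of a special group. -/
structure RS (Γ F ι : Type*) [Group Γ] [Field F] [Fintype ι] [DecidableEq ι] where
  x : ι → F → Γ
  z : F → Γ
  x_add : ∀ i s t, x i (s + t) = x i s * x i t
  z_add : ∀ s t, z (s + t) = z s * z t
  z_inj : ∀ a, z a = 1 → a = 0
  x_z : ∀ i t a, x i t * z a = z a * x i t
  b : ι → ι → F
  x_comm : ∀ i j s t, x i s * x j t = x j t * x i s * z (b i j * s * t)
  opp : ι → ι
  b_opp : ∀ i, b i (opp i) ≠ 0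
  b_zero : ∀ i k, k ≠ i → b k (opp i) = 0

namespace RS

variable {Γ F ι : Type*} [Group Γ] [Field F] [Fintype ι] [DecidableEq ι] (R : RS Γ F ι)

theorem x_zero (i : ι) : R.x i 0 = 1 := by
  have h := R.x_add i 0 0
  rw [add_zero] at h
  exact mul_right_cancel (b := R.x i 0) (by rw [← h, one_mul])

theorem z_zero : R.z 0 = 1 := by
  have h := R.z_add 0 0
  rw [add_zero] at h
  exact mul_right_cancel (b := R.z 0) (by rw [← h, one_mul])

/-- Product over a list. -/
def P (l : List ι) (v : ι → F) : Γ := (l.map fun i => R.x i (v i)).prod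

theorem P_nil (v : ι → F) : R.P [] v = 1 := rfl

theorem P_cons (i : ι) (l : List ι) (v : ι → F) : R.P (i :: l) v = R.x i (v i) * R.P l v := by
  simp [P]

theorem P_z (l : List ι) (v : ι → F) (a : F) : R.P l v * R.z a = R.z a * R.P l v := by
  induction l with
  | nil => simp [P_nil]
  | cons i l ih => rw [P_cons, mul_assoc, ih, ← mul_assoc, R.x_z, mul_assoc]

theorem x_P_comm (i : ι) (t : F) (l : List ι) (v : ι → F) :
    ∃ a, R.x i t * R.P l v = R.P l v * R.x i t * R.z a := by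
  induction l with
  | nil => exact ⟨0, by rw [P_nil, R.z_zero, mul_one, one_mul, mul_one]⟩
  | cons j l ih =>
    obtain ⟨a, ha⟩ := ih
    refine ⟨R.b i j * t * v j + a, ?_⟩
    rw [P_cons, ← mul_assoc, R.x_comm i j t (v j), mul_assoc (R.x j (v j) * R.x i t), ← R.P_z, ← mul_assoc,
      mul_assoc (R.x j (v j)), ha, R.z_add, ← mul_assoc, ← mul_assoc, mul_assoc _ (R.z a), ← R.z_add, add_comm a,
      R.z_add, ← mul_assoc]

theorem P_add (l : List ι) (v w : ι → F) : ∃ a, R.P l (v + w) = R.P l v * R.P l w * R.z a := by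
  induction l with
  | nil => exact ⟨0, by rw [P_nil, P_nil, P_nil, R.z_zero, one_mul, one_mul]⟩
  | cons i l ih =>
    obtain ⟨a, ha⟩ := ih
    obtain ⟨b, hb⟩ := R.x_P_comm i (w i) l v
    refine ⟨b + a, ?_⟩
    have h1 : R.x i (w i) * R.P l v * (R.P l w * R.z a) = R.P l v * (R.x i (w i) * R.P l w) * R.z (b + a) := by
      rw [hb, R.z_add, mul_assoc (R.P l v * R.x i (w i)), ← mul_assoc (R.z b), ← R.P_z l w b]
      simp only [mul_assoc]
    rw [P_cons, P_cons, P_cons, Pi.add_apply, R.x_add, ha]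
    calc R.x i (v i) * R.x i (w i) * (R.P l v * R.P l w * R.z a)
        = R.x i (v i) * (R.x i (w i) * R.P l v * (R.P l w * R.z a)) := by simp only [mul_assoc]
      _ = _ := by rw [h1]; simp only [mul_assoc]

theorem P_single_not_mem {i : ι} {l : List ι} (h : i ∉ l) (t : F) : R.P l (Pi.single i t) = 1 := by
  induction l with
  | nil => rfl
  | cons j l ih =>
    rw [List.mem_cons, not_or] at h
    rw [P_cons, Pi.single_eq_of_ne (Ne.symm h.1), R.x_zero, one_mul, ih h.2]

theorem P_single {i : ι} {l : List ι} (hl : l.Nodup) (h : i ∈ l) (t : F) : R.P l (Pi.single i t) = R.x i t := by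
  induction l with
  | nil => simp at h
  | cons j l ih =>
    rw [List.nodup_cons] at hl
    rw [P_cons]
    rcases eq_or_ne i j with rfl | hij
    · rw [Pi.single_eq_same, R.P_single_not_mem hl.1, mul_one]
    · rw [Pi.single_eq_of_ne (Ne.symm hij), R.x_zero, one_mul]
      exact ih hl.2 (List.mem_of_ne_of_mem hij h)

/-- The element of the special group with given coordinates. -/
noncomputable def X (v : ι → F) : Γ := R.P (Finset.univ : Finset ι).toList v

theorem X_add (v w : ι → F) : ∃ a, R.X (v + w) = R.X v * R.X w * R.z a := R.P_add _ v w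

theorem X_z (v : ι → F) (a : F) : R.X v * R.z a = R.z a * R.X v := R.P_z _ v a

theorem X_single (i : ι) (t : F) : R.X (Pi.single i t) = R.x i t :=
  R.P_single (Finset.nodup_toList _) (Finset.mem_toList.2 (Finset.mem_univ i)) t

theorem X_zero : R.X 0 = 1 := by
  unfold X
  generalize (Finset.univ : Finset ι).toList = l
  induction l with
  | nil => rfl
  | cons i l ih => rw [P_cons, ih, Pi.zero_apply, R.x_zero, one_mul]

/-- Additive properties hold everywhere as soon as they hold for the vectors with one non-zero coordinate. -/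
theorem pi_induction {p : (ι → F) → Prop} (h0 : p 0) (hadd : ∀ v w, p v → p w → p (v + w))
    (hs : ∀ i t, p (Pi.single i t)) (v : ι → F) : p v := by
  rw [← Finset.univ_sum_single v]
  exact Finset.sum_induction _ p hadd h0 fun i _ => hs i (v i)

/-- The commutator form. -/
def om (v w : ι → F) : F := ∑ i, ∑ j, R.b i j * v i * w j

theorem om_add_left (v v' w : ι → F) : R.om (v + v') w = R.om v w + R.om v' w := by
  unfold om
  rw [← Finset.sum_add_distrib]
  refine Finset.sum_congr rfl fun i _ => ?_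
  rw [← Finset.sum_add_distrib]
  refine Finset.sum_congr rfl fun j _ => ?_
  rw [Pi.add_apply]
  ring

theorem om_add_right (v w w' : ι → F) : R.om v (w + w') = R.om v w + R.om v w' := by
  unfold om
  rw [← Finset.sum_add_distrib]
  refine Finset.sum_congr rfl fun i _ => ?_
  rw [← Finset.sum_add_distrib]
  refine Finset.sum_congr rfl fun j _ => ?_
  rw [Pi.add_apply]
  ring

theorem om_zero_left (w : ι → F) : R.om 0 w = 0 := by simp [om]

theorem om_zero_right (v : ι → F) : R.om v 0 = 0 := by simp [om]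

theorem om_single_right (v : ι → F) (j : ι) (t : F) : R.om v (Pi.single j t) = ∑ i, R.b i j * v i * t := by
  unfold om
  refine Finset.sum_congr rfl fun i _ => ?_
  rw [Finset.sum_eq_single j (fun k _ hk => by rw [Pi.single_eq_of_ne hk, mul_zero])
    (fun h => absurd (Finset.mem_univ j) h), Pi.single_eq_same]

theorem om_single (i j : ι) (s t : F) : R.om (Pi.single i s) (Pi.single j t) = R.b i j * s * t := by
  rw [om_single_right, Finset.sum_eq_single i (fun k _ hk => by rw [Pi.single_eq_of_ne hk, mul_zero, zero_mul])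
    (fun h => absurd (Finset.mem_univ i) h), Pi.single_eq_same]

theorem comm (v w : ι → F) : R.X v * R.X w = R.X w * R.X v * R.z (R.om v w) := by
  have hz : ∀ a b, R.z a * R.z b = R.z b * R.z a := fun a b => by rw [← R.z_add, ← R.z_add, add_comm]
  revert w
  refine pi_induction (p := fun v => ∀ w, R.X v * R.X w = R.X w * R.X v * R.z (R.om v w)) ?_ ?_ ?_ v
  · intro w
    rw [X_zero, om_zero_left, R.z_zero, one_mul, mul_one, mul_one]
  · intro v v' hv hv' w
    obtain ⟨a, ha⟩ := R.X_add v v'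
    have h1 := hv w
    have h2 := hv' w
    rw [om_add_left, ha, R.z_add]
    calc R.X v * R.X v' * R.z a * R.X w = R.X v * R.X v' * (R.z a * R.X w) := by simp only [mul_assoc]
      _ = R.X v * (R.X v' * R.X w) * R.z a := by rw [← R.X_z]; simp only [mul_assoc]
      _ = (R.X v * R.X w) * R.X v' * R.z (R.om v' w) * R.z a := by rw [h2]; simp only [mul_assoc]
      _ = R.X w * R.X v * (R.z (R.om v w) * R.X v') * R.z (R.om v' w) * R.z a := by rw [h1]; simp only [mul_assoc]
      _ = R.X w * (R.X v * R.X v') * (R.z (R.om v w) * R.z (R.om v' w)) * R.z a := by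
        rw [← R.X_z]; simp only [mul_assoc]
      _ = R.X w * (R.X v * R.X v') * (R.z a * (R.z (R.om v w) * R.z (R.om v' w))) := by
        rw [← R.z_add (R.om v w), mul_assoc, hz]
      _ = _ := by simp only [mul_assoc]
  · intro i s w
    refine pi_induction (p := fun w => R.X (Pi.single i s) * R.X w = R.X w * R.X (Pi.single i s) *
      R.z (R.om (Pi.single i s) w)) ?_ ?_ ?_ w
    · rw [X_zero, om_zero_right, R.z_zero, one_mul, mul_one]
    · intro w w' h1 h2
      obtain ⟨a, ha⟩ := R.X_add w w'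
      rw [om_add_right, ha, R.z_add]
      set x := R.X (Pi.single i s) with hx
      calc x * (R.X w * R.X w' * R.z a) = (x * R.X w) * R.X w' * R.z a := by simp only [mul_assoc]
        _ = R.X w * x * (R.z (R.om (Pi.single i s) w) * R.X w') * R.z a := by rw [h1]; simp only [mul_assoc]
        _ = R.X w * (x * R.X w') * R.z (R.om (Pi.single i s) w) * R.z a := by
          rw [← R.X_z]; simp only [mul_assoc]
        _ = R.X w * R.X w' * x * R.z (R.om (Pi.single i s) w') * R.z (R.om (Pi.single i s) w) * R.z a := by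
          rw [h2]; simp only [mul_assoc]
        _ = R.X w * R.X w' * (x * R.z a) * (R.z (R.om (Pi.single i s) w) * R.z (R.om (Pi.single i s) w')) := by
          have h3 : R.z (R.om (Pi.single i s) w') * (R.z (R.om (Pi.single i s) w) * R.z a) =
              R.z a * (R.z (R.om (Pi.single i s) w) * R.z (R.om (Pi.single i s) w')) := by
            rw [← R.z_add, ← R.z_add, ← R.z_add, ← R.z_add]
            congr 1
            ring
          simp only [mul_assoc]
          rw [h3]
        _ = _ := by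
          rw [hx, R.X_z]; simp only [mul_assoc]
    · intro j t
      rw [X_single, X_single, om_single]
      exact R.x_comm i j s t

theorem special {v : ι → F} (hv : v ≠ 0) (a : F) : ∃ w, R.om v w = a := by
  obtain ⟨i, hi⟩ := Function.ne_iff.1 hv
  have hi' : v i ≠ 0 := hi
  refine ⟨Pi.single (R.opp i) (a / (R.b i (R.opp i) * v i)), ?_⟩
  rw [om_single_right, Finset.sum_eq_single i (fun k _ hk => by rw [R.b_zero i k hk, zero_mul, zero_mul])
    (fun h => absurd (Finset.mem_univ i) h)]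
  exact mul_div_cancel₀ a (mul_ne_zero (R.b_opp i) hi')

/-- The coordinates. -/
noncomputable def toD0 : D0 Γ (ι → F) F where
  X := R.X
  z := R.z
  om := R.om
  z_add := R.z_add
  z_inj := R.z_inj
  X_add := R.X_add
  X_z := R.X_z
  comm := R.comm
  special := fun _ hv a => R.special hv a

end RS

section Chev

open Cfsg.Lie Cfsg.Agent.ChevalleyStructure.Elts Cfsg.Agent.H934.HeisChev

universe u

/-- Tables. -/
structure HT (n : ℕ) where
  S : Fin n → ℕ
  th : ℕ
  opp : Fin n → Fin n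
  e : Fin n → ℤ
  p : ℕ

variable {n : ℕ}

/-- Correctness of the tables. -/
structure HT.Ok (T : HT n) (D : ChevalleyDatum) : Prop where
  S_lt : ∀ i, T.S i < D.nroots
  th_lt : T.th < D.nroots
  th_ne : ∀ i, T.th ≠ T.S i ∧ T.th ≠ D.neg (T.S i) ∧ D.commTerms (T.S i) T.th = []
  S_ne : ∀ i j, i ≠ j → T.S i ≠ T.S j ∧ T.S i ≠ D.neg (T.S j) ∧
    D.commTerms (T.S j) (T.S i) = if j = T.opp i then [(T.th, T.e i, 1, 1)] else []
  opp_ne : ∀ i, T.opp i ≠ i
  opp_opp : ∀ i, T.opp (T.opp i) = i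
  p_lt : T.p < D.rank
  p_th : D.cartan T.p T.th = 1

variable {D : ChevalleyDatum} (hD : InList D) {F : Type u} [Field F]

/-- The root elements. -/
noncomputable def HT.rs (T : HT n) (ok : T.Ok D) (F : Type u) [Field F] (he : ∀ i, (T.e i : F) ≠ 0) :
    RS ↥(D.group F) F (Fin n) where
  x := fun i => xe hD (T.S i)
  z := xe hD T.th
  x_add := fun i s t => xe_add hD _ s t
  z_add := fun s t => xe_add hD _ s t
  z_inj := fun a h => xe_eq_one hD ok.th_lt h
  x_z := fun i t a => (comm_nil hD (ok.S_lt i) ok.th_lt (ok.th_ne i).1 (ok.th_ne i).2.1 (ok.th_ne i).2.2 t a).symm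
  b := fun i j => if j = T.opp i then -(T.e i : F) else 0
  x_comm := by
    intro i j s t
    rcases eq_or_ne i j with rfl | hij
    · rw [if_neg (ok.opp_ne i).symm, zero_mul, zero_mul, xe_zero, mul_one, ← xe_add, ← xe_add, add_comm]
    · obtain ⟨h1, h2, h3⟩ := ok.S_ne i j hij
      split_ifs with h
      · rw [if_pos h] at h3
        rw [comm_single hD (ok.S_lt j) (ok.S_lt i) h1 h2 h3 t s]
        congr 2
        ring
      · rw [if_neg h] at h3
        rw [comm_nil hD (ok.S_lt j) (ok.S_lt i) h1 h2 h3 t s, zero_mul, zero_mul, xe_zero, mul_one]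
  opp := T.opp
  b_opp := fun i => by
    rw [if_pos rfl]
    exact neg_ne_zero.2 (he i)
  b_zero := fun i l hl => by
    rw [if_neg]
    intro h
    apply hl
    rw [← ok.opp_opp l, ← h, ok.opp_opp]

theorem z_isConj0 {r p : ℕ} (hr : r < D.nroots) (hp : p < D.rank) (hc : D.cartan p r = 1) (a b : F) (ha : a ≠ 0)
    (hb : b ≠ 0) : IsConj (xe hD r a) (xe hD r b) := by
  have h1 := Cfsg.Agent.S1032.result (F := F) D hD p r hp hr (b / a) (div_ne_zero hb ha) a
  rw [hc, zpow_one, div_mul_cancel₀ _ ha] at h1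
  rw [isConj_iff]
  refine ⟨⟨hG hD (D.simple p) (b / a), hG_mem_group hD _ _⟩, ?_⟩
  rw [mul_inv_eq_iff_eq_mul]
  apply Subtype.ext
  apply Units.ext
  show (hG hD (D.simple p) (b / a) * xG hD r a : GL D.Idx F).val =
    (xG hD r b * hG hD (D.simple p) (b / a) : GL D.Idx F).val
  rw [Units.val_mul, Units.val_mul, coe_hG]
  exact h1

include hD in
/-- **The bound.** -/
theorem bound0 [Fintype F] (T : HT n) (ok : T.Ok D) (he : ∀ i, (T.e i : F) ≠ 0) {X : Type*} [Group X] [Finite X]
    [IsSimpleGroup X] (π : ↥(D.group F) →* X) (hπ : Function.Injective π) {H : Subgroup X} (hH : H ≠ ⊤) :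
    Fintype.card F ^ (n + 2) ≤ H.index ^ 2 := by
  classical
  have : Finite (GL D.Idx F) := inferInstance
  have h := (T.rs hD ok F he).toD0.sq_bound π hH (a0 := 1)
    (fun a b ha hb => z_isConj0 hD ok.th_lt ok.p_lt ok.p_th a b ha hb)
    (fun h => by
      have h1 : xe hD T.th (1 : F) = 1 := hπ (by rw [map_one]; exact h)
      exact one_ne_zero (xe_eq_one hD ok.th_lt h1))
  rw [Nat.card_fun, Nat.card_eq_fintype_card (α := F), Nat.card_eq_fintype_card (α := Fin n), Fintype.card_fin] at h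
  calc Fintype.card F ^ (n + 2) = Fintype.card F * (Fintype.card F ^ n * Fintype.card F) := by ring
    _ ≤ _ := h

end Chev

end Cfsg.Agent.H934.HeisSq

private theorem dce_ec49f3b583bd : _root_.True := by
  try have : _root_.True := by simp only [_root_.Cfsg.Agent.H934.HeisSq.RS.om.eq_1]
  try have : _root_.True := by simp only [_root_.Cfsg.Agent.H934.HeisSq.RS.P.eq_1]
  exact _root_.True.intro
end

-- part: H934/HeisTw
section
prune_inst 0x200400500002000000000000001e60860000900048000040a005420c880c4000400021b8100010008080844038002000100000400000000000040001180080008012002000a00002000e000800000000000000000000000000000000000000000000000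
set_option linter.all false
open scoped Cfsg.Agent.FastGrp

/-!
# Fixed points of an automorphism on a special group

`TwData`: an endomorphism `σ` of `Γ` acting on the coordinates of a special group and a subgroup `G` of fixed points of
`σ` containing enough elements. `TwData.sq_le` is the index bound for `G`; `of_trace` constructs `TwData` from root
elements permuted by `σ`.
-/

set_option autoImplicit false

namespace Cfsg.Agent.H934.HeisTw

open MulAction Cfsg.Agent.H934.Burn Cfsg.Agent.H934.Heis Cfsg.Agent.H934.HeisData Cfsg.Agent.H934.HeisRoot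

section

variable {Γ V A K : Type*} [Group Γ] [AddCommGroup V] [AddCommGroup A]

/-- An endomorphism acting on the coordinates of a special group. -/
structure TwData (D : Data Γ V A K) (σ : Γ →* Γ) (G : Subgroup Γ) (φ : A → A) (sV : V → V) : Prop where
  sig_z : ∀ a, σ (D.z a) = D.z (φ a)
  sig_X : ∀ v, ∃ a, σ (D.X v) = D.X (sV v) * D.z a
  fix : ∀ g ∈ G, σ g = g
  z_mem : ∀ a, φ a = a → D.z a ∈ G
  lift : ∀ v, sV v = v → ∃ a, D.X v * D.z a ∈ G
  pair : ∀ v, sV v = v → v ≠ 0 → ∀ b, φ b = b → ∃ w, sV w = w ∧ D.om v w = b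

variable {D : Data Γ V A K} {σ : Γ →* Γ} {G : Subgroup Γ} {φ : A → A} {sV : V → V}

theorem z_injective (D : Data Γ V A K) {a b : A} (h : D.z a = D.z b) : a = b := by
  have h3 : D.z (a - b) = 1 := by rw [sub_eq_add_neg, D.z_add, D.z_neg, h, mul_inv_cancel]
  exact sub_eq_zero.1 (D.z_inj _ h3)

namespace TwData

/-- the special subgroup of `G` -/
def Q0 (D : Data Γ V A K) (G : Subgroup Γ) : Subgroup Γ := G ⊓ D.Qg

theorem Q0_le : Q0 D G ≤ G := inf_le_left

theorem fix_coord [Nontrivial A] (T : TwData D σ G φ sV) {v : V} {a : A} (h : D.X v * D.z a ∈ G) : sV v = v := by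
  have h1 := T.fix _ h
  obtain ⟨b, hb⟩ := T.sig_X v
  rw [map_mul, hb, T.sig_z, mul_assoc, ← D.z_add] at h1
  exact (D.eq_of_mul_eq h1).1

theorem fix_z (T : TwData D σ G φ sV) {a : A} (h : D.z a ∈ G) : φ a = a := by
  have h1 := T.fix _ h
  rw [T.sig_z] at h1
  exact z_injective D h1

theorem hyp [Nontrivial A] (T : TwData D σ G φ sV) :
    Hyp (D.Zg.subgroupOf (Q0 D G)) (⊤ : Subgroup (Q0 D G)) where
  le := le_top
  central := by
    rintro z ⟨a, ha⟩ g
    apply Subtype.ext
    have ha' : D.z a = (z : Γ) := ha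
    show (g : Γ) * (z : Γ) = (z : Γ) * (g : Γ)
    rw [← ha']
    exact D.central (D.Qg_le g.2.2) a
  comm_mem := by
    intro x _ y _
    obtain ⟨v, a, hx⟩ := x.2.2
    obtain ⟨w, b, hy⟩ := y.2.2
    refine ⟨D.om v w, ?_⟩
    show D.z (D.om v w) = (x : Γ) * (y : Γ) * (x : Γ)⁻¹ * (y : Γ)⁻¹
    rw [hx, hy, D.comm_eq]
  special := by
    rintro x _ hxZ z ⟨b, hz⟩
    obtain ⟨v, a, hx⟩ := x.2.2
    have hxG := x.2.1
    have hz' : D.z b = (z : Γ) := hz
    have hv : v ≠ 0 := by
      rintro rfl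
      apply hxZ
      obtain ⟨c, hc⟩ := D.exists_X_zero
      exact ⟨c + a, by rw [D.z_add, ← hc]; exact hx.symm⟩
    rw [hx] at hxG
    have hb : φ b = b := T.fix_z (by rw [hz']; exact z.2.1)
    obtain ⟨w, hw, hom⟩ := T.pair v (T.fix_coord hxG) hv b hb
    obtain ⟨c, hc⟩ := T.lift w hw
    refine ⟨⟨D.X w * D.z c, hc, ⟨w, c, rfl⟩⟩, trivial, ?_⟩
    apply Subtype.ext
    show (x : Γ) * (D.X w * D.z c) * (x : Γ)⁻¹ * (D.X w * D.z c)⁻¹ = (z : Γ)
    rw [hx, D.comm_eq, hom, hz']

theorem card_Z (T : TwData D σ G φ sV) [Finite Γ] :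
    Nat.card {a : A // φ a = a} ≤ Nat.card (D.Zg.subgroupOf (Q0 D G)) := by
  refine Nat.card_le_card_of_injective
    (fun a => ⟨⟨D.z a, T.z_mem a a.2, D.z_mem_Qg a⟩, ⟨a, rfl⟩⟩) fun a b h => ?_
  apply Subtype.ext
  exact z_injective D (congrArg (fun w : D.Zg.subgroupOf (Q0 D G) => ((w : Q0 D G) : Γ)) h)

theorem card_Q [Nontrivial A] (T : TwData D σ G φ sV) [Finite Γ] :
    Nat.card {v : V // sV v = v} * Nat.card {a : A // φ a = a} ≤ Nat.card (⊤ : Subgroup (Q0 D G)) := by
  rw [Subgroup.card_top, ← Nat.card_prod]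
  choose c hc using fun v : {v : V // sV v = v} => T.lift v v.2
  refine Nat.card_le_card_of_injective
    (fun p : {v : V // sV v = v} × {a : A // φ a = a} =>
      (⟨D.X p.1 * D.z (c p.1) * D.z p.2, mul_mem (hc p.1) (T.z_mem _ p.2.2),
        ⟨p.1, c p.1 + p.2, by rw [D.z_add, mul_assoc]⟩⟩ : Q0 D G)) ?_
  rintro ⟨v, a⟩ ⟨w, b⟩ h
  have h1 : D.X v * D.z (c v) * D.z a = D.X w * D.z (c w) * D.z b := congrArg Subtype.val h
  rw [mul_assoc, mul_assoc, ← D.z_add, ← D.z_add] at h1
  obtain ⟨h2, h3⟩ := D.eq_of_mul_eq h1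
  have h4 : v = w := Subtype.ext h2
  subst h4
  have h5 : a = b := Subtype.ext (add_left_cancel h3)
  rw [h5]

/-- **The index bound.** -/
theorem sq_le [Finite Γ] (T : TwData D σ G φ sV) {X0 : Type*} [Group X0] [Finite X0] [IsSimpleGroup X0]
    (π : G →* X0) {H : Subgroup X0} (hH : H ≠ ⊤)
    (hconj : ∀ a b (ha : φ a = a) (hb : φ b = b), a ≠ 0 → b ≠ 0 →
      IsConj (⟨D.z a, T.z_mem a ha⟩ : G) ⟨D.z b, T.z_mem b hb⟩)
    {a0 : A} (h0 : φ a0 = a0) (ha0 : π ⟨D.z a0, T.z_mem a0 h0⟩ ≠ 1) :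
    Nat.card {a : A // φ a = a} * (Nat.card {v : V // sV v = v} * Nat.card {a : A // φ a = a}) ≤ H.index ^ 2 := by
  have ha1 : a0 ≠ 0 := by
    rintro rfl
    apply ha0
    have : (⟨D.z 0, T.z_mem 0 h0⟩ : G) = 1 := Subtype.ext D.z_zero
    rw [this, map_one]
  have : Nontrivial A := ⟨a0, 0, ha1⟩
  let z0 : G := ⟨D.z a0, T.z_mem a0 h0⟩
  have hlt : fx (Cos π H) z0 < H.index := by
    rw [← card_cos π H]
    exact fx_lt (exists_moved π hH ha0)
  have hz1 : D.z a0 ≠ 1 := fun h => ha1 (D.z_inj _ h)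
  have hmem : (⟨D.z a0, T.z_mem a0 h0, D.z_mem_Qg a0⟩ : Q0 D G) ∈ D.Zg.subgroupOf (Q0 D G) := ⟨a0, rfl⟩
  obtain ⟨lam, hl⟩ := T.hyp.exists_char hmem fun h => hz1 (congrArg Subtype.val h)
  have h1 := Heis.sq_le (Ω := Cos (π.comp (Subgroup.inclusion (Q0_le (D := D) (G := G)))) H) T.hyp hl
    (fx (Cos π H) z0) (fun z hz hz1 => by
      obtain ⟨a, ha⟩ := hz
      have ha' : D.z a = (z : Γ) := ha
      have ha2 : a ≠ 0 := by
        rintro rfl
        exact hz1 (Subtype.ext (by rw [← ha', D.z_zero]; rfl))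
      have haG : D.z a ∈ G := by rw [ha']; exact z.2.1
      have hfa := T.fix_z haG
      have h2 : fx (Cos π H) (⟨D.z a, T.z_mem a hfa⟩ : G) = fx (Cos π H) z0 :=
        fx_of_isConj (hconj a a0 hfa h0 ha2 ha1)
      rw [← h2]
      have h3 : (⟨D.z a, T.z_mem a hfa⟩ : G) = Subgroup.inclusion (Q0_le (D := D) (G := G)) z := Subtype.ext ha'
      rw [h3]
      rfl) hlt
  calc Nat.card {a : A // φ a = a} * (Nat.card {v : V // sV v = v} * Nat.card {a : A // φ a = a})
      ≤ Nat.card (D.Zg.subgroupOf (Q0 D G)) * Nat.card (⊤ : Subgroup (Q0 D G)) := Nat.mul_le_mul T.card_Z T.card_Q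
    _ ≤ _ := h1
    _ ≤ _ := Nat.pow_le_pow_left (Nat.sub_le _ _) 2

end TwData

end

/-! ### Traces -/

section Trace

variable {M : Type*} [AddCommGroup M]

/-- The trace `v + s v + ... + s ^ (n - 1) v`. -/
def tr (s : M →+ M) (n : ℕ) (v : M) : M := ∑ k ∈ Finset.range n, s^[k] v

theorem iterate_add (s : M →+ M) (k : ℕ) (v w : M) : s^[k] (v + w) = s^[k] v + s^[k] w := by
  induction k with
  | zero => rfl
  | succ k ih => rw [Function.iterate_succ_apply', Function.iterate_succ_apply', Function.iterate_succ_apply', ih,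
      map_add]

theorem tr_add (s : M →+ M) (n : ℕ) (v w : M) : tr s n (v + w) = tr s n v + tr s n w := by
  unfold tr
  rw [← Finset.sum_add_distrib]
  exact Finset.sum_congr rfl fun k _ => iterate_add s k v w

theorem tr_fix (s : M →+ M) {n : ℕ} {v : M} (hv : s^[n] v = v) : s (tr s n v) = tr s n v := by
  unfold tr
  rw [map_sum]
  have h1 := Finset.sum_range_succ (fun k => s^[k] v) n
  have h2 := Finset.sum_range_succ' (fun k => s^[k] v) n
  rw [h1, hv] at h2
  have h3 : ∑ k ∈ Finset.range n, s^[k + 1] v = ∑ k ∈ Finset.range n, s (s^[k] v) :=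
    Finset.sum_congr rfl fun k _ => Function.iterate_succ_apply' _ _ _
  rw [h3] at h2
  exact (add_right_cancel h2).symm

variable {F : Type*} [Field F] [Module F M]

theorem iterate_smul {φ : F →+* F} {s : M →+ M} (hs : ∀ (c : F) (v : M), s (c • v) = φ c • s v) (k : ℕ) (c : F)
    (v : M) : s^[k] (c • v) = φ^[k] c • s^[k] v := by
  induction k with
  | zero => rfl
  | succ k ih => rw [Function.iterate_succ_apply', Function.iterate_succ_apply', Function.iterate_succ_apply', ih, hs]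

theorem tr_smul_fixed {φ : F →+* F} {s : M →+ M} (hs : ∀ (c : F) (v : M), s (c • v) = φ c • s v) (n : ℕ) (c : F)
    {v : M} (hv : s v = v) : tr s n (c • v) = tr (φ : F →+ F) n c • v := by
  unfold tr
  rw [Finset.sum_smul]
  refine Finset.sum_congr rfl fun k _ => ?_
  rw [iterate_smul hs]
  rw [Function.iterate_fixed hv]
  rfl

theorem tr_smul_of_fixed {φ : F →+* F} {s : M →+ M} (hs : ∀ (c : F) (v : M), s (c • v) = φ c • s v) (n : ℕ) {c : F}
    (hc : φ c = c) (v : M) : tr s n (c • v) = c • tr s n v := by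
  unfold tr
  rw [Finset.smul_sum]
  refine Finset.sum_congr rfl fun k _ => ?_
  rw [iterate_smul hs]
  rw [Function.iterate_fixed hc]

theorem iterate_pow (φ : F →+* F) (k : ℕ) (b : F) (j : ℕ) : φ^[k] (b ^ j) = (φ^[k] b) ^ j := by
  induction k with
  | zero => rfl
  | succ k ih => rw [Function.iterate_succ_apply', Function.iterate_succ_apply', ih, map_pow]

/-- Lagrange coefficients. -/
theorem exists_coeff {φ : F →+* F} {n : ℕ} (hn : 0 < n) {b : F}
    (hb : ∀ k < n, ∀ l < n, φ^[k] b = φ^[l] b → k = l) : ∃ c : ℕ → F, ∀ k ∈ Finset.range n,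
      ∑ j ∈ Finset.range n, c j * (φ^[k] b) ^ j = if k = 0 then 1 else 0 := by
  classical
  let P : Polynomial F := Lagrange.basis (Finset.range n) (fun k => φ^[k] b) 0
  have hinj : Set.InjOn (fun k => φ^[k] b) (Finset.range n : Set ℕ) := by
    intro k hk l hl h
    exact hb k (by simpa using hk) l (by simpa using hl) h
  have hdeg : P.natDegree < n := by
    have h1 : P.degree = ((Finset.range n).card - 1 : ℕ) :=
      Lagrange.degree_basis hinj (Finset.mem_range.2 hn)
    rw [Polynomial.natDegree_eq_of_degree_eq_some h1, Finset.card_range]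
    omega
  refine ⟨P.coeff, ?_⟩
  intro k hk
  rw [← Polynomial.eval_eq_sum_range' hdeg]
  split_ifs with h0
  · subst h0
    exact Lagrange.eval_basis_self hinj hk
  · exact Lagrange.eval_basis_of_ne (s := Finset.range n) (v := fun k => φ^[k] b) (i := 0) (j := k) (Ne.symm h0) hk

/-- Every vector is a combination of traces. -/
theorem expand {φ : F →+* F} {n : ℕ} (hn : 0 < n) {b : F} {c : ℕ → F} (hc : ∀ k ∈ Finset.range n,
      ∑ j ∈ Finset.range n, c j * (φ^[k] b) ^ j = if k = 0 then 1 else 0) {s : M →+ M}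
    (hs : ∀ (c : F) (v : M), s (c • v) = φ c • s v) (u : M) :
    u = ∑ j ∈ Finset.range n, c j • tr s n (b ^ j • u) := by
  have h2 : ∑ j ∈ Finset.range n, c j • tr s n (b ^ j • u) =
      ∑ k ∈ Finset.range n, (∑ j ∈ Finset.range n, c j * (φ^[k] b) ^ j) • s^[k] u := by
    unfold tr
    simp only [Finset.smul_sum, Finset.sum_smul]
    rw [Finset.sum_comm]
    refine Finset.sum_congr rfl fun k _ => Finset.sum_congr rfl fun j _ => ?_
    rw [iterate_smul hs, iterate_pow, smul_smul]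
  rw [h2, Finset.sum_congr rfl fun k hk => by rw [hc k hk]]
  simp only [ite_smul, one_smul, zero_smul]
  rw [Finset.sum_ite_eq' (Finset.range n) 0, if_pos (Finset.mem_range.2 hn)]
  rfl

/-- Many fixed vectors. -/
theorem card_le_pow [Finite M] {φ : F →+* F} {n : ℕ} (hn : 0 < n) {b : F}
    (hb : ∀ k < n, ∀ l < n, φ^[k] b = φ^[l] b → k = l) {s : M →+ M} (hs : ∀ (c : F) (v : M), s (c • v) = φ c • s v)
    (hsn : ∀ v, s^[n] v = v) : Nat.card M ≤ Nat.card {v : M // s v = v} ^ n := by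
  obtain ⟨c, hc⟩ := exists_coeff hn hb
  have h1 : Nat.card (Fin n → {v : M // s v = v}) = Nat.card {v : M // s v = v} ^ n := by
    rw [Nat.card_fun, Nat.card_eq_fintype_card (α := Fin n), Fintype.card_fin]
  rw [← h1]
  refine Nat.card_le_card_of_injective (fun u j => ⟨tr s n (b ^ (j : ℕ) • u), tr_fix s (hsn _)⟩) fun u w h => ?_
  rw [expand hn hc hs u, expand hn hc hs w]
  refine Finset.sum_congr rfl fun j hj => ?_
  have h2 := congrArg Subtype.val (congrFun h ⟨j, Finset.mem_range.1 hj⟩)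
  have h3 : tr s n (b ^ j • u) = tr s n (b ^ j • w) := h2
  rw [h3]

theorem exists_tr_one {φ : F →+* F} {n : ℕ} (hn : 0 < n) {b : F}
    (hb : ∀ k < n, ∀ l < n, φ^[k] b = φ^[l] b → k = l) (hφn : ∀ x, φ^[n] x = x) : ∃ b0 : F, tr (φ : F →+ F) n b0 = 1 := by
  obtain ⟨c, hc⟩ := exists_coeff hn hb
  have h1 := expand hn hc (s := (φ : F →+ F)) (fun c v => map_mul φ c v) 1
  obtain ⟨j, -, hj⟩ := Finset.exists_ne_zero_of_sum_ne_zero (h1 ▸ (one_ne_zero (α := F)))
  have h2 : tr (φ : F →+ F) n (b ^ j • (1 : F)) ≠ 0 := fun h => hj (by rw [h, smul_zero])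
  set t := tr (φ : F →+ F) n (b ^ j • (1 : F)) with ht
  have h3 : φ t = t := tr_fix (φ : F →+ F) (hφn _)
  refine ⟨t⁻¹ • (b ^ j • (1 : F)), ?_⟩
  have h4 := tr_smul_of_fixed (φ := φ) (s := (φ : F →+ F)) (fun c v => map_mul φ c v) n (c := t⁻¹)
    (by rw [map_inv₀, h3]) (b ^ j • (1 : F))
  rw [h4, ← ht, smul_eq_mul, inv_mul_cancel₀ h2]

end Trace

/-! ### Root elements -/

section RHTw

variable {Γ F ι κ : Type*} [Group Γ] [Field F] [Fintype ι] [DecidableEq ι] (R : RH Γ F ι κ)

/-- A semilinear permutation of the coordinates. -/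
def sV (φ : F →+* F) (ρ : Equiv.Perm ι) (ε : ι → F) : (ι → F) →+ (ι → F) where
  toFun v := fun j => ε (ρ.symm j) * φ (v (ρ.symm j))
  map_zero' := by ext j; simp
  map_add' v w := by ext j; simp [mul_add]

theorem sV_apply (φ : F →+* F) (ρ : Equiv.Perm ι) (ε : ι → F) (v : ι → F) (j : ι) :
    sV φ ρ ε v j = ε (ρ.symm j) * φ (v (ρ.symm j)) := rfl

theorem sV_smul (φ : F →+* F) (ρ : Equiv.Perm ι) (ε : ι → F) (c : F) (v : ι → F) :
    sV φ ρ ε (c • v) = φ c • sV φ ρ ε v := by
  ext j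
  simp only [sV_apply, Pi.smul_apply, smul_eq_mul, map_mul]
  ring

theorem sV_single (φ : F →+* F) (ρ : Equiv.Perm ι) (ε : ι → F) (i : ι) (t : F) :
    sV φ ρ ε (Pi.single i t) = Pi.single (ρ i) (ε i * φ t) := by
  ext j
  rw [sV_apply]
  rcases eq_or_ne j (ρ i) with rfl | hj
  · rw [Pi.single_eq_same, Equiv.symm_apply_apply, Pi.single_eq_same]
  · rw [Pi.single_eq_of_ne hj, Pi.single_eq_of_ne, map_zero, mul_zero]
    intro h
    exact hj (by rw [← h, Equiv.apply_symm_apply])

theorem of_trace (σ : Γ →* Γ) (G : Subgroup Γ) (φ : F →+* F) (ρ : Equiv.Perm ι) (ε : ι → F) (n : ℕ)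
    (sig_x : ∀ i t, σ (R.x i t) = R.x (ρ i) (ε i * φ t)) (sig_z : ∀ t, σ (R.z t) = R.z (φ t))
    (fix : ∀ g ∈ G, σ g = g) (z_mem : ∀ a, φ a = a → R.z a ∈ G)
    (hVn : ∀ v, (sV φ ρ ε)^[n] v = v) {b0 : F} (hb0 : tr (φ : F →+ F) n b0 = 1)
    (lift0 : ∀ i t, ∃ a, R.X (tr (sV φ ρ ε) n (Pi.single i t)) * R.z a ∈ G) :
    TwData R.toData σ G φ (sV φ ρ ε) := by
  have sig_X : ∀ v, ∃ a, σ (R.X v) = R.X (sV φ ρ ε v) * R.z a := by
    refine RH.pi_induction (p := fun v => ∃ a, σ (R.X v) = R.X (sV φ ρ ε v) * R.z a) ?_ ?_ ?_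
    · exact ⟨0, by rw [map_zero, R.X_zero, map_one, R.z_zero, mul_one]⟩
    · rintro v w ⟨a, ha⟩ ⟨b, hb⟩
      obtain ⟨c, hc⟩ := R.X_add v w
      obtain ⟨d, hd⟩ := R.X_add (sV φ ρ ε v) (sV φ ρ ε w)
      refine ⟨-d + (a + (b + φ c)), ?_⟩
      rw [map_add, hc, map_mul, map_mul, ha, hb, sig_z, hd]
      calc R.X (sV φ ρ ε v) * R.z a * (R.X (sV φ ρ ε w) * R.z b) * R.z (φ c)
          = R.X (sV φ ρ ε v) * (R.z a * R.X (sV φ ρ ε w)) * R.z b * R.z (φ c) := by simp only [mul_assoc]
        _ = R.X (sV φ ρ ε v) * R.X (sV φ ρ ε w) * (R.z a * (R.z b * R.z (φ c))) := by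
          rw [← R.X_z]; simp only [mul_assoc]
        _ = _ := by
          rw [← R.z_add b, ← R.z_add a, mul_assoc (R.X (sV φ ρ ε v) * R.X (sV φ ρ ε w)) (R.z d),
            ← R.z_add d, add_neg_cancel_left]
    · intro i t
      refine ⟨0, ?_⟩
      rw [R.X_single, sV_single, R.X_single, sig_x, R.z_zero, mul_one]
  have hom : ∀ v w, R.om (sV φ ρ ε v) (sV φ ρ ε w) = φ (R.om v w) := by
    intro v w
    obtain ⟨a, ha⟩ := sig_X v
    obtain ⟨b, hb⟩ := sig_X w
    have h1 := congrArg σ (R.comm v w)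
    rw [map_mul, map_mul, map_mul, ha, hb, sig_z] at h1
    have h2 := R.comm (sV φ ρ ε v) (sV φ ρ ε w)
    set x := R.X (sV φ ρ ε v)
    set y := R.X (sV φ ρ ε w)
    have hx : ∀ c, R.z c * x = x * R.z c := fun c => (R.X_z _ c).symm
    have hy : ∀ c, R.z c * y = y * R.z c := fun c => (R.X_z _ c).symm
    have h3 : x * R.z a * (y * R.z b) = y * x * R.z (R.om (sV φ ρ ε v) (sV φ ρ ε w)) * (R.z a * R.z b) := by
      rw [← h2]
      calc x * R.z a * (y * R.z b) = x * (R.z a * y) * R.z b := by simp only [mul_assoc]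
        _ = _ := by rw [hy]; simp only [mul_assoc]
    have h4 : y * R.z b * (x * R.z a) * R.z (φ (R.om v w)) = y * x * R.z (φ (R.om v w)) * (R.z a * R.z b) := by
      calc y * R.z b * (x * R.z a) * R.z (φ (R.om v w)) = y * (R.z b * x) * (R.z a * R.z (φ (R.om v w))) := by
            simp only [mul_assoc]
        _ = y * x * (R.z b * (R.z a * R.z (φ (R.om v w)))) := by rw [hx]; simp only [mul_assoc]
        _ = y * x * R.z (b + (a + φ (R.om v w))) := by rw [← R.z_add a, ← R.z_add b]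
        _ = y * x * R.z (φ (R.om v w) + (a + b)) := by
          congr 2
          ring
        _ = _ := by rw [R.z_add, R.z_add a b, mul_assoc (y * x)]
    rw [h3, h4] at h1
    have h5 := mul_left_cancel (mul_right_cancel h1)
    exact z_injective R.toData h5
  have homk : ∀ k v w, R.om ((sV φ ρ ε)^[k] v) ((sV φ ρ ε)^[k] w) = φ^[k] (R.om v w) := by
    intro k v w
    induction k with
    | zero => rfl
    | succ k ih => rw [Function.iterate_succ_apply', Function.iterate_succ_apply', Function.iterate_succ_apply', hom,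
        ih]
  have omsum : ∀ (v : ι → F) (s : Finset ℕ) (g : ℕ → ι → F), R.om v (∑ k ∈ s, g k) = ∑ k ∈ s, R.om v (g k) := by
    classical
    intro v s g
    induction s using Finset.induction_on with
    | empty => rw [Finset.sum_empty, Finset.sum_empty, R.om_zero_right]
    | insert k s hk ih => rw [Finset.sum_insert hk, Finset.sum_insert hk, R.om_add_right, ih]
  refine ⟨sig_z, sig_X, fix, z_mem, ?_, ?_⟩
  · intro v hv
    have hW : ∀ u : ι → F, ∃ a, R.X (tr (sV φ ρ ε) n u) * R.z a ∈ G := by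
      refine RH.pi_induction (p := fun u => ∃ a, R.X (tr (sV φ ρ ε) n u) * R.z a ∈ G) ?_ ?_ lift0
      · refine ⟨0, ?_⟩
        have h0 : tr (sV φ ρ ε) n (0 : ι → F) = 0 := by
          have h := tr_add (sV φ ρ ε) n 0 0
          rw [add_zero] at h
          exact (left_eq_add.1 h)
        rw [h0, R.X_zero, R.z_zero, mul_one]
        exact one_mem G
      · rintro u w ⟨a, ha⟩ ⟨b, hb⟩
        obtain ⟨c, hc⟩ := R.X_add (tr (sV φ ρ ε) n u) (tr (sV φ ρ ε) n w)
        refine ⟨-c + (a + b), ?_⟩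
        have h1 := mul_mem ha hb
        rw [tr_add, hc]
        convert h1 using 1
        calc R.X (tr (sV φ ρ ε) n u) * R.X (tr (sV φ ρ ε) n w) * R.z c * R.z (-c + (a + b))
            = R.X (tr (sV φ ρ ε) n u) * R.X (tr (sV φ ρ ε) n w) * (R.z a * R.z b) := by
              rw [mul_assoc _ (R.z c), ← R.z_add c, add_neg_cancel_left, R.z_add]
          _ = R.X (tr (sV φ ρ ε) n u) * (R.X (tr (sV φ ρ ε) n w) * R.z a) * R.z b := by simp only [mul_assoc]
          _ = _ := by rw [R.X_z]; simp only [mul_assoc]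
    obtain ⟨a, ha⟩ := hW (b0 • v)
    refine ⟨a, ?_⟩
    rw [tr_smul_fixed (sV_smul φ ρ ε) n b0 hv, hb0, one_smul] at ha
    exact ha
  · intro v hv hv0 b hb
    obtain ⟨w0, hw0⟩ := R.special hv0 (b * b0)
    refine ⟨tr (sV φ ρ ε) n w0, tr_fix _ (hVn w0), ?_⟩
    show R.om v (tr (sV φ ρ ε) n w0) = b
    unfold tr
    rw [omsum]
    have h1 : ∀ k ∈ Finset.range n, R.om v ((sV φ ρ ε)^[k] w0) = b * φ^[k] b0 := by
      intro k _
      have h2 := homk k v w0
      rw [Function.iterate_fixed hv, hw0] at h2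
      rw [h2]
      have h3 := iterate_smul (s := (φ : F →+ F)) (φ := φ) (fun c v => map_mul φ c v) k b b0
      have h4 : (φ : F →+ F)^[k] (b • b0) = φ^[k] b • φ^[k] b0 := h3
      rw [Function.iterate_fixed hb] at h4
      exact h4
    rw [Finset.sum_congr rfl h1, ← Finset.mul_sum]
    have h5 : ∑ k ∈ Finset.range n, φ^[k] b0 = 1 := hb0
    rw [h5, mul_one]

end RHTw

section Lift

variable {Γ F ι κ : Type*} [Group Γ] [Field F] [Fintype ι] [DecidableEq ι] (R : RH Γ F ι κ)

theorem X_add_two (u v : ι → F) : ∃ a, R.X (u + v) * R.z a = R.X u * R.X v := by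
  obtain ⟨a, ha⟩ := R.X_add u v
  exact ⟨-a, by rw [ha, mul_assoc, ← R.z_add, add_neg_cancel, R.z_zero, mul_one]⟩

theorem X_add_three (u v w : ι → F) : ∃ a, R.X (u + v + w) * R.z a = R.X u * R.X v * R.X w := by
  obtain ⟨a, ha⟩ := X_add_two R (u + v) w
  obtain ⟨b, hb⟩ := X_add_two R u v
  refine ⟨a + b, ?_⟩
  rw [R.z_add, ← mul_assoc, ha, mul_assoc, R.X_z, ← mul_assoc, hb]

/-- Lifting the trace of a coordinate vector, order 2. -/
theorem lift_two {G : Subgroup Γ} {φ : F →+* F} {ρ : Equiv.Perm ι} {ε : ι → F} {i : ι} {t : F}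
    (h : R.x i t * R.x (ρ i) (ε i * φ t) ∈ G) : ∃ a, R.X (tr (sV φ ρ ε) 2 (Pi.single i t)) * R.z a ∈ G := by
  obtain ⟨a, ha⟩ := X_add_two R (Pi.single i t) (Pi.single (ρ i) (ε i * φ t))
  refine ⟨a, ?_⟩
  have h1 : tr (sV φ ρ ε) 2 (Pi.single i t) = Pi.single i t + Pi.single (ρ i) (ε i * φ t) := by
    unfold tr
    rw [Finset.sum_range_succ, Finset.sum_range_succ, Finset.sum_range_zero, zero_add, Function.iterate_one,
      sV_single]
    rfl
  rw [h1, ha, R.X_single, R.X_single]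
  exact h

/-- Lifting the trace of a coordinate vector, order 3. -/
theorem lift_three {G : Subgroup Γ} {φ : F →+* F} {ρ : Equiv.Perm ι} {ε : ι → F} {i : ι} {t : F}
    (h : R.x i t * R.x (ρ i) (ε i * φ t) * R.x (ρ (ρ i)) (ε (ρ i) * φ (ε i * φ t)) ∈ G) :
    ∃ a, R.X (tr (sV φ ρ ε) 3 (Pi.single i t)) * R.z a ∈ G := by
  obtain ⟨a, ha⟩ := X_add_three R (Pi.single i t) (Pi.single (ρ i) (ε i * φ t))
    (Pi.single (ρ (ρ i)) (ε (ρ i) * φ (ε i * φ t)))
  refine ⟨a, ?_⟩
  have h1 : tr (sV φ ρ ε) 3 (Pi.single i t) = Pi.single i t + Pi.single (ρ i) (ε i * φ t) +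
      Pi.single (ρ (ρ i)) (ε (ρ i) * φ (ε i * φ t)) := by
    unfold tr
    rw [Finset.sum_range_succ, Finset.sum_range_succ, Finset.sum_range_succ, Finset.sum_range_zero, zero_add,
      Function.iterate_one, Function.iterate_succ_apply, Function.iterate_one, sV_single, sV_single]
    rfl
  rw [h1, ha, R.X_single, R.X_single, R.X_single]
  exact h

end Lift

/-- Transport of root elements along an injective homomorphism. -/
def mapRH {Γ Γ' F ι κ : Type*} [Group Γ] [Group Γ'] [Field F] [Fintype ι] [DecidableEq ι] (R : RH Γ F ι κ)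
    (f : Γ →* Γ') (hf : Function.Injective f) : RH Γ' F ι κ where
  x i t := f (R.x i t)
  z t := f (R.z t)
  y β t := f (R.y β t)
  x_add i s t := by rw [R.x_add, map_mul]
  z_add s t := by rw [R.z_add, map_mul]
  z_inj a h := R.z_inj a (hf (by rw [h, map_one]))
  x_z i t a := by rw [← map_mul, R.x_z, map_mul]
  y_z β t a := by rw [← map_mul, R.y_z, map_mul]
  b := R.b
  x_comm i j s t := by rw [← map_mul, R.x_comm, map_mul, map_mul]
  opp := R.opp
  b_opp := R.b_opp
  b_zero := R.b_zero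
  next := R.next
  c := R.c
  c_ne := R.c_ne
  y_none β i h t u := by rw [← map_mul, ← map_inv, ← map_mul, R.y_none β i h]
  y_some β i j h t u := by rw [← map_mul, ← map_inv, ← map_mul, R.y_some β i j h, map_mul]
  iso := R.iso
  conn := R.conn

/-! ### Finite fields -/

section Finite

variable {F : Type*} [Field F] [Fintype F]

theorem iterate_frob {φ : F →+* F} {q : ℕ} (hφ : ∀ x, φ x = x ^ q) (k : ℕ) (b : F) : φ^[k] b = b ^ q ^ k := by
  induction k with
  | zero => simp
  | succ k ih => rw [Function.iterate_succ_apply', ih, hφ, ← pow_mul, ← pow_succ]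

theorem iterate_frob_n {φ : F →+* F} {q n : ℕ} (hφ : ∀ x, φ x = x ^ q) (hF : Fintype.card F = q ^ n) (b : F) :
    φ^[n] b = b := by
  rw [iterate_frob hφ, ← hF, FiniteField.pow_card]

theorem exists_distinct {φ : F →+* F} {q n : ℕ} (hq : 1 < q) (hn : 1 < n) (hφ : ∀ x, φ x = x ^ q)
    (hF : Fintype.card F = q ^ n) : ∃ b : F, ∀ k < n, ∀ l < n, φ^[k] b = φ^[l] b → k = l := by
  classical
  obtain ⟨g, hg⟩ := IsCyclic.exists_generator (α := Fˣ)
  have hord : orderOf g = q ^ n - 1 := by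
    rw [orderOf_eq_card_of_forall_mem_zpowers hg, Nat.card_eq_fintype_card, Fintype.card_units, hF]
  have hlt : ∀ k < n, q ^ k < orderOf g := by
    intro k hk
    rw [hord]
    have h1 : q ^ k * q ≤ q ^ n := by
      rw [← pow_succ]
      exact Nat.pow_le_pow_right (by omega) hk
    have h2 : q ^ k * 2 ≤ q ^ k * q := Nat.mul_le_mul_left _ hq
    rcases Nat.eq_zero_or_pos k with rfl | hk0
    · have h3 : q ^ 2 ≤ q ^ n := Nat.pow_le_pow_right (by omega) hn
      have h4 : 2 ^ 2 ≤ q ^ 2 := Nat.pow_le_pow_left hq 2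
      rw [pow_zero]
      omega
    · have h3 : q ^ 1 ≤ q ^ k := Nat.pow_le_pow_right (by omega) hk0
      rw [pow_one] at h3
      omega
  refine ⟨(g : F), fun k hk l hl h => ?_⟩
  rw [iterate_frob hφ, iterate_frob hφ] at h
  have h1 : g ^ q ^ k = g ^ q ^ l := Units.ext (by push_cast; exact h)
  have h2 := pow_injOn_Iio_orderOf (hlt k hk) (hlt l hl) h1
  exact Nat.pow_right_injective hq h2

variable {Γ ι κ : Type*} [Group Γ] [Fintype ι] [DecidableEq ι] (R : RH Γ F ι κ)

/-- **The bound, for root elements over a finite field.** -/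
theorem final [Finite Γ] (σ : Γ →* Γ) (G : Subgroup Γ) (φ : F →+* F) (ρ : Equiv.Perm ι) (ε : ι → F) {q n : ℕ}
    (hq : 1 < q) (hn : 1 < n) (hφ : ∀ x, φ x = x ^ q) (hF : Fintype.card F = q ^ n)
    (sig_x : ∀ i t, σ (R.x i t) = R.x (ρ i) (ε i * φ t)) (sig_z : ∀ t, σ (R.z t) = R.z (φ t))
    (fix : ∀ g ∈ G, σ g = g) (z_mem : ∀ a, φ a = a → R.z a ∈ G)
    (hVn : ∀ v, (sV φ ρ ε)^[n] v = v)
    (lift0 : ∀ i t, ∃ a, R.X (tr (sV φ ρ ε) n (Pi.single i t)) * R.z a ∈ G)
    {X0 : Type*} [Group X0] [Finite X0] [IsSimpleGroup X0]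
    (π : G →* X0) (hπ : Function.Injective π) {H : Subgroup X0} (hH : H ≠ ⊤)
    (hconj : ∀ a b (ha : φ a = a) (hb : φ b = b), a ≠ 0 → b ≠ 0 →
      IsConj (⟨R.z a, z_mem a ha⟩ : G) ⟨R.z b, z_mem b hb⟩) :
    q ^ (Fintype.card ι + 2) ≤ H.index ^ 2 := by
  obtain ⟨b, hb⟩ := exists_distinct hq hn hφ hF
  obtain ⟨b0, hb0⟩ := exists_tr_one (by omega) hb (iterate_frob_n hφ hF)
  have T := of_trace R σ G φ ρ ε n sig_x sig_z fix z_mem hVn hb0 lift0
  have h1 : φ 1 = 1 := map_one φ
  have h2 := T.sq_le π hH hconj h1 (fun h => by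
    have h3 : (⟨R.z 1, z_mem 1 h1⟩ : G) = 1 := hπ (by rw [map_one]; exact h)
    exact one_ne_zero (R.z_inj 1 (congrArg Subtype.val h3)))
  have hc1 : q ≤ Nat.card {a : F // φ a = a} := by
    have h3 := card_le_pow (M := F) (F := F) (by omega) hb (s := (φ : F →+ F)) (fun c v => map_mul φ c v)
      (iterate_frob_n hφ hF)
    rw [Nat.card_eq_fintype_card, hF] at h3
    exact le_of_pow_le_pow_left₀ (by omega) (by omega) h3
  have hc2 : q ^ Fintype.card ι ≤ Nat.card {v : ι → F // sV φ ρ ε v = v} := by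
    have h3 := card_le_pow (M := ι → F) (by omega) hb (s := sV φ ρ ε) (sV_smul φ ρ ε) hVn
    rw [Nat.card_fun, Nat.card_eq_fintype_card (α := F), Nat.card_eq_fintype_card (α := ι), hF, ← pow_mul, mul_comm,
      pow_mul] at h3
    exact le_of_pow_le_pow_left₀ (by omega) (by omega) h3
  calc q ^ (Fintype.card ι + 2) = q * (q ^ Fintype.card ι * q) := by ring
    _ ≤ _ := Nat.mul_le_mul hc1 (Nat.mul_le_mul hc2 hc1)
    _ ≤ _ := h2

end Finite

end Cfsg.Agent.H934.HeisTw
end

-- part: H934/HeisTwD4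
section
set_option linter.all false
open scoped Cfsg.Agent.FastGrp

/-!
# The special group of the highest root in `³D₄(q)`

`|³D₄(q) : L|² ≥ q^10` for every proper subgroup `L`.
-/

set_option autoImplicit false

namespace Cfsg.Agent.H934.HeisTwD4

open Cfsg.Lie
open Cfsg.Agent.ChevalleyStructure.D4Fixed (sig fix mem_fix twisted_le_fix)
open Cfsg.Agent.ChevalleyStructure.D4Cols (xU coe_xU wU)
open Cfsg.Agent.ChevalleyStructure.D4U
open Cfsg.Agent.ChevalleyStructure
open Cfsg.Agent.H934.HeisTw Cfsg.Agent.H934.HeisRoot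

universe u

variable {K : Type u} [Field K]

/-- The root elements of the special group. -/
noncomputable def R (K : Type u) [Field K] : RH (GL chevD4.Idx K) K (Fin 8) (Fin 6) :=
  mapRH (HeisD4.tab.rh HeisD4.hD HeisD4.tab_ok K) (chevD4.group K).subtype Subtype.val_injective

/-- triality on the indices -/
def rho : Equiv.Perm (Fin 8) where
  toFun := ![0, 4, 1, 5, 2, 6, 3, 7]
  invFun := ![0, 2, 4, 6, 1, 3, 5, 7]
  left_inv := by decide
  right_inv := by decide

/-- signs -/
def eps : Fin 8 → ℤ := ![1, -1, 1, -1, -1, 1, -1, 1]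

theorem R_x (i : Fin 8) (t : K) : (R K).x i t = D4Comm.xG (HeisD4.tab.S i) t := Units.ext rfl

theorem R_z (t : K) : (R K).z t = D4Comm.xG 23 t := Units.ext rfl

theorem sig_R (φ : K →+* K) (i : Fin 8) (t : K) :
    sig φ ((R K).x i t) = (R K).x (rho i) ((eps i : K) * φ t) := by
  rw [R_x, R_x]
  fin_cases i
  · exact (sig_14 φ t).trans (by simp [eps]; rfl)
  · exact (sig_15 φ t).trans (by simp [eps]; rfl)
  · exact (sig_16 φ t).trans (by simp [eps]; rfl)
  · exact (sig_17 φ t).trans (by simp [eps]; rfl)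
  · exact (sig_19 φ t).trans (by simp [eps]; rfl)
  · exact (sig_20 φ t).trans (by simp [eps]; rfl)
  · exact (sig_21 φ t).trans (by simp [eps]; rfl)
  · exact (sig_22 φ t).trans (by simp [eps]; rfl)

theorem sV_three {φ : K →+* K} (h3 : ∀ t, φ (φ (φ t)) = t) (v : Fin 8 → K) :
    (sV φ rho fun i => (eps i : K))^[3] v = v := by
  ext j
  rw [Function.iterate_succ_apply, Function.iterate_succ_apply, Function.iterate_one, sV_apply, sV_apply, sV_apply,
    map_mul, map_mul, map_mul, map_intCast, map_intCast, map_intCast, h3]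
  have h1 : ∀ j : Fin 8, eps (rho.symm j) * (eps (rho.symm (rho.symm j)) *
      eps (rho.symm (rho.symm (rho.symm j)))) = 1 ∧ rho.symm (rho.symm (rho.symm j)) = j := by decide
  obtain ⟨h4, h5⟩ := h1 j
  rw [h5, ← mul_assoc, ← mul_assoc, ← Int.cast_mul, ← Int.cast_mul]
  rw [h5, ← mul_assoc] at h4
  rw [h4, Int.cast_one, one_mul]

theorem comm_R {i j : Fin 8} (h : j ≠ HeisD4.tab.opp i) (s t : K) :
    Commute ((R K).x i s) ((R K).x j t) := by
  have h1 := (R K).x_comm i j s t
  have h2 : (R K).b i j = 0 := if_neg h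
  rw [h2, zero_mul, zero_mul, (R K).z_zero, mul_one] at h1
  exact h1

theorem rho_ne : ∀ i, rho i ≠ HeisD4.tab.opp i ∧ rho (rho i) ≠ HeisD4.tab.opp i ∧ rho (rho (rho i)) = i ∧
    eps (rho (rho i)) * (eps (rho i) * eps i) = 1 := by decide

theorem classes : ∀ i : Fin 8, (HeisD4.tab.S i = 14 ∧ rho i = i) ∨ (HeisD4.tab.S i = 22 ∧ rho i = i) ∨
    (HeisD4.tab.S i ∈ [19, 16, 15] ∧ HeisD4.tab.S (rho i) ∈ [19, 16, 15] ∧ HeisD4.tab.S (rho (rho i)) ∈ [19, 16, 15]) ∨
    (HeisD4.tab.S i ∈ [21, 17, 20] ∧ HeisD4.tab.S (rho i) ∈ [21, 17, 20] ∧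
      HeisD4.tab.S (rho (rho i)) ∈ [21, 17, 20]) := by decide

theorem lift {q : ℕ} {φ : K →+* K} (hφ : ∀ x, φ x = x ^ q) (hle : twistedD4 K q ≤ fix φ)
    (h3 : ∀ t, φ (φ (φ t)) = t) (i : Fin 8) (t : K) :
    (R K).x i t * (R K).x (rho i) ((eps i : K) * φ t) *
      (R K).x (rho (rho i)) ((eps (rho i) : K) * φ ((eps i : K) * φ t)) ∈ twistedD4 K q := by
  set a := (R K).x i t with ha
  set b := (R K).x (rho i) ((eps i : K) * φ t) with hb
  set c := (R K).x (rho (rho i)) ((eps (rho i) : K) * φ ((eps i : K) * φ t)) with hc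
  obtain ⟨h4, h5, h6, h7⟩ := rho_ne i
  have hab : sig φ a = b := sig_R φ i t
  have hbc : sig φ b = c := sig_R φ (rho i) _
  have hca : sig φ c = a := by
    rw [hc, sig_R, h6]
    simp only [map_mul, map_intCast]
    rw [h3, ← mul_assoc, ← mul_assoc, mul_assoc ((eps (rho (rho i)) : ℤ) : K), ← Int.cast_mul, ← Int.cast_mul, h7,
      Int.cast_one, one_mul]
  have c1 : Commute a b := comm_R h4 _ _
  have c2 : Commute a c := comm_R h5 _ _
  have hfix : a * b * c ∈ fix φ := by
    rw [mem_fix, map_mul, map_mul, hab, hbc, hca, mul_assoc, ← c2.eq, ← mul_assoc, ← c1.eq]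
  have mem (l : List ℕ) (r : ℕ) (t : K) (h : r ∈ l) : D4Comm.xG r t ∈ RS K l :=
    TwistedU.mem_rspan D4Comm.xG (S := {k | k ∈ l}) h t
  rw [R_x] at ha hb hc
  rcases classes i with ⟨h8, h9⟩ | ⟨h8, h9⟩ | ⟨h8, h9, h10⟩ | ⟨h8, h9, h10⟩
  · rw [h9, h9, h8] at hc
    rw [h9, h8] at hb
    rw [h8] at ha
    refine RS_14_le hφ (mul_mem (mul_mem ?_ ?_) ?_) hfix
    · rw [ha]; exact mem _ _ _ (by decide)
    · rw [hb]; exact mem _ _ _ (by decide)
    · rw [hc]; exact mem _ _ _ (by decide)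
  · rw [h9, h9, h8] at hc
    rw [h9, h8] at hb
    rw [h8] at ha
    refine RS_22_le hφ hle (mul_mem (mul_mem ?_ ?_) ?_) hfix
    · rw [ha]; exact mem _ _ _ (by decide)
    · rw [hb]; exact mem _ _ _ (by decide)
    · rw [hc]; exact mem _ _ _ (by decide)
  · refine RS_ab_le hφ hle (mul_mem (mul_mem ?_ ?_) ?_) hfix
    · rw [ha]; exact mem _ _ _ h8
    · rw [hb]; exact mem _ _ _ h9
    · rw [hc]; exact mem _ _ _ h10
  · refine RS_abb_le hφ hle (mul_mem (mul_mem ?_ ?_) ?_) hfix
    · rw [ha]; exact mem _ _ _ h8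
    · rw [hb]; exact mem _ _ _ h9
    · rw [hc]; exact mem _ _ _ h10

theorem z_mem {q : ℕ} {φ : K →+* K} (hφ : ∀ x, φ x = x ^ q) (hle : twistedD4 K q ≤ fix φ) (a : K) (ha : φ a = a) :
    (R K).z a ∈ twistedD4 K q := by
  rw [R_z]
  refine RS_23_le hφ hle (TwistedU.mem_rspan D4Comm.xG (S := {k | k ∈ [23]}) (by simp) a) ?_
  rw [mem_fix, sig_23, ha]

theorem z_conj {q : ℕ} {φ : K →+* K} (hφ : ∀ x, φ x = x ^ q) {a b : K} (ha : φ a = a) (hb : φ b = b) (ha0 : a ≠ 0)
    (hb0 : b ≠ 0) : ∃ h ∈ twistedD4 K q, h * (R K).z a * h⁻¹ = (R K).z b := by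
  refine ⟨wU (chevD4.hWord 14 (b / a)), D4H1.h14_mem hφ (by rw [map_div₀, ha, hb]), ?_⟩
  have h1 := Cfsg.Agent.S1032.result (F := K) chevD4 HeisD4.hD 1 23 (by decide) (by decide) (b / a)
    (div_ne_zero hb0 ha0) a
  rw [show chevD4.cartan 1 23 = 1 from by decide +kernel, zpow_one, div_mul_cancel₀ _ ha0] at h1
  rw [mul_inv_eq_iff_eq_mul]
  apply Units.ext
  rw [Units.val_mul, Units.val_mul, D4H1.coe_wU_hWord]
  exact h1

/-- **The bound for `³D₄(q)`.** -/
theorem bound_3D4 {K : Type u} [Field K] [Fintype K] {q : ℕ} (hq : IsPrimePow q) (hK : Fintype.card K = q ^ 3)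
    (hs : IsSimpleGroup ↥(Cfsg.Lie.twistedD4 K q)) (L : Subgroup ↥(Cfsg.Lie.twistedD4 K q)) (hL : L ≠ ⊤) :
    q ^ 10 ≤ L.index ^ 2 := by
  classical
  obtain ⟨φ, hφ⟩ := D4Fixed.exists_frob hq hK
  have hle := twisted_le_fix hK hφ
  have h3 := phi3 hK hφ
  have : Finite (GL chevD4.Idx K) := inferInstance
  have h := final (R K) (sig φ) (twistedD4 K q) φ rho (fun i => (eps i : K)) hq.one_lt (n := 3) (by norm_num) hφ hK
    (sig_R φ) (fun t => by rw [R_z, R_z, sig_23]) (fun g hg => hle hg) (z_mem hφ hle) (sV_three h3)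
    (fun i t => lift_three (R K) (lift hφ hle h3 i t)) (MonoidHom.id _) Function.injective_id hL
    (fun a b ha hb ha0 hb0 => by
      obtain ⟨h, hh, he⟩ := z_conj hφ ha hb ha0 hb0
      exact isConj_iff.2 ⟨⟨h, hh⟩, Subtype.ext he⟩)
  rw [Fintype.card_fin] at h
  exact h

end Cfsg.Agent.H934.HeisTwD4

private theorem dce_82f19667e8da : _root_.True := by
  try have : _root_.True := by simp only [_root_.Cfsg.Agent.H934.HeisTwD4.eps.eq_1]
  exact _root_.True.intro
end

-- part: H934/HeisF4G2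
section
set_option linter.all false
open scoped Cfsg.Agent.FastGrp

/-!
# The special group of the highest root in `F₄(q)`, `q` odd, and in `G₂(q)`, `3 ∤ q`

`|F₄(q) : H|² ≥ q^16` (`q` odd), `|G₂(q) : H|² ≥ q^6` (`3 ∤ q`) for every proper subgroup `H`.
-/

set_option autoImplicit false

namespace Cfsg.Agent.H934.HeisF4G2

open Cfsg.Lie Cfsg.Agent.ChevalleyStructure.Elts Cfsg.Agent.H934.HeisSq

universe u

/-- The tables for `F₄`. -/
def tabF : HT 14 where
  S := ![24, 26, 29, 31, 32, 36, 38, 39, 40, 42, 43, 44, 45, 46]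
  th := 47
  opp := fun i => ⟨13 - i, by omega⟩
  e := ![-1, -1, -2, 1, -1, -2, 2, -2, 2, 1, -1, 2, 1, 1]
  p := 3

theorem tabF_S_ne : ∀ i j, i ≠ j → tabF.S i ≠ tabF.S j ∧ tabF.S i ≠ chevF4.neg (tabF.S j) ∧
    chevF4.commTerms (tabF.S j) (tabF.S i) = if j = tabF.opp i then [(tabF.th, tabF.e i, 1, 1)] else [] := by
  decide +kernel

theorem tabF_ok : tabF.Ok chevF4 where
  S_lt := by decide +kernel
  th_lt := by decide +kernel
  th_ne := by decide +kernel
  S_ne := tabF_S_ne
  opp_ne := by decide +kernel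
  opp_opp := by decide +kernel
  p_lt := by decide +kernel
  p_th := by decide +kernel

/-- The tables for `G₂`. -/
def tabG : HT 4 where
  S := ![6, 8, 9, 10]
  th := 11
  opp := fun i => ⟨3 - i, by omega⟩
  e := ![-1, -3, 3, 1]
  p := 1

theorem tabG_ok : tabG.Ok chevG2 where
  S_lt := by decide +kernel
  th_lt := by decide +kernel
  th_ne := by decide +kernel
  S_ne := by decide +kernel
  opp_ne := by decide +kernel
  opp_opp := by decide +kernel
  p_lt := by decide +kernel
  p_th := by decide +kernel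

theorem hF4 : InList chevF4 := by simp [InList]

theorem hG2 : InList chevG2 := by simp [InList]

/-- **The bound for `F₄(q)`, `q` odd.** -/
theorem sq_le_F4 {F : Type u} [Field F] [Fintype F] (h2 : (2 : F) ≠ 0) (hs : IsSimpleGroup ↥(chevF4.group F))
    (H : Subgroup ↥(chevF4.group F)) (hH : H ≠ ⊤) : Fintype.card F ^ 16 ≤ H.index ^ 2 := by
  have : Finite (GL chevF4.Idx F) := inferInstance
  refine bound0 hF4 tabF tabF_ok ?_ (MonoidHom.id ↥(chevF4.group F)) Function.injective_id hH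
  have h : ∀ i, tabF.e i = 1 ∨ tabF.e i = -1 ∨ tabF.e i = 2 ∨ tabF.e i = -2 := by decide
  intro i
  rcases h i with h | h | h | h <;> rw [h]
  · simp
  · simp
  · exact_mod_cast h2
  · push_cast
    exact neg_ne_zero.2 h2

/-- **The bound for `G₂(q)`, `3 ∤ q`.** -/
theorem sq_le_G2 {F : Type u} [Field F] [Fintype F] (h3 : (3 : F) ≠ 0) (hs : IsSimpleGroup ↥(chevG2.group F))
    (H : Subgroup ↥(chevG2.group F)) (hH : H ≠ ⊤) : Fintype.card F ^ 6 ≤ H.index ^ 2 := by
  have : Finite (GL chevG2.Idx F) := inferInstance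
  refine bound0 hG2 tabG tabG_ok ?_ (MonoidHom.id ↥(chevG2.group F)) Function.injective_id hH
  have h : ∀ i, tabG.e i = 1 ∨ tabG.e i = -1 ∨ tabG.e i = 3 ∨ tabG.e i = -3 := by decide
  intro i
  rcases h i with h | h | h | h <;> rw [h]
  · simp
  · simp
  · exact_mod_cast h3
  · push_cast
    exact neg_ne_zero.2 h3

end Cfsg.Agent.H934.HeisF4G2
end

-- part: H172/S3G2
section
prune_inst 0x30200100440000000000050200003e23a6000190006b00010060004004880d2009002f21b430100000000204403000400010005002000000000004000119008000880002a1080000200006800004000000000000000000000000000000000000000000000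
set_option linter.all false
open scoped Cfsg.Agent.FastGrp

/-!
# The amplified index bound for `G₂(q)`, `q` prime to 6

helper172, for S2484 / S5760: `q ^ 8 ≤ 4 |G₂(q) : H| ^ 2` for proper subgroups `H`, `q` prime to 6.
-/

set_option autoImplicit false

namespace Cfsg.Agent.H172.S3G2

open Cfsg.Lie Cfsg.Agent.ChevalleyStructure.Elts Cfsg.Agent.H934.HeisSq Cfsg.Agent.H934.HeisChev
  Cfsg.Agent.H934.HeisData Cfsg.Agent.H934.HeisF4G2 Cfsg.Agent.H934.Burn

universe u

section gen

variable {D : ChevalleyDatum} (hD : InList D) {F : Type u} [Field F]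

/-- the word in the group -/
noncomputable def wd (w : List (ℕ × F)) : ↥(D.group F) := (w.map fun p => xe hD p.1 p.2).prod

theorem coe_wd (w : List (ℕ × F)) : ((wd hD w : ↥(D.group F)) : GL D.Idx F) = wordG hD w := by
  unfold wd wordG
  rw [← Subgroup.coe_subtype, map_list_prod, List.map_map]
  rfl

theorem comm_gen {r s : ℕ} (hr : r < D.nroots) (hs : s < D.nroots) (hrs : s ≠ r) (hneg : s ≠ D.neg r)
    (t u : F) : xe hD s u * xe hD r t = xe hD r t * xe hD s u * wd hD (D.commWord F r s t u) := by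
  have h1 := Cfsg.Agent.S1025.result (F := F) D hD r s hr hs hrs hneg t u
  apply Subtype.ext
  apply Units.ext
  rw [Subgroup.coe_mul, Subgroup.coe_mul, Subgroup.coe_mul, coe_wd, Units.val_mul, Units.val_mul, Units.val_mul,
    coe_wordG]
  exact h1

theorem conj_gen {r s : ℕ} (hr : r < D.nroots) (hs : s < D.nroots) (hrs : s ≠ r) (hneg : s ≠ D.neg r)
    (t u : F) : xe hD r t * xe hD s u * (xe hD r t)⁻¹ = xe hD s u * wd hD (D.commWord F r s (-t) u) := by
  have h := comm_gen hD hr hs hrs hneg (-t) u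
  rw [← xe_neg, mul_assoc, h, xe_neg]
  group

end gen

variable {F : Type u} [Field F]

theorem he_ne (h3 : (3 : F) ≠ 0) (i : Fin 4) : (tabG.e i : F) ≠ 0 := by
  have h : ∀ i, tabG.e i = 1 ∨ tabG.e i = -1 ∨ tabG.e i = 3 ∨ tabG.e i = -3 := by decide
  rcases h i with h | h | h | h <;> rw [h]
  · simp
  · simp
  · exact_mod_cast h3
  · push_cast
    exact neg_ne_zero.2 h3

/-- the coordinates -/
noncomputable abbrev RR (h3 : (3 : F) ≠ 0) : RS ↥(chevG2.group F) F (Fin 4) :=
  tabG.rs hG2 tabG_ok F (he_ne h3)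

theorem prod_eq {Γ ι : Type*} [Group Γ] [Fintype ι] [DecidableEq ι] (R : RS Γ F ι) :
    ∀ l : List (ι × F), ∃ a, (l.map fun p => R.x p.1 p.2).prod =
      R.X (l.map fun p => (Pi.single p.1 p.2 : ι → F)).sum * R.z a := by
  intro l
  induction l with
  | nil => exact ⟨0, by rw [List.map_nil, List.prod_nil, List.map_nil, List.sum_nil, R.X_zero, R.z_zero, one_mul]⟩
  | cons p l ih =>
    obtain ⟨a, ha⟩ := ih
    obtain ⟨b, hb⟩ := R.X_add (Pi.single p.1 p.2) (l.map fun p => (Pi.single p.1 p.2 : ι → F)).sum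
    refine ⟨-b + a, ?_⟩
    rw [List.map_cons, List.prod_cons, List.map_cons, List.sum_cons, ha, hb, R.X_single]
    have h1 : R.z b * R.z (-b + a) = R.z a := by rw [← R.z_add]; congr 1; ring
    rw [mul_assoc _ (R.z b), h1, mul_assoc]

/-- the action -/
def rho (k : Bool × F) (v : Fin 4 → F) : Fin 4 → F :=
  if k.1 then ![v 0 - 3 * k.2 * v 1 + 3 * k.2 ^ 2 * v 2 + k.2 ^ 3 * v 3, v 1 - 2 * k.2 * v 2 - k.2 ^ 2 * v 3,
    v 2 + k.2 * v 3, v 3]
  else ![v 0, v 1 - k.2 * v 0, v 2 + k.2 ^ 2 * v 0 - 2 * k.2 * v 1,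
    v 3 + k.2 ^ 3 * v 0 - 3 * k.2 ^ 2 * v 1 + 3 * k.2 * v 2]

/-- the roots `a`, `-a` -/
def rt (b : Bool) : ℕ := if b then 4 else 7

theorem rt_lt (b : Bool) : rt b < chevG2.nroots := by cases b <;> decide +kernel

theorem y_z (b : Bool) (t a : F) : xe hG2 (rt b) t * xe hG2 11 a = xe hG2 11 a * xe hG2 (rt b) t := by
  cases b
  · exact (comm_nil hG2 (r := 11) (s := 7) (by decide +kernel) (by decide +kernel) (by decide +kernel)
      (by decide +kernel) (by decide +kernel) a t)
  · exact (comm_nil hG2 (r := 11) (s := 4) (by decide +kernel) (by decide +kernel) (by decide +kernel)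
      (by decide +kernel) (by decide +kernel) a t)

theorem commWord_eq {D : ChevalleyDatum} {r s : ℕ} {L : List (ℕ × ℤ × ℕ × ℕ)} (h : D.commTerms r s = L) (t u : F) :
    D.commWord F r s t u = L.map fun c => (c.1, (c.2.1 : F) * (-t) ^ c.2.2.1 * u ^ c.2.2.2) := by
  subst h
  rfl

/-- the action on the generators -/
theorem y_x (h3 : (3 : F) ≠ 0) (k : Bool × F) (i : Fin 4) (u : F) :
    ∃ a, xe hG2 (rt k.1) k.2 * (RR h3).X (Pi.single i u) * (xe hG2 (rt k.1) k.2)⁻¹ =
      (RR h3).X (rho k (Pi.single i u)) * (RR h3).z a := by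
  have key : ∀ (l : List (Fin 4 × F)) (c : F) (w : List (ℕ × F)), wd hG2 w =
      (l.map fun p => (RR h3).x p.1 p.2).prod * (RR h3).z c →
      ((Pi.single i u : Fin 4 → F) + (l.map fun p => (Pi.single p.1 p.2 : Fin 4 → F)).sum = rho k (Pi.single i u)) →
      ∃ a, (RR h3).X (Pi.single i u) * wd hG2 w = (RR h3).X (rho k (Pi.single i u)) * (RR h3).z a := by
    intro l c w hw hr
    obtain ⟨a, ha⟩ := prod_eq (RR h3) l
    obtain ⟨b, hb⟩ := (RR h3).X_add (Pi.single i u) (l.map fun p => (Pi.single p.1 p.2 : Fin 4 → F)).sum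
    refine ⟨-b + (a + c), ?_⟩
    rw [← hr, hw, ha, hb]
    have h1 : (RR h3).z b * (RR h3).z (-b + (a + c)) = (RR h3).z a * (RR h3).z c := by
      rw [← (RR h3).z_add, ← (RR h3).z_add]; congr 1; ring
    rw [mul_assoc _ ((RR h3).z b), h1]
    simp only [mul_assoc]
  have hx : (RR h3).X (Pi.single i u) = xe hG2 (tabG.S i) u := (RR h3).X_single i u
  obtain ⟨b, t⟩ := k
  have conj : ∀ (hrs : tabG.S i ≠ rt b) (hneg : tabG.S i ≠ chevG2.neg (rt b)),
      xe hG2 (rt b) t * (RR h3).X (Pi.single i u) * (xe hG2 (rt b) t)⁻¹ =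
        (RR h3).X (Pi.single i u) * wd hG2 (chevG2.commWord F (rt b) (tabG.S i) (-t) u) := fun hrs hneg => by
    rw [hx]
    exact conj_gen hG2 (rt_lt b) (tabG_ok.S_lt i) hrs hneg t u
  show ∃ a, xe hG2 (rt b) t * (RR h3).X (Pi.single i u) * (xe hG2 (rt b) t)⁻¹ = _
  have hne : ∀ (b : Bool) (i : Fin 4), tabG.S i ≠ rt b ∧ tabG.S i ≠ chevG2.neg (rt b) := by decide +kernel
  rw [conj (hne b i).1 (hne b i).2]
  have xx : ∀ (j : Fin 4) (s : F), (RR h3).x j s = xe hG2 (tabG.S j) s := fun _ _ => rfl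
  have zz : ∀ (s : F), (RR h3).z s = xe hG2 11 s := fun _ => rfl
  cases b
  · fin_cases i
    · refine key [(1, -t * u), (2, t ^ 2 * u), (3, t ^ 3 * u)] (t ^ 3 * u ^ 2) _ ?_ ?_
      · rw [commWord_eq (L := [(8, -1, 1, 1), (9, 1, 2, 1), (10, 1, 3, 1), (11, 1, 3, 2)]) (by decide +kernel)]
        simp only [wd, xx, zz, tabG, mul_assoc, _root_.neg_neg, _root_.Int.reduceNeg, _root_.List.map_cons, _root_.Int.cast_neg, _root_.Int.cast_one, _root_.pow_one, _root_.neg_mul, _root_.one_mul, _root_.List.map_nil, _root_.List.prod_cons, _root_.List.prod_nil, _root_.mul_one, _root_.Fin.isValue, _root_.Matrix.cons_val_one, _root_.Matrix.cons_val_zero, _root_.Matrix.cons_val]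
      · ext j
        (revert j; simp only [rho, _root_.Fin.forall_fin_succ, _root_.Fin.zero_eta, Fin.isValue, _root_.neg_mul, _root_.List.map_cons, _root_.List.map_nil, _root_.List.sum_cons, _root_.List.sum_nil, _root_.add_zero, _root_.Pi.add_apply, _root_.Bool.false_eq_true, ↓reduceIte, _root_.Pi.single_eq_same, _root_.ne_eq, _root_.one_ne_zero, _root_.not_false_eq_true, _root_.Pi.single_eq_of_ne, _root_.zero_sub, Fin.reduceEq, _root_.zero_add, _root_.MulZeroClass.mul_zero, _root_.sub_zero, _root_.zero_ne_one, _root_.Matrix.cons_val_zero, _root_.Fin.succ_ne_zero, _root_.Matrix.cons_val_succ, _root_.Fin.succ_zero_eq_one, _root_.Fin.succ_one_eq_two, _root_.Matrix.cons_val_fin_one, Fin.reduceSucc, _root_.IsEmpty.forall_iff, _root_.and_self])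
    · refine key [(2, -2 * t * u), (3, -3 * t ^ 2 * u)] (3 * t * u ^ 2) _ ?_ ?_
      · rw [commWord_eq (L := [(9, -2, 1, 1), (10, -3, 2, 1), (11, 3, 1, 2)]) (by decide +kernel)]
        simp only [wd, xx, zz, tabG, mul_assoc, _root_.neg_neg, _root_.Int.reduceNeg, _root_.List.map_cons, _root_.Int.cast_neg, _root_.Int.cast_ofNat, _root_.pow_one, _root_.neg_mul, _root_.List.map_nil, _root_.List.prod_cons, _root_.List.prod_nil, _root_.mul_one, _root_.Fin.isValue, _root_.Matrix.cons_val]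
      · ext j
        (revert j; simp only [rho, _root_.Fin.forall_fin_succ, _root_.Fin.mk_one, Fin.isValue, _root_.neg_mul, _root_.List.map_cons, _root_.List.map_nil, _root_.List.sum_cons, _root_.List.sum_nil, _root_.add_zero, _root_.Pi.add_apply, _root_.Bool.false_eq_true, ↓reduceIte, _root_.ne_eq, _root_.zero_ne_one, _root_.not_false_eq_true, _root_.Pi.single_eq_of_ne, _root_.Pi.single_eq_same, _root_.MulZeroClass.mul_zero, _root_.sub_zero, Fin.reduceEq, _root_.zero_sub, _root_.Matrix.cons_val_zero, _root_.Matrix.cons_val_succ, _root_.Fin.succ_zero_eq_one, _root_.Fin.succ_one_eq_two, _root_.zero_add, _root_.Matrix.cons_val_fin_one, Fin.reduceSucc, _root_.IsEmpty.forall_iff, _root_.and_self])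
    · refine key [(3, 3 * t * u)] 0 _ ?_ ?_
      · rw [commWord_eq (L := [(10, 3, 1, 1)]) (by decide +kernel), (RR h3).z_zero]
        simp only [wd, xx, tabG, mul_assoc, _root_.neg_neg, _root_.List.map_cons, _root_.Int.cast_ofNat, _root_.pow_one, _root_.List.map_nil, _root_.List.prod_cons, _root_.List.prod_nil, _root_.mul_one, _root_.Int.reduceNeg, _root_.Fin.isValue, _root_.Matrix.cons_val]
      · ext j
        (revert j; simp only [rho, _root_.Fin.forall_fin_succ, Fin.reduceFinMk, Fin.isValue, _root_.List.map_cons, _root_.List.map_nil, _root_.List.sum_cons, _root_.List.sum_nil, _root_.add_zero, _root_.Pi.add_apply, _root_.Bool.false_eq_true, ↓reduceIte, _root_.ne_eq, Fin.reduceEq, _root_.not_false_eq_true, _root_.Pi.single_eq_of_ne, _root_.MulZeroClass.mul_zero, _root_.sub_self, _root_.Pi.single_eq_same, _root_.sub_zero, _root_.zero_add, _root_.Matrix.cons_val_zero, _root_.Matrix.cons_val_succ, _root_.Fin.succ_zero_eq_one, _root_.Fin.succ_one_eq_two,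 _root_.Matrix.cons_val_fin_one, Fin.reduceSucc, _root_.IsEmpty.forall_iff, _root_.and_self])
    · refine key [] 0 _ ?_ ?_
      · rw [commWord_eq (L := []) (by decide +kernel), (RR h3).z_zero]
        simp only [wd, _root_.neg_neg, _root_.List.map_nil, _root_.List.prod_nil, _root_.mul_one]
      · ext j
        (revert j; simp only [rho, _root_.Fin.forall_fin_succ, Fin.reduceFinMk, Fin.isValue, _root_.List.map_nil, _root_.List.sum_nil, _root_.Pi.add_apply, _root_.Pi.zero_apply, _root_.add_zero, _root_.Bool.false_eq_true, ↓reduceIte, _root_.ne_eq, Fin.reduceEq, _root_.not_false_eq_true, _root_.Pi.single_eq_of_ne, _root_.MulZeroClass.mul_zero, _root_.sub_self, _root_.Pi.single_eq_same, _root_.sub_zero, _root_.Matrix.cons_val_zero, _root_.Matrix.cons_val_succ, _root_.Fin.succ_zero_eq_one, _root_.Fin.succ_one_eq_two, _root_.Matrix.cons_val_fin_one, Fin.reduceSucc, _root_.IsEmpty.forall_iff, _root_.and_self])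
  · fin_cases i
    · refine key [] 0 _ ?_ ?_
      · rw [commWord_eq (L := []) (by decide +kernel), (RR h3).z_zero]
        simp only [wd, _root_.neg_neg, _root_.List.map_nil, _root_.List.prod_nil, _root_.mul_one]
      · ext j
        (revert j; simp only [rho, _root_.Fin.forall_fin_succ, _root_.Fin.zero_eta, Fin.isValue, _root_.List.map_nil, _root_.List.sum_nil, _root_.Pi.add_apply, _root_.Pi.zero_apply, _root_.add_zero, ↓reduceIte, _root_.Pi.single_eq_same, _root_.ne_eq, _root_.one_ne_zero, _root_.not_false_eq_true, _root_.Pi.single_eq_of_ne, _root_.MulZeroClass.mul_zero, _root_.sub_zero, Fin.reduceEq, _root_.sub_self, _root_.Matrix.cons_val_zero, _root_.Fin.succ_ne_zero, _root_.Matrix.cons_val_succ, _root_.Matrix.cons_val_fin_one, _root_.implies_true, _root_.and_self])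
    · refine key [(0, -3 * t * u)] 0 _ ?_ ?_
      · rw [commWord_eq (L := [(6, -3, 1, 1)]) (by decide +kernel), (RR h3).z_zero]
        simp only [wd, xx, tabG, mul_assoc, _root_.neg_neg, _root_.Int.reduceNeg, _root_.List.map_cons, _root_.Int.cast_neg, _root_.Int.cast_ofNat, _root_.pow_one, _root_.neg_mul, _root_.List.map_nil, _root_.List.prod_cons, _root_.List.prod_nil, _root_.mul_one, _root_.Fin.isValue, _root_.Matrix.cons_val_zero]
      · ext j
        (revert j; simp only [rho, _root_.Fin.forall_fin_succ, _root_.Fin.mk_one, Fin.isValue, _root_.neg_mul, _root_.List.map_cons, _root_.List.map_nil, _root_.List.sum_cons, _root_.List.sum_nil, _root_.add_zero, _root_.Pi.add_apply, ↓reduceIte, _root_.ne_eq, _root_.zero_ne_one, _root_.not_false_eq_true, _root_.Pi.single_eq_of_ne, _root_.Pi.single_eq_same, _root_.zero_sub, Fin.reduceEq, _root_.MulZeroClass.mul_zero, _root_.sub_zero, _root_.zero_add, _root_.Matrix.cons_val_zero, _root_.Fin.succ_ne_zero, _root_.Matrix.cons_val_succ,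 _root_.Fin.succ_zero_eq_one, _root_.Fin.succ_one_eq_two, _root_.Matrix.cons_val_fin_one, Fin.reduceSucc, _root_.IsEmpty.forall_iff, _root_.and_self])
    · refine key [(1, -2 * t * u), (0, 3 * t ^ 2 * u)] (-3 * t * u ^ 2) _ ?_ ?_
      · rw [commWord_eq (L := [(8, -2, 1, 1), (6, 3, 2, 1), (11, -3, 1, 2)]) (by decide +kernel)]
        simp only [wd, xx, zz, tabG, mul_assoc, _root_.neg_neg, _root_.Int.reduceNeg, _root_.List.map_cons, _root_.Int.cast_neg, _root_.Int.cast_ofNat, _root_.pow_one, _root_.neg_mul, _root_.List.map_nil, _root_.List.prod_cons, _root_.List.prod_nil, _root_.mul_one, _root_.Fin.isValue, _root_.Matrix.cons_val_one, _root_.Matrix.cons_val_zero]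
      · ext j
        (revert j; simp only [rho, _root_.Fin.forall_fin_succ, Fin.reduceFinMk, Fin.isValue, _root_.neg_mul, _root_.List.map_cons, _root_.List.map_nil, _root_.List.sum_cons, _root_.List.sum_nil, _root_.add_zero, _root_.Pi.add_apply, ↓reduceIte, _root_.ne_eq, Fin.reduceEq, _root_.not_false_eq_true, _root_.Pi.single_eq_of_ne, _root_.MulZeroClass.mul_zero, _root_.sub_self, _root_.Pi.single_eq_same, _root_.zero_add, _root_.zero_sub, _root_.sub_zero, _root_.zero_ne_one, _root_.Matrix.cons_val_zero, _root_.Fin.succ_ne_zero, _root_.Matrix.cons_val_succ, _root_.Fin.succ_zero_eq_one, _root_.Fin.succ_one_eq_two, _root_.Matrix.cons_val_fin_one, Fin.reduceSucc, _root_.IsEmpty.forall_iff, _root_.and_self])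
    · refine key [(2, t * u), (1, -t ^ 2 * u), (0, t ^ 3 * u)] (-t ^ 3 * u ^ 2) _ ?_ ?_
      · rw [commWord_eq (L := [(9, 1, 1, 1), (8, -1, 2, 1), (6, 1, 3, 1), (11, -1, 3, 2)]) (by decide +kernel)]
        simp only [wd, xx, zz, tabG, mul_assoc, _root_.neg_neg, _root_.Int.reduceNeg, _root_.List.map_cons, _root_.Int.cast_one, _root_.pow_one, _root_.one_mul, _root_.Int.cast_neg, _root_.neg_mul, _root_.List.map_nil, _root_.List.prod_cons, _root_.List.prod_nil, _root_.mul_one, _root_.Fin.isValue, _root_.Matrix.cons_val, _root_.Matrix.cons_val_one, _root_.Matrix.cons_val_zero]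
      · ext j
        (revert j; simp only [rho, _root_.Fin.forall_fin_succ, Fin.reduceFinMk, Fin.isValue, _root_.neg_mul, _root_.List.map_cons, _root_.List.map_nil, _root_.List.sum_cons, _root_.List.sum_nil, _root_.add_zero, _root_.Pi.add_apply, ↓reduceIte, _root_.ne_eq, Fin.reduceEq, _root_.not_false_eq_true, _root_.Pi.single_eq_of_ne, _root_.MulZeroClass.mul_zero, _root_.sub_self, _root_.Pi.single_eq_same, _root_.zero_add, _root_.zero_sub, _root_.zero_ne_one, _root_.Matrix.cons_val_zero, _root_.Fin.succ_ne_zero, _root_.Matrix.cons_val_succ, _root_.Fin.succ_zero_eq_one, _root_.Fin.succ_one_eq_two, _root_.Matrix.cons_val_fin_one, Fin.reduceSucc, _root_.IsEmpty.forall_iff, _root_.and_self])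


theorem rho_add (k : Bool × F) (v w : Fin 4 → F) : rho k (v + w) = rho k v + rho k w := by
  obtain ⟨b, t⟩ := k
  cases b
  · ext j
    (revert j; simp only [rho, _root_.Fin.forall_fin_succ, _root_.Bool.false_eq_true, ↓reduceIte, Fin.isValue, _root_.Pi.add_apply, _root_.Matrix.cons_val_zero, _root_.Matrix.cons_val_succ, _root_.Matrix.cons_val_fin_one, _root_.forall_const, _root_.true_and]) <;> (repeat' with_reducible apply And.intro) <;> ring
  · ext j
    (revert j; simp only [rho, _root_.Fin.forall_fin_succ, ↓reduceIte, Fin.isValue, _root_.Pi.add_apply, _root_.Matrix.cons_val_zero, _root_.Matrix.cons_val_succ, _root_.Matrix.cons_val_fin_one, _root_.implies_true, _root_.and_true]) <;> (repeat' with_reducible apply And.intro) <;> ring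

theorem rho_zero (k : Bool × F) : rho k 0 = 0 := by
  have h := rho_add k 0 0
  rw [add_zero] at h
  exact (left_eq_add.1 h)

theorem y_X (h3 : (3 : F) ≠ 0) (k : Bool × F) (v : Fin 4 → F) :
    ∃ a, xe hG2 (rt k.1) k.2 * (RR h3).X v * (xe hG2 (rt k.1) k.2)⁻¹ = (RR h3).X (rho k v) * (RR h3).z a := by
  refine RS.pi_induction (p := fun v => ∃ a, xe hG2 (rt k.1) k.2 * (RR h3).X v * (xe hG2 (rt k.1) k.2)⁻¹ =
    (RR h3).X (rho k v) * (RR h3).z a) ?_ ?_ ?_ v
  · refine ⟨0, ?_⟩
    rw [(RR h3).X_zero, rho_zero, (RR h3).X_zero, (RR h3).z_zero]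
    group
  · rintro v w ⟨a, ha⟩ ⟨b, hb⟩
    obtain ⟨c, hc⟩ := (RR h3).X_add v w
    obtain ⟨d, hd⟩ := (RR h3).X_add (rho k v) (rho k w)
    refine ⟨-d + (a + b + c), ?_⟩
    have hyz : ∀ c, xe hG2 (rt k.1) k.2 * (RR h3).z c = (RR h3).z c * xe hG2 (rt k.1) k.2 := fun c => y_z k.1 k.2 c
    set y := xe (F := F) hG2 (rt k.1) k.2 with hy
    have h1 : (RR h3).z d * (RR h3).z (-d + (a + b + c)) = (RR h3).z a * ((RR h3).z b * (RR h3).z c) := by
      rw [← (RR h3).z_add, ← (RR h3).z_add, ← (RR h3).z_add]; congr 1; ring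
    rw [rho_add, hc, hd, mul_assoc _ ((RR h3).z d), h1]
    have h2 : y * ((RR h3).X v * (RR h3).X w * (RR h3).z c) * y⁻¹ =
        (y * (RR h3).X v * y⁻¹) * (y * (RR h3).X w * y⁻¹) * (RR h3).z c := by
      have h3' : (RR h3).z c * y⁻¹ = y⁻¹ * (RR h3).z c := by
        rw [eq_inv_mul_iff_mul_eq, ← mul_assoc, hyz, mul_inv_cancel_right]
      calc y * ((RR h3).X v * (RR h3).X w * (RR h3).z c) * y⁻¹
          = y * (RR h3).X v * (RR h3).X w * ((RR h3).z c * y⁻¹) := by group
        _ = _ := by rw [h3']; group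
    rw [h2, ha, hb]
    have h4 : (RR h3).z a * (RR h3).X (rho k w) = (RR h3).X (rho k w) * (RR h3).z a := ((RR h3).X_z _ _).symm
    calc (RR h3).X (rho k v) * (RR h3).z a * ((RR h3).X (rho k w) * (RR h3).z b) * (RR h3).z c
        = (RR h3).X (rho k v) * ((RR h3).z a * (RR h3).X (rho k w)) * (RR h3).z b * (RR h3).z c := by group
      _ = _ := by rw [h4]; group
  · intro i u
    exact y_x h3 k i u

/-- **Irreducibility.** -/
theorem irr (h2 : (2 : F) ≠ 0) (h3 : (3 : F) ≠ 0) (W : AddSubgroup (Fin 4 → F))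
    (hW : ∀ k : Bool × F, ∀ v ∈ W, rho k v ∈ W) : W = ⊥ ∨ W = ⊤ := by
  have hN : ∀ v ∈ W, ∀ t : F, (![0, -(t * v 0), -(2 * t * v 1), 3 * t * v 2] : Fin 4 → F) ∈ W := by
    intro v hv
    have hf : ∀ t, rho (false, t) v ∈ W := fun t => hW (false, t) v hv
    -- third difference
    have h3d : ∀ c : F, (![0, 0, 0, c * v 0] : Fin 4 → F) ∈ W := by
      intro c
      set! t : F := c / 6 with ht
      have h6 : (6 : F) ≠ 0 := by
        have : (6 : F) = 2 * 3 := by norm_num
        rw [this]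
        exact mul_ne_zero h2 h3
      have h := W.sub_mem (W.sub_mem (W.add_mem (W.add_mem (W.add_mem (W.sub_mem (hf (t + 1 + 1)) (hf (t + 1)))
        (hf t)) (hf 1)) (hf 1)) (W.add_mem (hf (t + 1)) (hf (1 + 1)))) hv
      convert h using 1
      ext j
      fin_cases j
      · simp only [rho, Matrix.vecHead, Matrix.vecTail, _root_.Fin.isValue, _root_.Nat.succ_eq_add_one, _root_.Nat.reduceAdd, _root_.Fin.zero_eta, _root_.Matrix.cons_val_zero, _root_.Bool.false_eq_true, ↓ _root_.reduceIte, _root_.Matrix.sub_cons, _root_.sub_self, _root_.Function.comp_apply, _root_.Fin.succ_zero_eq_one, _root_.Matrix.cons_val_one, _root_.sub_sub_sub_cancel_left, _root_.Fin.succ_one_eq_two, _root_.Matrix.cons_val, _root_.Fin.reduceSucc, _root_.Matrix.empty_sub_empty, _root_.Matrix.add_cons, _root_.zero_add, _root_.Matrix.empty_add_empty, _root_.one_mul, _root_.one_pow, _root_.mul_one, _root_.add_sub_cancel_left, _root_.Pi.sub_apply]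
      · simp only [rho, Matrix.vecHead, Matrix.vecTail, _root_.Fin.isValue, _root_.Nat.succ_eq_add_one, _root_.Nat.reduceAdd, _root_.Fin.mk_one, _root_.Matrix.cons_val_one, _root_.Matrix.cons_val_zero, _root_.Bool.false_eq_true, ↓ _root_.reduceIte, _root_.Matrix.sub_cons, _root_.sub_self, _root_.Function.comp_apply, _root_.Fin.succ_zero_eq_one, _root_.sub_sub_sub_cancel_left, _root_.Fin.succ_one_eq_two, _root_.Matrix.cons_val, _root_.Fin.reduceSucc, _root_.Matrix.empty_sub_empty, _root_.Matrix.add_cons, _root_.zero_add, _root_.Matrix.empty_add_empty, _root_.one_mul, _root_.one_pow, _root_.mul_one, _root_.add_sub_cancel_left, _root_.Pi.sub_apply]; ring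
      · simp only [rho, Matrix.vecHead, Matrix.vecTail, _root_.Fin.isValue, _root_.Nat.succ_eq_add_one, _root_.Nat.reduceAdd, _root_.Fin.reduceFinMk, _root_.Matrix.cons_val, _root_.Bool.false_eq_true, ↓ _root_.reduceIte, _root_.Matrix.sub_cons, _root_.Matrix.cons_val_zero, _root_.sub_self, _root_.Function.comp_apply, _root_.Fin.succ_zero_eq_one, _root_.Matrix.cons_val_one, _root_.sub_sub_sub_cancel_left, _root_.Fin.succ_one_eq_two, _root_.Fin.reduceSucc, _root_.Matrix.empty_sub_empty, _root_.Matrix.add_cons, _root_.zero_add, _root_.Matrix.empty_add_empty, _root_.one_mul, _root_.one_pow, _root_.mul_one, _root_.add_sub_cancel_left, _root_.Pi.sub_apply]; ring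
      · simp only [rho, Matrix.vecHead, Matrix.vecTail, _root_.Fin.isValue, _root_.Nat.succ_eq_add_one, _root_.Nat.reduceAdd, _root_.Fin.reduceFinMk, _root_.Matrix.cons_val, _root_.Bool.false_eq_true, ↓ _root_.reduceIte, _root_.Matrix.sub_cons, _root_.Matrix.cons_val_zero, _root_.sub_self, _root_.Function.comp_apply, _root_.Fin.succ_zero_eq_one, _root_.Matrix.cons_val_one, _root_.sub_sub_sub_cancel_left, _root_.Fin.succ_one_eq_two, _root_.Fin.reduceSucc, _root_.Matrix.empty_sub_empty, _root_.Matrix.add_cons, _root_.zero_add, _root_.Matrix.empty_add_empty, _root_.one_mul, _root_.one_pow, _root_.mul_one, _root_.add_sub_cancel_left, _root_.Pi.sub_apply]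
        have : c = 6 * t := by rw [ht]; field_simp
        rw [this]; ring
    have h2d : ∀ c : F, (![0, 0, c * v 0, -(3 * c * v 1)] : Fin 4 → F) ∈ W := by
      intro c
      set! t : F := c / 2 with ht
      have hc : c = 2 * t := by rw [ht]; field_simp
      have h := W.sub_mem (W.add_mem (W.sub_mem (W.sub_mem (hf (t + 1)) (hf t)) (hf 1)) hv)
        (h3d (3 * (t ^ 2 + t)))
      convert h using 1
      ext j
      fin_cases j
      · simp only [rho, Matrix.vecHead, Matrix.vecTail, _root_.Fin.isValue, _root_.Nat.succ_eq_add_one, _root_.Nat.reduceAdd, _root_.Fin.zero_eta, _root_.Matrix.cons_val_zero, _root_.Bool.false_eq_true, ↓ _root_.reduceIte, _root_.Matrix.sub_cons, _root_.sub_self, _root_.Function.comp_apply, _root_.Fin.succ_zero_eq_one, _root_.Matrix.cons_val_one, _root_.sub_sub_sub_cancel_left, _root_.Fin.succ_one_eq_two, _root_.Matrix.cons_val, _root_.Fin.reduceSucc, _root_.Matrix.empty_sub_empty, _root_.one_mul, _root_.one_pow, _root_.mul_one, _root_.zero_sub,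 _root_.Matrix.cons_add, _root_.neg_add_cancel, _root_.Matrix.empty_add_empty, _root_.Pi.sub_apply]
      · simp only [rho, Matrix.vecHead, Matrix.vecTail, _root_.Fin.isValue, _root_.Nat.succ_eq_add_one, _root_.Nat.reduceAdd, _root_.Fin.mk_one, _root_.Matrix.cons_val_one, _root_.Matrix.cons_val_zero, _root_.Bool.false_eq_true, ↓ _root_.reduceIte, _root_.Matrix.sub_cons, _root_.sub_self, _root_.Function.comp_apply, _root_.Fin.succ_zero_eq_one, _root_.sub_sub_sub_cancel_left, _root_.Fin.succ_one_eq_two, _root_.Matrix.cons_val, _root_.Fin.reduceSucc, _root_.Matrix.empty_sub_empty, _root_.one_mul, _root_.one_pow, _root_.mul_one, _root_.zero_sub, _root_.Matrix.cons_add, _root_.neg_add_cancel, _root_.Matrix.empty_add_empty, _root_.Pi.sub_apply, _root_.sub_zero]; ring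
      · simp only [rho, Matrix.vecHead, Matrix.vecTail, _root_.Fin.isValue, _root_.Nat.succ_eq_add_one, _root_.Nat.reduceAdd, _root_.Fin.reduceFinMk, _root_.Matrix.cons_val, _root_.Bool.false_eq_true, ↓ _root_.reduceIte, _root_.Matrix.sub_cons, _root_.Matrix.cons_val_zero, _root_.sub_self, _root_.Function.comp_apply, _root_.Fin.succ_zero_eq_one, _root_.Matrix.cons_val_one, _root_.sub_sub_sub_cancel_left, _root_.Fin.succ_one_eq_two, _root_.Fin.reduceSucc, _root_.Matrix.empty_sub_empty, _root_.one_mul, _root_.one_pow, _root_.mul_one, _root_.zero_sub, _root_.Matrix.cons_add, _root_.neg_add_cancel, _root_.Matrix.empty_add_empty, _root_.Pi.sub_apply, _root_.sub_zero]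
        rw [hc]; ring
      · simp only [rho, Matrix.vecHead, Matrix.vecTail, _root_.Fin.isValue, _root_.Nat.succ_eq_add_one, _root_.Nat.reduceAdd, _root_.Fin.reduceFinMk, _root_.Matrix.cons_val, _root_.Bool.false_eq_true, ↓ _root_.reduceIte, _root_.Matrix.sub_cons, _root_.Matrix.cons_val_zero, _root_.sub_self, _root_.Function.comp_apply, _root_.Fin.succ_zero_eq_one, _root_.Matrix.cons_val_one, _root_.sub_sub_sub_cancel_left, _root_.Fin.succ_one_eq_two, _root_.Fin.reduceSucc, _root_.Matrix.empty_sub_empty, _root_.one_mul, _root_.one_pow, _root_.mul_one, _root_.zero_sub, _root_.Matrix.cons_add, _root_.neg_add_cancel, _root_.Matrix.empty_add_empty, _root_.Pi.sub_apply]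
        rw [hc]; ring
    intro t
    have h := W.sub_mem (W.sub_mem (W.sub_mem (hf t) hv) (h2d (t ^ 2))) (h3d (t ^ 3))
    convert h using 1
    ext j
    fin_cases j
    · simp only [rho, Matrix.vecHead, Matrix.vecTail, _root_.Fin.isValue, _root_.Nat.succ_eq_add_one, _root_.Nat.reduceAdd, _root_.Fin.zero_eta, _root_.Matrix.cons_val_zero, _root_.Bool.false_eq_true, ↓ _root_.reduceIte, _root_.Matrix.cons_sub, _root_.sub_self, _root_.Function.comp_apply, _root_.Fin.succ_zero_eq_one, _root_.sub_sub_cancel_left, _root_.Fin.succ_one_eq_two, _root_.Fin.reduceSucc, _root_.Matrix.empty_sub_empty, _root_.Matrix.sub_cons, _root_.Matrix.cons_val_one, _root_.sub_zero, _root_.Matrix.cons_val, _root_.sub_neg_eq_add, _root_.Pi.sub_apply]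
    · simp only [rho, Matrix.vecHead, Matrix.vecTail, _root_.Fin.isValue, _root_.Nat.succ_eq_add_one, _root_.Nat.reduceAdd, _root_.Fin.mk_one, _root_.Matrix.cons_val_one, _root_.Matrix.cons_val_zero, _root_.Bool.false_eq_true, ↓ _root_.reduceIte, _root_.Matrix.cons_sub, _root_.sub_self, _root_.Function.comp_apply, _root_.Fin.succ_zero_eq_one, _root_.sub_sub_cancel_left, _root_.Fin.succ_one_eq_two, _root_.Fin.reduceSucc, _root_.Matrix.empty_sub_empty, _root_.Matrix.sub_cons, _root_.sub_zero, _root_.Matrix.cons_val, _root_.sub_neg_eq_add, _root_.Pi.sub_apply]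
    · simp only [rho, Matrix.vecHead, Matrix.vecTail, _root_.Fin.isValue, _root_.Nat.succ_eq_add_one, _root_.Nat.reduceAdd, _root_.Fin.reduceFinMk, _root_.Matrix.cons_val, _root_.Bool.false_eq_true, ↓ _root_.reduceIte, _root_.Matrix.cons_sub, _root_.sub_self, _root_.Function.comp_apply, _root_.Fin.succ_zero_eq_one, _root_.sub_sub_cancel_left, _root_.Fin.succ_one_eq_two, _root_.Fin.reduceSucc, _root_.Matrix.empty_sub_empty, _root_.Matrix.sub_cons, _root_.Matrix.cons_val_zero, _root_.Matrix.cons_val_one, _root_.sub_zero, _root_.sub_neg_eq_add, _root_.Pi.sub_apply]; ring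
    · simp only [rho, Matrix.vecHead, Matrix.vecTail, _root_.Fin.isValue, _root_.Nat.succ_eq_add_one, _root_.Nat.reduceAdd, _root_.Fin.reduceFinMk, _root_.Matrix.cons_val, _root_.Bool.false_eq_true, ↓ _root_.reduceIte, _root_.Matrix.cons_sub, _root_.sub_self, _root_.Function.comp_apply, _root_.Fin.succ_zero_eq_one, _root_.sub_sub_cancel_left, _root_.Fin.succ_one_eq_two, _root_.Fin.reduceSucc, _root_.Matrix.empty_sub_empty, _root_.Matrix.sub_cons, _root_.Matrix.cons_val_zero, _root_.Matrix.cons_val_one, _root_.sub_zero, _root_.sub_neg_eq_add, _root_.Pi.sub_apply]; ring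
  have hN' : ∀ v ∈ W, ∀ t : F, (![-(3 * t * v 1), -(2 * t * v 2), t * v 3, 0] : Fin 4 → F) ∈ W := by
    intro v hv
    have hf : ∀ t, rho (true, t) v ∈ W := fun t => hW (true, t) v hv
    -- third difference
    have h3d : ∀ c : F, (![c * v 3, 0, 0, 0] : Fin 4 → F) ∈ W := by
      intro c
      set! t : F := c / 6 with ht
      have h6 : (6 : F) ≠ 0 := by
        have : (6 : F) = 2 * 3 := by norm_num
        rw [this]
        exact mul_ne_zero h2 h3
      have h := W.sub_mem (W.sub_mem (W.add_mem (W.add_mem (W.add_mem (W.sub_mem (hf (t + 1 + 1)) (hf (t + 1)))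
        (hf t)) (hf 1)) (hf 1)) (W.add_mem (hf (t + 1)) (hf (1 + 1)))) hv
      convert h using 1
      ext j
      fin_cases j
      · simp only [rho, Matrix.vecHead, Matrix.vecTail, _root_.Fin.isValue, _root_.Nat.succ_eq_add_one, _root_.Nat.reduceAdd, _root_.Fin.zero_eta, _root_.Matrix.cons_val_zero, ↓ _root_.reduceIte, _root_.Matrix.sub_cons, _root_.Function.comp_apply, _root_.Fin.succ_zero_eq_one, _root_.Matrix.cons_val_one, _root_.Fin.succ_one_eq_two, _root_.Matrix.cons_val, _root_.add_sub_add_left_eq_sub, _root_.Fin.reduceSucc, _root_.sub_self, _root_.Matrix.empty_sub_empty, _root_.Matrix.add_cons, _root_.zero_add, _root_.Matrix.empty_add_empty, _root_.mul_one, _root_.one_pow, _root_.one_mul, _root_.add_sub_cancel_left, _root_.Pi.sub_apply]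
        have : c = 6 * t := by rw [ht]; field_simp
        rw [this]; ring
      · simp only [rho, Matrix.vecHead, Matrix.vecTail, _root_.Fin.isValue, _root_.Nat.succ_eq_add_one, _root_.Nat.reduceAdd, _root_.Fin.mk_one, _root_.Matrix.cons_val_one, _root_.Matrix.cons_val_zero, ↓ _root_.reduceIte, _root_.Matrix.sub_cons, _root_.Function.comp_apply, _root_.Fin.succ_zero_eq_one, _root_.Fin.succ_one_eq_two, _root_.Matrix.cons_val, _root_.add_sub_add_left_eq_sub, _root_.Fin.reduceSucc, _root_.sub_self, _root_.Matrix.empty_sub_empty, _root_.Matrix.add_cons, _root_.zero_add, _root_.Matrix.empty_add_empty, _root_.mul_one, _root_.one_pow, _root_.one_mul, _root_.add_sub_cancel_left, _root_.Pi.sub_apply]; ring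
      · simp only [rho, Matrix.vecHead, Matrix.vecTail, _root_.Fin.isValue, _root_.Nat.succ_eq_add_one, _root_.Nat.reduceAdd, _root_.Fin.reduceFinMk, _root_.Matrix.cons_val, ↓ _root_.reduceIte, _root_.Matrix.sub_cons, _root_.Matrix.cons_val_zero, _root_.Function.comp_apply, _root_.Fin.succ_zero_eq_one, _root_.Matrix.cons_val_one, _root_.Fin.succ_one_eq_two, _root_.add_sub_add_left_eq_sub, _root_.Fin.reduceSucc, _root_.sub_self, _root_.Matrix.empty_sub_empty, _root_.Matrix.add_cons, _root_.zero_add, _root_.Matrix.empty_add_empty, _root_.mul_one, _root_.one_pow, _root_.one_mul, _root_.add_sub_cancel_left, _root_.Pi.sub_apply]; ring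
      · simp only [rho, Matrix.vecHead, Matrix.vecTail, _root_.Fin.isValue, _root_.Nat.succ_eq_add_one, _root_.Nat.reduceAdd, _root_.Fin.reduceFinMk, _root_.Matrix.cons_val, ↓ _root_.reduceIte, _root_.Matrix.sub_cons, _root_.Matrix.cons_val_zero, _root_.Function.comp_apply, _root_.Fin.succ_zero_eq_one, _root_.Matrix.cons_val_one, _root_.Fin.succ_one_eq_two, _root_.add_sub_add_left_eq_sub, _root_.Fin.reduceSucc, _root_.sub_self, _root_.Matrix.empty_sub_empty, _root_.Matrix.add_cons, _root_.zero_add, _root_.Matrix.empty_add_empty, _root_.mul_one, _root_.one_pow, _root_.one_mul, _root_.add_sub_cancel_left, _root_.Pi.sub_apply]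
    have h2d : ∀ c : F, (![3 * c * v 2, -(c * v 3), 0, 0] : Fin 4 → F) ∈ W := by
      intro c
      set! t : F := c / 2 with ht
      have hc : c = 2 * t := by rw [ht]; field_simp
      have h := W.sub_mem (W.add_mem (W.sub_mem (W.sub_mem (hf (t + 1)) (hf t)) (hf 1)) hv)
        (h3d (3 * (t ^ 2 + t)))
      convert h using 1
      ext j
      fin_cases j
      · simp only [rho, Matrix.vecHead, Matrix.vecTail, _root_.Fin.isValue, _root_.Nat.succ_eq_add_one, _root_.Nat.reduceAdd, _root_.Fin.zero_eta, _root_.Matrix.cons_val_zero, ↓ _root_.reduceIte, _root_.Matrix.sub_cons, _root_.Function.comp_apply, _root_.Fin.succ_zero_eq_one, _root_.Matrix.cons_val_one, _root_.Fin.succ_one_eq_two, _root_.Matrix.cons_val, _root_.add_sub_add_left_eq_sub, _root_.Fin.reduceSucc, _root_.sub_self, _root_.Matrix.empty_sub_empty, _root_.mul_one, _root_.one_pow, _root_.one_mul, _root_.zero_sub, _root_.Matrix.cons_add, _root_.neg_add_cancel, _root_.Matrix.empty_add_empty, _root_.Pi.sub_apply]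
        rw [hc]; ring
      · simp only [rho, Matrix.vecHead, Matrix.vecTail, _root_.Fin.isValue, _root_.Nat.succ_eq_add_one, _root_.Nat.reduceAdd, _root_.Fin.mk_one, _root_.Matrix.cons_val_one, _root_.Matrix.cons_val_zero, ↓ _root_.reduceIte, _root_.Matrix.sub_cons, _root_.Function.comp_apply, _root_.Fin.succ_zero_eq_one, _root_.Fin.succ_one_eq_two, _root_.Matrix.cons_val, _root_.add_sub_add_left_eq_sub, _root_.Fin.reduceSucc, _root_.sub_self, _root_.Matrix.empty_sub_empty, _root_.mul_one, _root_.one_pow, _root_.one_mul, _root_.zero_sub, _root_.Matrix.cons_add, _root_.neg_add_cancel, _root_.Matrix.empty_add_empty, _root_.Pi.sub_apply, _root_.sub_zero]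
        rw [hc]; ring
      · simp only [rho, Matrix.vecHead, Matrix.vecTail, _root_.Fin.isValue, _root_.Nat.succ_eq_add_one, _root_.Nat.reduceAdd, _root_.Fin.reduceFinMk, _root_.Matrix.cons_val, ↓ _root_.reduceIte, _root_.Matrix.sub_cons, _root_.Matrix.cons_val_zero, _root_.Function.comp_apply, _root_.Fin.succ_zero_eq_one, _root_.Matrix.cons_val_one, _root_.Fin.succ_one_eq_two, _root_.add_sub_add_left_eq_sub, _root_.Fin.reduceSucc, _root_.sub_self, _root_.Matrix.empty_sub_empty, _root_.mul_one, _root_.one_pow, _root_.one_mul, _root_.zero_sub, _root_.Matrix.cons_add, _root_.neg_add_cancel, _root_.Matrix.empty_add_empty, _root_.Pi.sub_apply, _root_.sub_zero]; ring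
      · simp only [rho, Matrix.vecHead, Matrix.vecTail, _root_.Fin.isValue, _root_.Nat.succ_eq_add_one, _root_.Nat.reduceAdd, _root_.Fin.reduceFinMk, _root_.Matrix.cons_val, ↓ _root_.reduceIte, _root_.Matrix.sub_cons, _root_.Matrix.cons_val_zero, _root_.Function.comp_apply, _root_.Fin.succ_zero_eq_one, _root_.Matrix.cons_val_one, _root_.Fin.succ_one_eq_two, _root_.add_sub_add_left_eq_sub, _root_.Fin.reduceSucc, _root_.sub_self, _root_.Matrix.empty_sub_empty, _root_.mul_one, _root_.one_pow, _root_.one_mul, _root_.zero_sub, _root_.Matrix.cons_add, _root_.neg_add_cancel, _root_.Matrix.empty_add_empty, _root_.Pi.sub_apply]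
    intro t
    have h := W.sub_mem (W.sub_mem (W.sub_mem (hf t) hv) (h2d (t ^ 2))) (h3d (t ^ 3))
    convert h using 1
    ext j
    fin_cases j
    · simp only [rho, Matrix.vecHead, Matrix.vecTail, _root_.Fin.isValue, _root_.Nat.succ_eq_add_one, _root_.Nat.reduceAdd, _root_.Fin.zero_eta, _root_.Matrix.cons_val_zero, ↓ _root_.reduceIte, _root_.Matrix.cons_sub, _root_.Function.comp_apply, _root_.Fin.succ_zero_eq_one, _root_.Fin.succ_one_eq_two, _root_.add_sub_cancel_left, _root_.Fin.reduceSucc, _root_.sub_self, _root_.Matrix.empty_sub_empty, _root_.Matrix.sub_cons, _root_.Matrix.cons_val_one, _root_.sub_neg_eq_add, _root_.Matrix.cons_val, _root_.sub_zero, _root_.Pi.sub_apply]; ring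
    · simp only [rho, Matrix.vecHead, Matrix.vecTail, _root_.Fin.isValue, _root_.Nat.succ_eq_add_one, _root_.Nat.reduceAdd, _root_.Fin.mk_one, _root_.Matrix.cons_val_one, _root_.Matrix.cons_val_zero, ↓ _root_.reduceIte, _root_.Matrix.cons_sub, _root_.Function.comp_apply, _root_.Fin.succ_zero_eq_one, _root_.Fin.succ_one_eq_two, _root_.add_sub_cancel_left, _root_.Fin.reduceSucc, _root_.sub_self, _root_.Matrix.empty_sub_empty, _root_.Matrix.sub_cons, _root_.sub_neg_eq_add, _root_.Matrix.cons_val, _root_.sub_zero, _root_.Pi.sub_apply]; ring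
    · simp only [rho, Matrix.vecHead, Matrix.vecTail, _root_.Fin.isValue, _root_.Nat.succ_eq_add_one, _root_.Nat.reduceAdd, _root_.Fin.reduceFinMk, _root_.Matrix.cons_val, ↓ _root_.reduceIte, _root_.Matrix.cons_sub, _root_.Function.comp_apply, _root_.Fin.succ_zero_eq_one, _root_.Fin.succ_one_eq_two, _root_.add_sub_cancel_left, _root_.Fin.reduceSucc, _root_.sub_self, _root_.Matrix.empty_sub_empty, _root_.Matrix.sub_cons, _root_.Matrix.cons_val_zero, _root_.Matrix.cons_val_one, _root_.sub_neg_eq_add, _root_.sub_zero, _root_.Pi.sub_apply]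
    · simp only [rho, Matrix.vecHead, Matrix.vecTail, _root_.Fin.isValue, _root_.Nat.succ_eq_add_one, _root_.Nat.reduceAdd, _root_.Fin.reduceFinMk, _root_.Matrix.cons_val, ↓ _root_.reduceIte, _root_.Matrix.cons_sub, _root_.Function.comp_apply, _root_.Fin.succ_zero_eq_one, _root_.Fin.succ_one_eq_two, _root_.add_sub_cancel_left, _root_.Fin.reduceSucc, _root_.sub_self, _root_.Matrix.empty_sub_empty, _root_.Matrix.sub_cons, _root_.Matrix.cons_val_zero, _root_.Matrix.cons_val_one, _root_.sub_neg_eq_add, _root_.sub_zero, _root_.Pi.sub_apply]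
  by_cases hbot : W = ⊥
  · exact Or.inl hbot
  right
  obtain ⟨w, hv, hv0'⟩ : ∃ w ∈ W, w ≠ 0 := by
    by_contra hcon
    push Not at hcon
    exact hbot ((AddSubgroup.eq_bot_iff_forall W).2 hcon)
  -- the last coordinate
  have h3c : ∀ c : F, (![0, 0, 0, c] : Fin 4 → F) ∈ W := by
    have step3 : ∀ w ∈ W, w 2 ≠ 0 → w 0 = 0 → w 1 = 0 → ∀ c : F, (![0, 0, 0, c] : Fin 4 → F) ∈ W := by
      intro w hw h2w h0 h1 c
      have h := hN w hw (c / (3 * w 2))
      rw [h0, h1] at h
      convert h using 1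
      ext j
      fin_cases j
      · simp
      · simp
      · simp
      · simp
        field_simp
    have step2 : ∀ w ∈ W, w 1 ≠ 0 → w 0 = 0 → ∀ c : F, (![0, 0, 0, c] : Fin 4 → F) ∈ W := by
      intro w hw h1w h0
      refine step3 _ (hN w hw 1) ?_ ?_ ?_
      · simp [h2, h1w]
      · simp
      · simp [h0]
    by_cases h0 : w 0 = 0
    · by_cases h1 : w 1 = 0
      · by_cases h2w : w 2 = 0
        · have h3w : w 3 ≠ 0 := by
            intro h3w
            apply hv0'
            ext j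
            fin_cases j
            · exact h0
            · exact h1
            · exact h2w
            · exact h3w
          refine step3 _ (hN' w hv 1) ?_ ?_ ?_
          · simp [h3w]
          · simp [h1]
          · simp [h2w]
        · exact step3 w hv h2w h0 h1
      · exact step2 w hv h1 h0
    · refine step2 _ (hN w hv 1) ?_ ?_
      · simp [h0]
      · simp
  have h2c : ∀ c : F, (![0, 0, c, 0] : Fin 4 → F) ∈ W := by
    intro c
    have h := hN' _ (h3c c) 1
    convert h using 1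
    ext j
    (revert j; simp [_root_.Fin.forall_fin_succ])
  have h1c : ∀ c : F, (![0, c, 0, 0] : Fin 4 → F) ∈ W := by
    intro c
    have h := hN' _ (h2c (-(c / 2))) 1
    convert h using 1
    ext j
    (revert j; simp only [_root_.Fin.forall_fin_succ, _root_.Nat.succ_eq_add_one, Nat.reduceAdd, _root_.mul_one, Fin.isValue, _root_.Matrix.cons_val_one, _root_.Matrix.cons_val_zero, _root_.MulZeroClass.mul_zero, _root_.neg_zero, _root_.Matrix.cons_val, _root_.mul_neg, _root_.neg_neg, _root_.Matrix.cons_val_succ, _root_.implies_true, _root_.and_true, _root_.true_and]) <;> (repeat' with_reducible apply And.intro)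
    field_simp
  have h0c : ∀ c : F, (![c, 0, 0, 0] : Fin 4 → F) ∈ W := by
    intro c
    have h := hN' _ (h1c (-(c / 3))) 1
    convert h using 1
    ext j
    (revert j; simp only [_root_.Fin.forall_fin_succ, _root_.Nat.succ_eq_add_one, Nat.reduceAdd, _root_.mul_one, Fin.isValue, _root_.Matrix.cons_val_one, _root_.Matrix.cons_val_zero, _root_.mul_neg, _root_.neg_neg, _root_.Matrix.cons_val, _root_.MulZeroClass.mul_zero, _root_.neg_zero, _root_.Matrix.cons_val_succ, _root_.implies_true, _root_.and_true, _root_.true_and]) <;> (repeat' with_reducible apply And.intro)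
    field_simp
  rw [eq_top_iff]
  intro u _
  have h := W.add_mem (W.add_mem (W.add_mem (h0c (u 0)) (h1c (u 1))) (h2c (u 2))) (h3c (u 3))
  convert h using 1
  ext j
  (revert j; simp only [_root_.Fin.forall_fin_succ, Fin.isValue, _root_.Matrix.add_cons, _root_.Matrix.head_cons, _root_.add_zero, _root_.Matrix.tail_cons, _root_.zero_add, _root_.Matrix.empty_add_empty, _root_.Pi.add_apply, _root_.Matrix.cons_val_zero, _root_.Matrix.cons_val_succ, _root_.Fin.succ_zero_eq_one, _root_.Fin.succ_one_eq_two, _root_.Matrix.cons_val_fin_one, Fin.reduceSucc, _root_.IsEmpty.forall_iff, _root_.and_self])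

/-- The coordinates of `q ^ (1 + 4) : SL₂(q)`. -/
noncomputable def DD (h2 : (2 : F) ≠ 0) (h3 : (3 : F) ≠ 0) : Data ↥(chevG2.group F) (Fin 4 → F) F (Bool × F) where
  X := (RR h3).X
  z := (RR h3).z
  om := (RR h3).om
  y := fun k => xe hG2 (rt k.1) k.2
  rho := rho
  z_add := (RR h3).z_add
  z_inj := (RR h3).z_inj
  X_add := (RR h3).X_add
  X_z := (RR h3).X_z
  y_z := fun k a => y_z k.1 k.2 a
  comm := (RR h3).comm
  special := fun _ hv a => (RR h3).special hv a
  y_X := y_X h3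
  irr := irr h2 h3

theorem neg_rt (b : Bool) : chevG2.neg (rt b) = rt (!b) := by cases b <;> decide +kernel

/-- Overgroups of `Q` in `P`. -/
theorem index_ge [Fintype F] (h2 : (2 : F) ≠ 0) (h3 : (3 : F) ≠ 0) (M : Subgroup (DD h2 h3).Pg)
    (hQ : (DD h2 h3).QQ ≤ M) (hM : M ≠ ⊤) : Fintype.card F ≤ 2 * M.index := by
  classical
  have : Finite (GL chevG2.Idx F) := inferInstance
  obtain ⟨⟨β, t0⟩, hκ⟩ := (DD h2 h3).exists_not_mem hQ hM
  -- the homomorphism of `SL₂`
  obtain ⟨φ, hφ1, hφ2⟩ := Cfsg.Agent.S1030.result (F := F) chevG2 hG2 (rt β) (rt_lt β)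
  have hrange : ∀ g, ∃ g' : (DD h2 h3).Pg, ((g' : ↥(chevG2.group F)) : GL chevG2.Idx F) = φ g := by
    intro g
    have h1 : φ.range ≤ ((DD h2 h3).Pg.map (chevG2.group F).subtype) := by
      rw [hφ1, sup_le_iff]
      constructor
      · intro x hx
        obtain ⟨t, rfl⟩ := (mem_rootSubgroup_iff hG2 _ _).1 hx
        exact ⟨xe hG2 (rt β) t, (DD h2 h3).y_mem (β, t), rfl⟩
      · intro x hx
        obtain ⟨t, rfl⟩ := (mem_rootSubgroup_iff hG2 _ _).1 hx
        rw [neg_rt β]
        exact ⟨xe hG2 (rt (!β)) t, (DD h2 h3).y_mem (!β, t), rfl⟩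
    obtain ⟨x, hx, hxg⟩ := h1 ⟨g, rfl⟩
    exact ⟨⟨x, hx⟩, hxg⟩
  let x : F → (DD h2 h3).Pg := fun t => ⟨(DD h2 h3).y (β, t), (DD h2 h3).y_mem (β, t)⟩
  have hadd : ∀ s t, x (s + t) = x s * x t := fun s t => Subtype.ext (xe_add hG2 _ s t)
  have hup : ∀ t : F, φ (up t) = ((x t : ↥(chevG2.group F)) : GL chevG2.Idx F) :=
    fun t => Units.ext ((hφ2 _ t).1 rfl)
  have hconj : ∀ c : F, c ≠ 0 → ∀ t, ∃ h : (DD h2 h3).Pg, h * x t * h⁻¹ = x (c ^ 2 * t) := by
    intro c hc t
    obtain ⟨h, hh⟩ := hrange (dg c hc)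
    refine ⟨h, ?_⟩
    rw [mul_inv_eq_iff_eq_mul]
    apply Subtype.ext
    apply Subtype.ext
    show ((h : ↥(chevG2.group F)) : GL chevG2.Idx F) * ((x t : ↥(chevG2.group F)) : GL chevG2.Idx F) =
      ((x (c ^ 2 * t) : ↥(chevG2.group F)) : GL chevG2.Idx F) * ((h : ↥(chevG2.group F)) : GL chevG2.Idx F)
    rw [hh, ← hup, ← hup, ← map_mul, ← map_mul, dg_up]
  have h1 := (Cfsg.Agent.H934.BurnSq.card_le_two_mul (Ω := (DD h2 h3).Pg ⧸ M) x hadd hconj
    ⟨t0, ((1 : (DD h2 h3).Pg) : (DD h2 h3).Pg ⧸ M), fun h => by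
      have h2' : ((x t0 * 1 : (DD h2 h3).Pg) : (DD h2 h3).Pg ⧸ M) =
        ((1 : (DD h2 h3).Pg) : (DD h2 h3).Pg ⧸ M) := h
      apply hκ
      have h3' := QuotientGroup.eq.1 h2'.symm
      rwa [inv_one, one_mul, mul_one] at h3'⟩ :)
  exact h1

/-- **The bound for `G₂(q)`, `q` prime to 6.** -/
theorem pow_eight_le [Fintype F] (h2 : (2 : F) ≠ 0) (h3 : (3 : F) ≠ 0) (hs : IsSimpleGroup ↥(chevG2.group F))
    (H : Subgroup ↥(chevG2.group F)) (hH : H ≠ ⊤) : Fintype.card F ^ 8 ≤ 4 * H.index ^ 2 := by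
  classical
  have : Finite (GL chevG2.Idx F) := inferInstance
  set! m := (Fintype.card F + 1) / 2 with hm
  obtain ⟨c, -, -, h⟩ := (DD (F := F) h2 h3).index_bound (MonoidHom.id _) hH (a0 := 1)
    (fun a b ha hb => z_isConj0 hG2 tabG_ok.th_lt tabG_ok.p_lt tabG_ok.p_th a b ha hb)
    (fun h => by
      have h1 : xe hG2 tabG.th (1 : F) = 1 := h
      exact one_ne_zero (xe_eq_one hG2 tabG_ok.th_lt h1)) m (fun M hQ hM => by
      have := index_ge h2 h3 M hQ hM
      omega)
  rw [Nat.card_fun, Nat.card_eq_fintype_card (α := F), Nat.card_eq_fintype_card (α := Fin 4), Fintype.card_fin] at h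
  have hle : H.index - c ≤ H.index := Nat.sub_le _ _
  have hq : 1 ≤ Fintype.card F := Fintype.card_pos
  rcases h with h | h
  · have h1 : Fintype.card F ^ 5 ≤ H.index := by
      calc Fintype.card F ^ 5 = Fintype.card F ^ 4 * Fintype.card F := by ring
        _ ≤ _ := h.trans hle
    calc Fintype.card F ^ 8 ≤ Fintype.card F ^ 10 := Nat.pow_le_pow_right hq (by norm_num)
      _ = (Fintype.card F ^ 5) ^ 2 := by ring
      _ ≤ H.index ^ 2 := Nat.pow_le_pow_left h1 2
      _ ≤ _ := by omega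
  · have h1 : Fintype.card F ≤ 2 * m := by omega
    calc Fintype.card F ^ 8 = (Fintype.card F) ^ 2 * Fintype.card F ^ 6 := by ring
      _ ≤ (2 * m) ^ 2 * Fintype.card F ^ 6 := Nat.mul_le_mul_right _ (Nat.pow_le_pow_left h1 2)
      _ = 4 * (m ^ 2 * (Fintype.card F * (Fintype.card F ^ 4 * Fintype.card F))) := by ring
      _ ≤ 4 * (H.index - c) ^ 2 := Nat.mul_le_mul_left _ h
      _ ≤ _ := Nat.mul_le_mul_left _ (Nat.pow_le_pow_left hle 2)

end Cfsg.Agent.H172.S3G2

private theorem dce_087a5892d97c : _root_.True := by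
  try have : _root_.True := by simp only [_root_.Cfsg.Agent.H172.S3G2.rho.eq_1]
  try have : _root_.True := by simp only [_root_.Cfsg.Agent.H172.S3G2.wd.congr_simp]
  try have : _root_.True := by simp only [_root_.Cfsg.Agent.H934.HeisF4G2.tabG.eq_1]
  try have : _root_.True := by simp only [_root_.Cfsg.Agent.H172.S3G2.wd.eq_1]
  try have : _root_.True := by simp only [_root_.Cfsg.Agent.H172.S3G2.RR.congr_simp]
  exact _root_.True.intro
end
end
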