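import Mathlib
import Cfsg.Agent.H934.IdxRoot
import Cfsg.Agent.Schreier.He_m3
import Cfsg.Agent.S1152
import Cfsg.Agent.S1157
import Cfsg.Agent.Prune
set_option linter.all false

-- part: H934/IdxSz
section
set_option linter.all false
open scoped Cfsg.Agent.FastGrp

/-!
# `Sz(q)`: proper subgroups have index at least `q`
-/

set_option autoImplicit false

namespace Cfsg.Agent.H934.IdxSz

open Cfsg.Agent.Schreier.Sz Cfsg.Agent.LieRecognition.SzMatrix

theorem card_le_index {F : Type*} [Field F] [Fintype F] {m : ℕ} (hF : Fintype.card F = 2 ^ (2 * m + 1))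
    (hs : IsSimpleGroup ↥(Cfsg.Lie.Sz F (2 ^ (m + 1)))) (H : Subgroup ↥(Cfsg.Lie.Sz F (2 ^ (m + 1)))) (hH : H ≠ ⊤) :
    Fintype.card F ≤ H.index := by
  classical
  have G := good hF
  refine IdxRoot.card_le_index (fun t => G.u 0 t) ?_ ?_ ?_ H hH
  · intro s t
    rw [G.u_mul]
    congr 1 <;> simp
  · intro h
    rw [← G.u_zero] at h
    exact one_ne_zero (G.u_inj h).2
  · intro c hc
    obtain ⟨k, hk⟩ := theta_surjective _ c
    have hk0 : k ≠ 0 := by
      rintro rfl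
      rw [map_zero] at hk
      exact hc hk.symm
    refine ⟨G.d (Units.mk0 k hk0), ?_⟩
    rw [mul_inv_eq_iff_eq_mul, G.d_mul_u]
    congr 2
    · simp
    · rw [one_mul]
      exact hk

end Cfsg.Agent.H934.IdxSz
end

-- part: H934/IdxRee
section
set_option linter.all false
open scoped Cfsg.Agent.FastGrp

/-!
# `²G₂(q)`: proper subgroups have index at least `q / 2`
-/

set_option autoImplicit false

namespace Cfsg.Agent.H934.IdxRee

theorem card_le_two_mul {K : Type*} [Field K] [Fintype K] {m : ℕ} (hK : Fintype.card K = 3 ^ (2 * m + 1))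
    (hs : IsSimpleGroup ↥(Cfsg.Lie.twistedG2 K (3 ^ m))) (H : Subgroup ↥(Cfsg.Lie.twistedG2 K (3 ^ m)))
    (hH : H ≠ ⊤) : Fintype.card K ≤ 2 * H.index := by
  classical
  obtain ⟨a, haH, ha1, ha2⟩ := Cfsg.Agent.S1157.exists_involution hK
  obtain ⟨⟨e⟩, -⟩ := Cfsg.Agent.S1152.result hK a haH ha1 ha2
  let π : Matrix.SpecialLinearGroup (Fin 2) K →* ↥(Cfsg.Lie.twistedG2 K (3 ^ m)) :=
    (Subgroup.subtype _).comp (e.symm.toMonoidHom.comp ((MonoidHom.inr (Multiplicative (ZMod 2))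
      (Matrix.ProjectiveSpecialLinearGroup (Fin 2) K)).comp (QuotientGroup.mk' (Subgroup.center
      (Matrix.SpecialLinearGroup (Fin 2) K)))))
  refine IdxRoot.card_le_two_mul π (t := 1) ?_ H hH
  intro h
  have h1 : e.symm ((1 : Multiplicative (ZMod 2)), (QuotientGroup.mk' (Subgroup.center
      (Matrix.SpecialLinearGroup (Fin 2) K)) (IdxRoot.up 1))) = 1 := Subtype.ext h
  rw [e.symm.map_eq_one_iff, Prod.mk_eq_one] at h1
  have h2 := (QuotientGroup.eq_one_iff _).1 h1.2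
  rw [Subgroup.mem_center_iff] at h2
  have h3 := congrArg (fun A : Matrix.SpecialLinearGroup (Fin 2) K => (A : Matrix (Fin 2) (Fin 2) K) 0 0)
    (h2 ⟨!![1, 0; 1, 1], by rw [Matrix.det_fin_two_of]; ring⟩)
  have h4 : ((!![(1 : K), 0; 1, 1] * !![(1 : K), 1; 0, 1] : Matrix (Fin 2) (Fin 2) K)) 0 0 =
    ((!![(1 : K), 1; 0, 1] * !![(1 : K), 0; 1, 1] : Matrix (Fin 2) (Fin 2) K)) 0 0 := h3
  rw [Matrix.mul_fin_two, Matrix.mul_fin_two] at h4
  simp at h4

end Cfsg.Agent.H934.IdxRee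
end
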