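import Mathlib
import Cfsg.Agent.H934.IdxRoot
import Cfsg.Agent.Schreier.TwESix
import Cfsg.Agent.FastGrp
import Cfsg.Agent.Prune
set_option linter.all false
prune_inst 0x7f00000000000000000000000000000000000000000000000000000000000000000000000000000000000000000000000000000000000000000000000000000000000000000000000000000000000000003fffffffffffffffffffffffffffbeffbdffffffff
open scoped Cfsg.Agent.FastGrp

/-!
# `²E₆(q)`: proper subgroups have index at least `q²`
-/

set_option autoImplicit false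

namespace Cfsg.Agent.H934.IdxTwE6

open Cfsg.Lie
open Cfsg.Agent.ChevalleyStructure.Elts hiding x_add x_zero x_eq_one_iff
open Cfsg.Agent.ChevalleyStructure.TwE6Basic
open Cfsg.Agent.ChevalleyStructure.TwE6BN
open Cfsg.Agent.Schreier.BNTwisted Cfsg.Agent.Schreier.TwESix

theorem card_le_index {K : Type*} [Field K] [Fintype K] {q : ℕ} (hq : IsPrimePow q) (hK : Fintype.card K = q ^ 2)
    (hs : IsSimpleGroup ↥(twistedE6 K q)) (H : Subgroup ↥(twistedE6 K q)) (hH : H ≠ ⊤) : q ^ 2 ≤ H.index := by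
  obtain ⟨φ, hφ, hqq⟩ := exists_frob hq hK
  have hq0 : q ≠ 0 := hq.one_lt.ne_bot
  let L := locPair pair3 hφ hqq hq0 fun c hc => tor3 hφ c hc
  rw [← hK]
  refine IdxRoot.card_le_index (fun t => (⟨L.x t, L.x_mem_G t⟩ : ↥(twistedE6 K q))) ?_ ?_ ?_ H hH
  · intro s t
    apply Subtype.ext
    show (x 56 (s + t) * x 36 ((s + t) ^ q) : GL chevE6.Idx K) = x 56 s * x 36 (s ^ q) * (x 56 t * x 36 (t ^ q))
    have c1 : ∀ t u : K, (x 36 u * x 56 t : GL chevE6.Idx K) = x 56 t * x 36 u := fun t u => pair3.comm1 t u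
    have e : (s + t) ^ q = s ^ q + t ^ q := by rw [← hφ, ← hφ, ← hφ, map_add]
    rw [e, ← x_add, ← x_add]
    calc (x 56 s * x 56 t * (x 36 (s ^ q) * x 36 (t ^ q)) : GL chevE6.Idx K)
        = x 56 s * (x 56 t * x 36 (s ^ q)) * x 36 (t ^ q) := by group
      _ = x 56 s * (x 36 (s ^ q) * x 56 t) * x 36 (t ^ q) := by rw [c1]
      _ = _ := by group
  · intro h
    exact L.x_one (congrArg Subtype.val h)
  · intro c hc
    obtain ⟨h, -, hG, hc⟩ := L.tor c hc
    refine ⟨⟨h, hG⟩, Subtype.ext ?_⟩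
    have h1 := hc 1
    rw [mul_one] at h1
    exact h1

end Cfsg.Agent.H934.IdxTwE6
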