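import Mathlib
import Cfsg.Agent.Prune
set_option linter.all false
prune_inst 0x7f00000000000000000000000000000000000000000000000000000000000000000000000000000000000000000000000000000000000000000000000000000000000000000000000000000000000000003fffffffffffffffffffffffffffbeffbdffffffff
open scoped Cfsg.Agent.FastGrp

/-!
# Orbits of quadratic forms in characteristic 2, by hand

`T : F →+ ZMod 2` is the trace map of a finite field of characteristic 2 (kernel `{y² + y}`). A set of
`(b₀, c₀, b₁, c₁, b₂, c₂)` closed under the moves `c += τ + τ² b`, `b += τ + τ² c` and two mixed moves contains all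
elements with the same value of `T (b₀c₀ + b₁c₁ + b₂c₂)`.
-/

set_option autoImplicit false

namespace Cfsg.Agent.H934.ArfO

variable {F : Type*} [Field F] [Finite F] [CharP F 2]

theorem add_self (x : F) : x + x = 0 := CharTwo.add_self_eq_zero x

/-- `y ↦ y² + y` -/
def wp (F : Type*) [Field F] [CharP F 2] : F →+ F where
  toFun y := y ^ 2 + y
  map_zero' := by simp
  map_add' x y := by rw [CharTwo.add_sq]; ring

/-- the image -/
def Pg (F : Type*) [Field F] [CharP F 2] : AddSubgroup F := (wp F).range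

theorem mem_Pg {z : F} : z ∈ Pg F ↔ ∃ y, y ^ 2 + y = z := Iff.rfl

theorem index_Pg : (Pg F).index = 2 := by
  have h1 : Nat.card (wp F).ker = 2 := by
    have h2 : ((wp F).ker : Set F) = {0, 1} := by
      ext y
      simp only [SetLike.mem_coe, AddMonoidHom.mem_ker, Set.mem_insert_iff, Set.mem_singleton_iff]
      show y ^ 2 + y = 0 ↔ _
      have h3 : y ^ 2 + y = y * (y + 1) := by ring
      rw [h3, mul_eq_zero]
      have h4 : y + 1 = 0 ↔ y = 1 := by
        rw [CharTwo.add_eq_zero]
      rw [h4]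
    have h3 : Nat.card ((wp F).ker : Set F) = 2 := by
      rw [h2, Nat.card_coe_set_eq, Set.ncard_pair zero_ne_one]
    exact h3
  have h2 := (wp F).ker.card_mul_index
  have h3 : (wp F).ker.index = Nat.card (wp F).range := AddSubgroup.index_ker _
  rw [h1, h3] at h2
  have h4 := (Pg F).card_mul_index
  have h5 : Nat.card (Pg F) = Nat.card (wp F).range := rfl
  have hpos : 0 < Nat.card (wp F).range := Nat.card_pos
  rw [h5, ← h2, mul_comm] at h4
  exact Nat.eq_of_mul_eq_mul_right hpos h4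

open Classical in
/-- The trace map to `ZMod 2`. -/
noncomputable def T : F →+ ZMod 2 where
  toFun z := if z ∈ Pg F then 0 else 1
  map_zero' := by rw [if_pos (zero_mem _)]
  map_add' x y := by
    have h := AddSubgroup.add_mem_iff_of_index_two (index_Pg (F := F)) (a := x) (b := y)
    by_cases hx : x ∈ Pg F <;> by_cases hy : y ∈ Pg F
    · rw [if_pos hx, if_pos hy, if_pos (add_mem hx hy)]; rfl
    · rw [if_pos hx, if_neg hy, if_neg fun h' => hy ((h.1 h').1 hx)]; rfl
    · rw [if_neg hx, if_pos hy, if_neg fun h' => hx ((h.1 h').2 hy)]; rfl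
    · rw [if_neg hx, if_neg hy, if_pos (h.2 ⟨fun h' => absurd h' hx, fun h' => absurd h' hy⟩)]; rfl

open Classical in
theorem T_eq_zero {z : F} : T z = 0 ↔ ∃ y, y ^ 2 + y = z := by
  rw [← mem_Pg]
  show (if z ∈ Pg F then (0 : ZMod 2) else 1) = 0 ↔ _
  split_ifs with h
  · simp [h]
  · simp [h]

theorem T_sq (z : F) : T (z ^ 2) = T z := by
  have h : T (z ^ 2 + z) = 0 := T_eq_zero.2 ⟨z, rfl⟩
  rw [map_add] at h
  have h2 : ∀ a b : ZMod 2, a + b = 0 → a = b := by decide
  exact h2 _ _ h

theorem exists_T_one (F : Type*) [Field F] [Finite F] [CharP F 2] : ∃ z : F, T z = 1 := by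
  by_contra hcon
  push Not at hcon
  have h1 : ∀ z : F, z ∈ Pg F := by
    intro z
    rw [mem_Pg, ← T_eq_zero]
    have h2 : ∀ a : ZMod 2, a ≠ 1 → a = 0 := by decide
    exact h2 _ (hcon z)
  have h3 := index_Pg (F := F)
  rw [AddSubgroup.index_eq_one.2 (by rw [eq_top_iff]; exact fun z _ => h1 z)] at h3
  omega

theorem exists_T_mul {c : F} (hc : c ≠ 0) : ∃ x, T (x * c) = 1 := by
  obtain ⟨z, hz⟩ := exists_T_one F
  exact ⟨z / c, by rw [div_mul_cancel₀ _ hc, hz]⟩

/-- Two conditions at once. -/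
theorem exists_common {c c' : F} {ε : ZMod 2} (h : ε = 0 ∨ (c ≠ 0 ∧ c' ≠ 0)) :
    ∃ x, T (x * c) = ε ∧ T (x * c') = ε := by
  rcases h with rfl | ⟨hc, hc'⟩
  · exact ⟨0, by simp, by simp⟩
  · have h2 : ∀ a : ZMod 2, a = 0 ∨ a = 1 := by decide
    rcases h2 ε with rfl | rfl
    · exact ⟨0, by simp, by simp⟩
    · obtain ⟨x, hx⟩ := exists_T_mul hc
      obtain ⟨y, hy⟩ := exists_T_mul hc'
      rcases h2 (T (x * c')) with h3 | h3
      · rcases h2 (T (y * c)) with h4 | h4
        · exact ⟨x + y, by rw [add_mul, map_add, hx, h4]; rfl, by rw [add_mul, map_add, h3, hy]; rfl⟩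
        · exact ⟨y, h4, hy⟩
      · exact ⟨x, hx, h3⟩

/-- One coordinate. -/
theorem exists_tau {c b b' : F} (h : T (b * c) = T (b' * c)) : ∃ τ, b + (τ + τ ^ 2 * c) = b' := by
  rcases eq_or_ne c 0 with rfl | hc
  · refine ⟨b' - b, by ring⟩
  · have h1 : T (c * (b' - b)) = 0 := by
      have h2 : c * (b' - b) = b' * c + b * c := by
        rw [sub_eq_add_neg, CharTwo.neg_eq]; ring
      rw [h2, map_add, h]
      have h3 : ∀ a : ZMod 2, a + a = 0 := by decide
      exact h3 _
    obtain ⟨y, hy⟩ := T_eq_zero.1 h1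
    refine ⟨y / c, ?_⟩
    have h2 : y / c + (y / c) ^ 2 * c = b' - b := by
      field_simp
      rw [mul_comm c (b' - b)] at hy
      rw [← mul_comm c] at hy
      linear_combination hy
    rw [h2]; ring

/-- **Pairs.** -/
theorem pair {R : F → F → Prop} (h1 : ∀ b c τ, R b c → R b (c + (τ + τ ^ 2 * b)))
    (h2 : ∀ b c τ, R b c → R (b + (τ + τ ^ 2 * c)) c) {b c b' c' : F} (h : R b c) (hT : T (b * c) = T (b' * c')) :
    R b' c' := by
  have hε : T (b * c) = 0 ∨ (c ≠ 0 ∧ c' ≠ 0) := by
    rcases eq_or_ne c 0 with rfl | hc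
    · left; simp
    · rcases eq_or_ne c' 0 with rfl | hc'
      · left; rw [hT]; simp
      · exact Or.inr ⟨hc, hc'⟩
  obtain ⟨x, hx, hx'⟩ := exists_common hε
  obtain ⟨τ, hτ⟩ := exists_tau (c := c) (b := b) (b' := x) hx.symm
  have h3 := h2 b c τ h
  rw [hτ] at h3
  obtain ⟨τ', hτ'⟩ := exists_tau (c := x) (b := c) (b' := c') (by rw [mul_comm c x, mul_comm c' x, hx, hx'])
  have h4 := h1 x c τ' h3
  rw [hτ'] at h4
  obtain ⟨τ'', hτ''⟩ := exists_tau (c := c') (b := x) (b' := b') (by rw [hx', hT])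
  have h5 := h2 x c' τ'' h4
  rwa [hτ''] at h5

/-- **The orbits.** -/
theorem orbit {O : F → F → F → F → F → F → Prop}
    (m1 : ∀ b c b' c' b'' c'' τ, O b c b' c' b'' c'' → O b (c + (τ + τ ^ 2 * b)) b' c' b'' c'')
    (m1' : ∀ b c b' c' b'' c'' τ, O b c b' c' b'' c'' → O (b + (τ + τ ^ 2 * c)) c b' c' b'' c'')
    (m2 : ∀ b c b' c' b'' c'' τ, O b c b' c' b'' c'' → O b c b' (c' + (τ + τ ^ 2 * b')) b'' c'')
    (m2' : ∀ b c b' c' b'' c'' τ, O b c b' c' b'' c'' → O b c (b' + (τ + τ ^ 2 * c')) c' b'' c'')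
    (m3 : ∀ b c b' c' b'' c'' τ, O b c b' c' b'' c'' → O b c b' c' b'' (c'' + (τ + τ ^ 2 * b'')))
    (m3' : ∀ b c b' c' b'' c'' τ, O b c b' c' b'' c'' → O b c b' c' (b'' + (τ + τ ^ 2 * c'')) c'')
    (f1 : ∀ b c b' c' b'' c'' t, O b c b' c' b'' c'' → O b (c + t * b') b' (c' + t * b) b'' c'')
    (f2 : ∀ b c b' c' b'' c'' t, O b c b' c' b'' c'' → O b c b' (c' + t * b'') b'' (c'' + t * b'))
    {b c b' c' b'' c'' : F} (h : O b c b' c' b'' c'') {d e d' e' d'' e'' : F}
    (hT : T (b * c) + T (b' * c') + T (b'' * c'') = T (d * e) + T (d' * e') + T (d'' * e'')) :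
    O d e d' e' d'' e'' := by
  have p1 : ∀ {b c b' c' b'' c'' d e : F}, O b c b' c' b'' c'' → T (b * c) = T (d * e) → O d e b' c' b'' c'' := by
    intro b c b' c' b'' c'' d e h hT
    exact pair (R := fun x y => O x y b' c' b'' c'') (fun _ _ _ => m1 _ _ _ _ _ _ _) (fun _ _ _ => m1' _ _ _ _ _ _ _)
      h hT
  have p2 : ∀ {b c b' c' b'' c'' d e : F}, O b c b' c' b'' c'' → T (b' * c') = T (d * e) → O b c d e b'' c'' := by
    intro b c b' c' b'' c'' d e h hT
    exact pair (R := fun x y => O b c x y b'' c'') (fun _ _ _ => m2 _ _ _ _ _ _ _) (fun _ _ _ => m2' _ _ _ _ _ _ _)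
      h hT
  have p3 : ∀ {b c b' c' b'' c'' d e : F}, O b c b' c' b'' c'' → T (b'' * c'') = T (d * e) → O b c b' c' d e := by
    intro b c b' c' b'' c'' d e h hT
    exact pair (R := fun x y => O b c b' c' x y) (fun _ _ _ => m3 _ _ _ _ _ _ _) (fun _ _ _ => m3' _ _ _ _ _ _ _)
      h hT
  obtain ⟨z, hz⟩ := exists_T_one F
  have h2 : ∀ a b : ZMod 2, a = b ∨ a + 1 = b := by decide
  -- first pair
  have s1 : ∃ b1 c1 : F, O d e b1 c1 b'' c'' ∧
      T (b1 * c1) + T (b'' * c'') = T (d' * e') + T (d'' * e'') := by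
    rcases h2 (T (b * c)) (T (d * e)) with h3 | h3
    · refine ⟨b', c', p1 h h3, ?_⟩
      rw [h3, add_assoc, add_assoc] at hT
      exact add_left_cancel hT
    · have h4 : O 1 (b * c) 1 (b' * c') b'' c'' := by
        refine p2 (p1 h ?_) ?_
        · rw [one_mul]
        · rw [one_mul]
      have h5 := f1 _ _ _ _ _ _ z h4
      rw [mul_one] at h5
      refine ⟨1, b' * c' + z, p1 h5 ?_, ?_⟩
      · rw [one_mul, map_add, hz, h3]
      · rw [one_mul, map_add, hz]
        rw [← h3] at hT
        have h6 : ∀ x y z u v : ZMod 2, x + y + z = x + 1 + u + v → y + 1 + z = u + v := by decide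
        exact h6 _ _ _ _ _ hT
  obtain ⟨b1, c1, h3, hT1⟩ := s1
  rcases h2 (T (b1 * c1)) (T (d' * e')) with h4 | h4
  · refine p3 (p2 h3 h4) ?_
    rw [h4] at hT1
    exact add_left_cancel hT1
  · have h5 : O d e 1 (b1 * c1) 1 (b'' * c'') := by
      refine p3 (p2 h3 ?_) ?_
      · rw [one_mul]
      · rw [one_mul]
    have h6 := f2 _ _ _ _ _ _ z h5
    rw [mul_one] at h6
    refine p3 (p2 h6 ?_) ?_
    · rw [one_mul, map_add, hz, h4]
    · rw [one_mul, map_add, hz]
      rw [← h4] at hT1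
      have h7 : ∀ x y z : ZMod 2, x + y = x + 1 + z → y + 1 = z := by decide
      exact h7 _ _ _ hT1

/-- Fibres of a surjective map to `ZMod 2`. -/
theorem two_mul_fibre {V : Type*} [AddCommGroup V] [Fintype V] (f : V →+ ZMod 2) (hf : ∃ v, f v = 1) (ε : ZMod 2) :
    2 * (Finset.univ.filter fun v => f v = ε).card = Fintype.card V := by
  classical
  obtain ⟨v0, hv0⟩ := hf
  have h1 : (Finset.univ.filter fun v => f v = ε).card = (Finset.univ.filter fun v => f v = ε + 1).card := by
    refine Finset.card_bij (fun v _ => v + v0) ?_ ?_ ?_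
    · intro v hv
      rw [Finset.mem_filter] at hv ⊢
      exact ⟨Finset.mem_univ _, by rw [map_add, hv.2, hv0]⟩
    · intro v _ w _ h
      exact add_right_cancel h
    · intro v hv
      rw [Finset.mem_filter] at hv
      refine ⟨v - v0, ?_, sub_add_cancel _ _⟩
      rw [Finset.mem_filter]
      exact ⟨Finset.mem_univ _, by rw [map_sub, hv.2, hv0, add_sub_cancel_right]⟩
  have h2 : (Finset.univ.filter fun v => ¬ f v = ε) = (Finset.univ.filter fun v => f v = ε + 1) := by
    ext v
    simp only [Finset.mem_filter, Finset.mem_univ, true_and]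
    have h3 : ∀ a e : ZMod 2, ¬ a = e ↔ a = e + 1 := by decide
    exact h3 _ _
  have h3 := Finset.card_filter_add_card_filter_not (s := (Finset.univ : Finset V)) (fun v => f v = ε)
  rw [h2, ← h1, Finset.card_univ] at h3
  omega

open Classical in
/-- The size of the orbits. -/
theorem count {F : Type*} [Field F] [Fintype F] [CharP F 2] (ε : ZMod 2) :
    (Fintype.card F ^ 3 - 1) * Fintype.card F ^ 3 ≤
      2 * (Finset.univ.filter fun p : (Fin 3 → F) × (Fin 3 → F) => T (∑ k, p.1 k * p.2 k) = ε).card := by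
  have h1 : (Finset.univ.filter fun p : (Fin 3 → F) × (Fin 3 → F) => T (∑ k, p.1 k * p.2 k) = ε).card =
      ∑ b : Fin 3 → F, (Finset.univ.filter fun c : Fin 3 → F => T (∑ k, b k * c k) = ε).card := by
    rw [Finset.card_filter, Fintype.sum_prod_type]
    refine Finset.sum_congr rfl fun b _ => ?_
    rw [Finset.card_filter]
  have h2 : ∀ b : Fin 3 → F, b ≠ 0 →
      2 * (Finset.univ.filter fun c : Fin 3 → F => T (∑ k, b k * c k) = ε).card = Fintype.card F ^ 3 := by
    intro b hb
    let f : (Fin 3 → F) →+ ZMod 2 :=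
      { toFun := fun c => T (∑ k, b k * c k)
        map_zero' := by simp
        map_add' := fun c d => by
          rw [← map_add, ← Finset.sum_add_distrib]
          congr 1
          exact Finset.sum_congr rfl fun k _ => by rw [Pi.add_apply]; ring }
    have h3 := two_mul_fibre f ?_ ε
    · rw [Fintype.card_fun, Fintype.card_fin] at h3
      exact h3
    · obtain ⟨k, hk⟩ := Function.ne_iff.1 hb
      have hk' : b k ≠ 0 := hk
      obtain ⟨x, hx⟩ := exists_T_mul hk'
      refine ⟨Pi.single k x, ?_⟩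
      show T (∑ l, b l * (Pi.single k x : Fin 3 → F) l) = 1
      rw [Finset.sum_eq_single k (fun l _ hl => by rw [Pi.single_eq_of_ne hl, mul_zero])
        (fun h => absurd (Finset.mem_univ k) h), Pi.single_eq_same, mul_comm]
      exact hx
  rw [h1, Finset.mul_sum]
  calc (Fintype.card F ^ 3 - 1) * Fintype.card F ^ 3
      = ∑ b ∈ Finset.univ.erase (0 : Fin 3 → F),
        2 * (Finset.univ.filter fun c : Fin 3 → F => T (∑ k, b k * c k) = ε).card := by
        rw [Finset.sum_congr rfl fun b hb => h2 b (Finset.ne_of_mem_erase hb), Finset.sum_const, smul_eq_mul,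
          Finset.card_erase_of_mem (Finset.mem_univ _), Finset.card_univ, Fintype.card_fun, Fintype.card_fin]
    _ ≤ _ := Finset.sum_le_sum_of_subset (Finset.erase_subset _ _)

end Cfsg.Agent.H934.ArfO

private theorem dce_3e88dfe14f44 : _root_.True := by
  try have : _root_.True := by simp only [_root_.Cfsg.Agent.H934.ArfO.wp.congr_simp]
  try have : _root_.True := by simp only [_root_.Cfsg.Agent.H934.ArfO.Pg.congr_simp]
  try have : _root_.True := by simp only [_root_.Cfsg.Agent.H934.ArfO.T.congr_simp]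
  exact _root_.True.intro
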