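import Mathlib
import Cfsg.Agent.H934.Burn
import Cfsg.Agent.ChevalleyStructure.Elts
import Cfsg.Agent.S1032
import Cfsg.Agent.Prune
set_option linter.all false
prune_inst 0x7f00000000000000000000000000000000000000000000000000000000000000000000000000000000000000000000000000000000000000000000000000000000000000000000000000000000000000003fffffffffffffffffffffffffffbeffbdffffffff
open scoped Cfsg.Agent.FastGrp

/-!
# Root groups and indices of subgroups of the Chevalley groups

`card_le_index`: for the tabulated types, proper subgroups of the (simple) Chevalley group over the field with `q`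
elements have index at least `q`.
-/

set_option autoImplicit false

namespace Cfsg.Agent.H934.IdxExc

open Cfsg.Lie Cfsg.Agent.ChevalleyStructure.Elts Cfsg.Agent.H934.Burn

universe u

variable {D : ChevalleyDatum} (hD : InList D) {F : Type u} [Field F]

/-- `x_r(t)` as an element of the Chevalley group. -/
def xe (r : ℕ) (t : F) : ↥(D.group F) := ⟨xG hD r t, xG_mem_group hD r t⟩

theorem xe_add (r : ℕ) (s t : F) : xe hD r (s + t) = xe hD r s * xe hD r t := Subtype.ext (xG_add hD r s t).symm

theorem xe_zero (r : ℕ) : xe hD r (0 : F) = 1 := Subtype.ext (xG_zero hD r)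

theorem xe_eq_one {r : ℕ} (hr : r < D.nroots) {t : F} (h : xe hD r t = 1) : t = 0 :=
  (xG_eq_one_iff hD hr t).1 (congrArg Subtype.val h)

theorem isConj {r p : ℕ} (hr : r < D.nroots) (hp : p < D.rank) (hc : D.cartan p r = 1) (a b : F) (ha : a ≠ 0)
    (hb : b ≠ 0) : IsConj (xe hD r a) (xe hD r b) := by
  have h1 := Cfsg.Agent.S1032.result (F := F) D hD p r hp hr (b / a) (div_ne_zero hb ha) a
  rw [hc, zpow_one, div_mul_cancel₀ _ ha] at h1
  rw [isConj_iff]
  refine ⟨⟨hG hD (D.simple p) (b / a), hG_mem_group hD _ _⟩, ?_⟩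
  rw [mul_inv_eq_iff_eq_mul]
  apply Subtype.ext
  apply Units.ext
  show (hG hD (D.simple p) (b / a) * xG hD r a : GL D.Idx F).val =
    (xG hD r b * hG hD (D.simple p) (b / a) : GL D.Idx F).val
  rw [Units.val_mul, Units.val_mul, coe_hG]
  exact h1

/-- The root subgroup. -/
def Xr (r : ℕ) : Subgroup ↥(D.group F) where
  carrier := Set.range (xe hD r)
  one_mem' := ⟨0, xe_zero hD r⟩
  mul_mem' := by
    rintro _ _ ⟨a, rfl⟩ ⟨b, rfl⟩
    exact ⟨a + b, xe_add hD r a b⟩
  inv_mem' := by
    rintro _ ⟨a, rfl⟩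
    refine ⟨-a, ?_⟩
    rw [eq_inv_iff_mul_eq_one, ← xe_add, neg_add_cancel, xe_zero]

theorem card_Xr [Fintype F] {r : ℕ} (hr : r < D.nroots) : Nat.card (Xr (F := F) hD r) = Fintype.card F := by
  rw [← Nat.card_eq_fintype_card]
  symm
  refine Nat.card_congr (Equiv.ofBijective (fun a : F => (⟨xe hD r a, a, rfl⟩ : Xr (F := F) hD r)) ⟨?_, ?_⟩)
  · intro a b h
    have h1 : xe hD r a = xe hD r b := congrArg Subtype.val h
    have h2 : xe hD r (a - b) = 1 := by
      have h3 := xe_add hD r (a - b) b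
      rw [sub_add_cancel, h1] at h3
      exact mul_right_cancel (b := xe hD r b) (by rw [← h3, one_mul])
    exact sub_eq_zero.1 (xe_eq_one hD hr h2)
  · rintro ⟨_, a, rfl⟩
    exact ⟨a, rfl⟩

include hD in
/-- **Bound by a root subgroup.** -/
theorem card_le_index [Fintype F] {r p : ℕ} (hr : r < D.nroots) (hp : p < D.rank) (hc : D.cartan p r = 1)
    {X : Type*} [Group X] [Finite X] [IsSimpleGroup X] (π : ↥(D.group F) →* X) (hπ : Function.Injective π)
    (H : Subgroup X) (hH : H ≠ ⊤) : Fintype.card F ≤ H.index := by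
  have : Finite (GL D.Idx F) := inferInstance
  rw [← card_Xr (F := F) hD hr]
  refine Burn.card_le_index π hH (Xr hD r) ?_ ⟨xe hD r 1, ⟨1, rfl⟩, ?_⟩
  · rintro _ ⟨a, rfl⟩ _ ⟨b, rfl⟩ ha hb
    refine isConj hD hr hp hc a b ?_ ?_
    · rintro rfl; exact ha (xe_zero hD r)
    · rintro rfl; exact hb (xe_zero hD r)
  · intro h
    exact one_ne_zero (xe_eq_one hD hr (hπ (by rw [h, map_one])))

/-- `G₂(q)`. -/
theorem g2 [Fintype F] (hs : IsSimpleGroup ↥(chevG2.group F)) (H : Subgroup ↥(chevG2.group F)) (hH : H ≠ ⊤) :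
    Fintype.card F ≤ H.index := by
  have : Finite (GL chevG2.Idx F) := inferInstance
  obtain ⟨p, hp, hc⟩ : ∃ p < chevG2.rank, chevG2.cartan p 11 = 1 := by decide +kernel
  exact card_le_index (D := chevG2) (by simp [InList]) (r := 11) (by decide +kernel) hp hc
    (MonoidHom.id _) Function.injective_id H hH

/-- `F₄(q)`. -/
theorem f4 [Fintype F] (hs : IsSimpleGroup ↥(chevF4.group F)) (H : Subgroup ↥(chevF4.group F)) (hH : H ≠ ⊤) :
    Fintype.card F ≤ H.index := by
  have : Finite (GL chevF4.Idx F) := inferInstance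
  obtain ⟨p, hp, hc⟩ : ∃ p < chevF4.rank, chevF4.cartan p 47 = 1 := by decide +kernel
  exact card_le_index (D := chevF4) (by simp [InList]) (r := 47) (by decide +kernel) hp hc
    (MonoidHom.id _) Function.injective_id H hH

end Cfsg.Agent.H934.IdxExc
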