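import Mathlib
import Cfsg.Agent.H934.HeisE6_m3
import Cfsg.Agent.ChevFast.E8
import Cfsg.Agent.ChevFast.Lin
import Cfsg.Agent.Prune
set_option linter.all false
open scoped Cfsg.Agent.FastGrp

/-!
# The special group of the highest root in E₈(q)

`|E₈(q) : H| ≥ 2 q^29` for every proper subgroup `H` (`q ^ 57` is the order of the special group).
-/

set_option autoImplicit false

namespace Cfsg.Agent.H934.HeisE8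

open Cfsg.Lie Cfsg.Agent.ChevalleyStructure.Elts Cfsg.Agent.H934.HeisRoot Cfsg.Agent.H934.HeisChev

/-- list look-up -/
def at' {α : Type} (d : α) : List α → ℕ → α
  | [], _ => d
  | a :: _, 0 => a
  | _ :: l, n + 1 => at' d l n

/-- decode: 0 is `none` -/
def dec (a : ℕ) : Option (Fin 56) := if h : 1 ≤ a ∧ a ≤ 56 then some ⟨a - 1, by omega⟩ else none

/-- byte `i` of `N` -/
def byte (N i : ℕ) : ℕ := (N >>> (8 * i)) % 256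

/-- sign from bit `i` of `N` -/
def sg (N i : ℕ) : ℤ := if N.testBit i then -1 else 1

/-- index -/
def toF (a : ℕ) : Fin 14 := ⟨a % 14, Nat.mod_lt _ (by norm_num)⟩

/-- The tables. -/
def tab : HTab 56 14 where
  S := fun i => byte 0xeeedecebeae9e8e7e6e5e4e3e1e0dfdedddcdad9d8d7d5d4d3d1d0cecbcac9c7c6c4c1c0bebbb7b6b4b1ada8a1a09e9b97928c86817d7a78 i
  th := 239
  B := fun i => byte 0x7674716d68624d797b7e82878da2 i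
  opp := fun i => ⟨55 - i, by omega⟩
  e := fun i => sg 0x1556ad4a9557f i
  next := fun b i => dec (byte (at' 0 [0x3331302f2e2d00000000000000000000000000000000000000000000000000001211100f0e000d0000000000, 0x343300000000002c00000000000000000000000000002221201f1e1d0000000000000000000e000000000000080700000000, 0x340032000000000000000000002a29282700000000000000000000000000000000161514130000000000000008000600000000, 0x350000003100000000002b0000000000000025242300000000000000000019181700000000000f00000000000900000005000000, 0x3600000000003000000000002a0000002600000000002120000000001b1a00000000140000001000000000000a0000000000040000, 0x37000000000000002f000000000029000000250000220000001e001c000000180000150000001100000000000b000000000000000300, 0x380000000000000000002e00000000002800000024000021001f0000001b00190000160000001200000000000c00000000000000000002,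 0x2c002b2a29282700000000000000000000000000000000000000000000000000000c0b0a090806000000000000000000000000, 0x32310000000000002b0000000000000000001c1b1a19181700000000000000000000000000000d00000000000605000000000000, 0x3300310000000000000026252423000000000000000000000000000000001211100f000000000000000000000700050000000000, 0x340000003000000000002a0000000000222120000000000000000000161514000000000000000e0000000000080000000400000000, 0x3500000000002f00000000002900000025000000001f1e0000000019180000000000130000000f000000000009000000000003000000, 0x36000000000000002e000000000028000000240000210000001d001b000000170000140000001000000000000a00000000000000020000, 0x370000000000000000002d00000000002700000023000020001e0000001a00180000150000001100000000000b0000000000000000000100] b) i)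
  cc := fun b i => sg (at' 0 [0xfc000000000, 0x304000fc01020, 0x5003c0003c040, 0x8820380382080, 0x10411061844100, 0x20208914488200, 0x401044a2910400, 0x5f00000000000, 0xc0803f0002080, 0xa03c0003c0080, 0x11041c01c04100, 0x20822186088200, 0x40411228910400, 0x80208945220800] b) i
  ng := fun b => ⟨((b : ℕ) + 7) % 14, Nat.mod_lt _ (by norm_num)⟩
  p := 7

/-- paths to the highest weight -/
def upP : List (List ℕ) := [[6, 5, 4, 3, 1, 2, 0, 3, 2, 4, 3, 1, 5, 4, 3, 2, 0, 6, 5, 4, 3, 1, 2, 3, 4, 5, 6], [5, 4, 3, 1, 2, 0, 3, 2, 4, 3, 1, 5, 4, 3, 2, 0, 6, 5, 4, 3, 1, 2, 3, 4, 5, 6], [4, 3, 1, 2, 0, 3, 2, 4, 3, 1, 5, 4, 3, 2, 0, 6, 5, 4, 3, 1, 2, 3, 4, 5, 6], [3, 1, 2, 0, 3, 2, 4, 3, 1, 5, 4, 3, 2, 0, 6, 5, 4, 3, 1, 2, 3, 4, 5, 6], [1, 2, 0, 3, 2, 4, 3, 1, 5, 4, 3, 2, 0, 6, 5, 4, 3, 1, 2, 3, 4, 5, 6], [0, 1, 3, 2,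 4, 3, 1, 5, 4, 3, 2, 0, 6, 5, 4, 3, 1, 2, 3, 4, 5, 6], [2, 0, 3, 2, 4, 3, 1, 5, 4, 3, 2, 0, 6, 5, 4, 3, 1, 2, 3, 4, 5, 6], [0, 3, 2, 4, 3, 1, 5, 4, 3, 2, 0, 6, 5, 4, 3, 1, 2, 3, 4, 5, 6], [0, 2, 4, 3, 1, 5, 4, 3, 2, 0, 6, 5, 4, 3, 1, 2, 3, 4, 5, 6], [0, 2, 3, 1, 5, 4, 3, 2, 0, 6, 5, 4, 3, 1, 2, 3, 4, 5, 6], [0, 2, 3, 1, 4, 3, 2, 0, 6, 5, 4, 3, 1, 2, 3, 4, 5, 6], [0, 2, 3, 1, 4, 3, 2, 0, 5, 4, 3, 1, 2, 3, 4, 5, 6], [1, 3, 2, 4, 3, 1, 5, 4, 3, 2, 0, 6, 5, 4, 3, 1, 2, 3, 4, 5, 6], [3, 2, 4, 3, 1, 5, 4, 3, 2, 0, 6, 5, 4, 3, 1, 2, 3, 4, 5, 6], [2, 4, 3, 1, 5, 4, 3, 2, 0, 6, 5, 4, 3, 1, 2, 3, 4, 5, 6], [2, 3, 1, 5, 4, 3, 2, 0, 6, 5, 4, 3, 1, 2, 3, 4, 5, 6], [2, 3, 1, 4, 3, 2, 0, 6, 5, 4, 3, 1, 2, 3, 4, 5, 6], [2, 3, 1, 4, 3, 2, 0, 5, 4, 3, 1, 2, 3, 4, 5, 6], [4, 3, 1, 5, 4, 3, 2, 0, 6, 5, 4, 3, 1, 2, 3, 4, 5,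 6], [3, 1, 5, 4, 3, 2, 0, 6, 5, 4, 3, 1, 2, 3, 4, 5, 6], [3, 1, 4, 3, 2, 0, 6, 5, 4, 3, 1, 2, 3, 4, 5, 6], [3, 1, 4, 3, 2, 0, 5, 4, 3, 1, 2, 3, 4, 5, 6], [1, 5, 4, 3, 2, 0, 6, 5, 4, 3, 1, 2, 3, 4, 5, 6], [1, 4, 3, 2, 0, 6, 5, 4, 3, 1, 2, 3, 4, 5, 6], [1, 4, 3, 2, 0, 5, 4, 3, 1, 2, 3, 4, 5, 6], [1, 3, 2, 0, 6, 5, 4, 3, 1, 2, 3, 4, 5, 6], [1, 3, 2, 0, 5, 4, 3, 1, 2, 3, 4, 5, 6], [1, 3, 2, 0, 4, 3, 1, 2, 3, 4, 5, 6], [5, 4, 3, 2, 0, 6, 5, 4, 3, 1, 2, 3, 4, 5, 6], [4, 3, 2, 0, 6, 5, 4, 3, 1, 2, 3, 4, 5, 6], [4, 3, 2, 0, 5, 4, 3, 1, 2, 3, 4, 5, 6], [3, 2, 0, 6, 5, 4, 3, 1, 2, 3, 4, 5, 6], [3, 2, 0, 5, 4, 3, 1, 2, 3, 4, 5, 6], [3, 2, 0, 4, 3, 1, 2, 3, 4, 5, 6], [2, 0, 6, 5, 4, 3, 1, 2, 3, 4, 5, 6], [2, 0, 5, 4, 3, 1, 2, 3, 4, 5, 6], [2, 0, 4, 3, 1, 2, 3, 4, 5, 6], [2, 0, 3, 1, 2, 3, 4, 5, 6], [0, 6, 5, 4, 3, 1,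 2, 3, 4, 5, 6], [0, 5, 4, 3, 1, 2, 3, 4, 5, 6], [0, 4, 3, 1, 2, 3, 4, 5, 6], [0, 3, 1, 2, 3, 4, 5, 6], [0, 1, 2, 3, 4, 5, 6], [0, 2, 3, 4, 5, 6], [6, 5, 4, 3, 1, 2, 3, 4, 5, 6], [5, 4, 3, 1, 2, 3, 4, 5, 6], [4, 3, 1, 2, 3, 4, 5, 6], [3, 1, 2, 3, 4, 5, 6], [1, 2, 3, 4, 5, 6], [1, 3, 4, 5, 6], [2, 3, 4, 5, 6], [3, 4, 5, 6], [4, 5, 6], [5, 6], [6], []]

/-- paths to the lowest weight -/
def dnP : List (List ℕ) := [[], [13], [12, 13], [11, 12, 13], [10, 11, 12, 13], [9, 10, 11, 12, 13], [8, 10, 11, 12, 13], [8, 9, 10, 11, 12, 13], [10, 8, 9, 10, 11, 12, 13], [11, 10, 8, 9, 10, 11, 12, 13], [12, 11, 10, 8, 9, 10, 11, 12, 13], [13, 12, 11, 10, 8, 9, 10, 11, 12, 13], [7, 9, 10, 11, 12, 13], [7, 8, 9, 10, 11, 12, 13], [7, 10, 8, 9, 10, 11, 12, 13], [7, 11, 10, 8, 9, 10, 11, 12, 13], [7, 12, 11, 10, 8, 9, 10, 11,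 12, 13], [7, 13, 12, 11, 10, 8, 9, 10, 11, 12, 13], [9, 7, 10, 8, 9, 10, 11, 12, 13], [9, 7, 11, 10, 8, 9, 10, 11, 12, 13], [9, 7, 12, 11, 10, 8, 9, 10, 11, 12, 13], [9, 7, 13, 12, 11, 10, 8, 9, 10, 11, 12, 13], [10, 9, 7, 11, 10, 8, 9, 10, 11, 12, 13], [10, 9, 7, 12, 11, 10, 8, 9, 10, 11, 12, 13], [10, 9, 7, 13, 12, 11, 10, 8, 9, 10, 11, 12, 13], [11, 10, 9, 7, 12, 11, 10, 8, 9, 10, 11, 12, 13], [11, 10, 9, 7, 13, 12, 11, 10, 8, 9, 10, 11, 12, 13], [12, 11, 10, 9, 7, 13, 12, 11, 10, 8, 9, 10, 11, 12, 13], [8, 10, 9, 7, 11, 10, 8, 9, 10, 11, 12, 13], [8, 10, 9, 7, 12, 11, 10, 8, 9, 10, 11, 12, 13], [8, 10, 9, 7, 13, 12, 11, 10, 8, 9, 10, 11, 12, 13], [8, 11, 10, 9, 7, 12, 11, 10, 8, 9, 10, 11, 12, 13], [8, 11, 10, 9, 7, 13, 12, 11, 10, 8, 9, 10, 11, 12, 13], [8, 12, 11, 10, 9, 7, 13, 12, 11, 10, 8, 9, 10,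 11, 12, 13], [10, 8, 11, 10, 9, 7, 12, 11, 10, 8, 9, 10, 11, 12, 13], [10, 8, 11, 10, 9, 7, 13, 12, 11, 10, 8, 9, 10, 11, 12, 13], [10, 8, 12, 11, 10, 9, 7, 13, 12, 11, 10, 8, 9, 10, 11, 12, 13], [11, 10, 8, 12, 11, 10, 9, 7, 13, 12, 11, 10, 8, 9, 10, 11, 12, 13], [9, 10, 8, 11, 10, 9, 7, 12, 11, 10, 8, 9, 10, 11, 12, 13], [9, 10, 8, 11, 10, 9, 7, 13, 12, 11, 10, 8, 9, 10, 11, 12, 13], [9, 10, 8, 12, 11, 10, 9, 7, 13, 12, 11, 10, 8, 9, 10, 11, 12, 13], [9, 11, 10, 8, 12, 11, 10, 9, 7, 13, 12, 11, 10, 8, 9, 10, 11, 12, 13], [10, 9, 11, 10, 8, 12, 11, 10, 9, 7, 13, 12, 11, 10, 8, 9, 10, 11, 12, 13], [8, 10, 9, 11, 10, 8, 12, 11, 10, 9, 7, 13, 12, 11, 10, 8, 9, 10, 11, 12, 13], [7, 9, 10, 8, 11, 10, 9, 7, 12, 11, 10, 8, 9, 10, 11, 12, 13], [7, 9, 10, 8, 11, 10, 9, 7, 13, 12, 11, 10, 8, 9, 10, 11, 12, 13], [7,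 9, 10, 8, 12, 11, 10, 9, 7, 13, 12, 11, 10, 8, 9, 10, 11, 12, 13], [7, 9, 11, 10, 8, 12, 11, 10, 9, 7, 13, 12, 11, 10, 8, 9, 10, 11, 12, 13], [7, 10, 9, 11, 10, 8, 12, 11, 10, 9, 7, 13, 12, 11, 10, 8, 9, 10, 11, 12, 13], [9, 7, 10, 9, 11, 10, 8, 12, 11, 10, 9, 7, 13, 12, 11, 10, 8, 9, 10, 11, 12, 13], [7, 8, 10, 9, 11, 10, 8, 12, 11, 10, 9, 7, 13, 12, 11, 10, 8, 9, 10, 11, 12, 13], [8, 9, 7, 10, 9, 11, 10, 8, 12, 11, 10, 9, 7, 13, 12, 11, 10, 8, 9, 10, 11, 12, 13], [10, 8, 9, 7, 10, 9, 11, 10, 8, 12, 11, 10, 9, 7, 13, 12, 11, 10, 8, 9, 10, 11, 12, 13], [11, 10, 8, 9, 7, 10, 9, 11, 10, 8, 12, 11, 10, 9, 7, 13, 12, 11, 10, 8, 9, 10, 11, 12, 13], [12, 11, 10, 8, 9, 7, 10, 9, 11, 10, 8, 12, 11, 10, 9, 7, 13, 12, 11, 10, 8, 9, 10, 11, 12, 13], [13, 12, 11, 10, 8, 9, 7, 10, 9, 11, 10, 8, 12, 11, 10, 9, 7, 13,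 12, 11, 10, 8, 9, 10, 11, 12, 13]]

/-- paths from the lowest weight -/
def frP : List (List ℕ) := [[], [6], [6, 5], [6, 5, 4], [6, 5, 4, 3], [6, 5, 4, 3, 2], [6, 5, 4, 3, 1], [6, 5, 4, 3, 2, 1], [6, 5, 4, 3, 2, 1, 3], [6, 5, 4, 3, 2, 1, 3, 4], [6, 5, 4, 3, 2, 1, 3, 4, 5], [6, 5, 4, 3, 2, 1, 3, 4, 5, 6], [6, 5, 4, 3, 2, 0], [6, 5, 4, 3, 2, 1, 0], [6, 5, 4, 3, 2, 1, 3, 0], [6, 5, 4, 3, 2, 1, 3, 4, 0], [6, 5, 4, 3, 2, 1, 3, 4, 5, 0], [6, 5, 4, 3, 2, 1, 3, 4, 5, 6, 0], [6, 5, 4, 3, 2, 1, 3, 0, 2], [6, 5, 4, 3, 2, 1, 3, 4, 0, 2], [6, 5, 4, 3, 2, 1, 3, 4, 5, 0, 2], [6, 5, 4, 3, 2, 1, 3, 4, 5, 6, 0, 2], [6, 5, 4, 3, 2, 1, 3, 4, 0, 2, 3], [6, 5, 4, 3, 2, 1, 3, 4, 5, 0, 2, 3], [6, 5, 4, 3, 2, 1, 3, 4, 5, 6, 0, 2, 3], [6, 5, 4, 3, 2, 1, 3, 4, 5, 0, 2, 3, 4], [6, 5, 4, 3, 2, 1, 3, 4, 5, 6, 0, 2, 3, 4], [6, 5, 4, 3,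 2, 1, 3, 4, 5, 6, 0, 2, 3, 4, 5], [6, 5, 4, 3, 2, 1, 3, 4, 0, 2, 3, 1], [6, 5, 4, 3, 2, 1, 3, 4, 5, 0, 2, 3, 1], [6, 5, 4, 3, 2, 1, 3, 4, 5, 6, 0, 2, 3, 1], [6, 5, 4, 3, 2, 1, 3, 4, 5, 0, 2, 3, 4, 1], [6, 5, 4, 3, 2, 1, 3, 4, 5, 6, 0, 2, 3, 4, 1], [6, 5, 4, 3, 2, 1, 3, 4, 5, 6, 0, 2, 3, 4, 5, 1], [6, 5, 4, 3, 2, 1, 3, 4, 5, 0, 2, 3, 4, 1, 3], [6, 5, 4, 3, 2, 1, 3, 4, 5, 6, 0, 2, 3, 4, 1, 3], [6, 5, 4, 3, 2, 1, 3, 4, 5, 6, 0, 2, 3, 4, 5, 1, 3], [6, 5, 4, 3, 2, 1, 3, 4, 5, 6, 0, 2, 3, 4, 5, 1, 3, 4], [6, 5, 4, 3, 2, 1, 3, 4, 5, 0, 2, 3, 4, 1, 3, 2], [6, 5, 4, 3, 2, 1, 3, 4, 5, 6, 0, 2, 3, 4, 1, 3, 2], [6, 5, 4, 3, 2, 1, 3, 4, 5, 6, 0, 2, 3, 4, 5, 1, 3, 2], [6, 5, 4, 3, 2, 1, 3, 4, 5, 6, 0, 2, 3, 4, 5, 1, 3, 4, 2], [6, 5, 4, 3, 2, 1, 3, 4, 5, 6, 0, 2, 3, 4, 5, 1, 3, 4, 2, 3], [6, 5, 4, 3, 2, 1, 3, 4, 5, 6,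 0, 2, 3, 4, 5, 1, 3, 4, 2, 3, 1], [6, 5, 4, 3, 2, 1, 3, 4, 5, 0, 2, 3, 4, 1, 3, 2, 0], [6, 5, 4, 3, 2, 1, 3, 4, 5, 6, 0, 2, 3, 4, 1, 3, 2, 0], [6, 5, 4, 3, 2, 1, 3, 4, 5, 6, 0, 2, 3, 4, 5, 1, 3, 2, 0], [6, 5, 4, 3, 2, 1, 3, 4, 5, 6, 0, 2, 3, 4, 5, 1, 3, 4, 2, 0], [6, 5, 4, 3, 2, 1, 3, 4, 5, 6, 0, 2, 3, 4, 5, 1, 3, 4, 2, 3, 0], [6, 5, 4, 3, 2, 1, 3, 4, 5, 6, 0, 2, 3, 4, 5, 1, 3, 4, 2, 3, 0, 2], [6, 5, 4, 3, 2, 1, 3, 4, 5, 6, 0, 2, 3, 4, 5, 1, 3, 4, 2, 3, 1, 0], [6, 5, 4, 3, 2, 1, 3, 4, 5, 6, 0, 2, 3, 4, 5, 1, 3, 4, 2, 3, 0, 2, 1], [6, 5, 4, 3, 2, 1, 3, 4, 5, 6, 0, 2, 3, 4, 5, 1, 3, 4, 2, 3, 0, 2, 1, 3], [6, 5, 4, 3, 2, 1, 3, 4, 5, 6, 0, 2, 3, 4, 5, 1, 3, 4, 2, 3, 0, 2, 1, 3, 4], [6, 5, 4, 3, 2, 1, 3, 4, 5, 6, 0, 2, 3, 4, 5, 1, 3, 4, 2, 3, 0, 2, 1, 3, 4, 5], [6, 5, 4, 3, 2, 1, 3, 4, 5, 6, 0, 2, 3, 4, 5, 1,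 3, 4, 2, 3, 0, 2, 1, 3, 4, 5, 6]]

/-- the isolating path -/
def isoP (i : Fin 56) : List (Fin 14) := (at' [] upP i ++ at' [] dnP 55).map toF

theorem isoP_run : ∀ i, isoP i ≠ [] ∧ run tab.next (isoP i) i = some 0 ∧
    ∀ l, l ≠ i → run tab.next (isoP i) l = none := by (open scoped Cfsg.Agent.ChevFast.Lin in decide +kernel)

theorem dnP_run : ∀ i : Fin 56, run tab.next ((at' [] dnP i).map toF) i = some 0 := by decide +kernel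

theorem frP_run : ∀ i : Fin 56, run tab.next ((at' [] frP i).map toF) 0 = some i := by decide +kernel

theorem S_ne : ∀ i j, i ≠ j → tab.S i ≠ tab.S j ∧ tab.S i ≠ chevE8.neg (tab.S j) ∧
    chevE8.commTerms (tab.S j) (tab.S i) = if j = tab.opp i then [(tab.th, tab.e i, 1, 1)] else [] := by
  (rewrite [Cfsg.Agent.ChevFast.E8.commTerms, Cfsg.Agent.ChevFast.E8.neg]; open scoped Cfsg.Agent.ChevFast.Lin in decide +kernel)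

theorem tab_ok : tab.Ok chevE8 where
  S_lt := by decide +kernel
  th_lt := by decide +kernel
  B_lt := by decide +kernel
  th_ne := by (rewrite [Cfsg.Agent.ChevFast.E8.commTerms, Cfsg.Agent.ChevFast.E8.neg]; decide +kernel)
  th_ne' := by (rewrite [Cfsg.Agent.ChevFast.E8.commTerms, Cfsg.Agent.ChevFast.E8.neg]; decide +kernel)
  S_ne := S_ne
  opp_ne := by decide +kernel
  opp_opp := by decide +kernel
  e_sq := by decide +kernel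
  B_ne := by (rewrite [Cfsg.Agent.ChevFast.E8.commTerms, Cfsg.Agent.ChevFast.E8.neg]; decide +kernel)
  c_sq := by decide +kernel
  B_comm := by (open scoped Cfsg.Agent.ChevFast.Lin in decide +kernel)
  ng_spec := by decide +kernel
  p_lt := by decide +kernel
  p_th := by decide +kernel
  iso := fun i => ⟨isoP i, 0, isoP_run i⟩
  conn := fun i j => ⟨_, run_append (dnP_run i) (frP_run j)⟩

theorem hD : InList chevE8 := by simp [InList]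

universe u

/-- The index bound. -/
theorem sq_le {F : Type u} [Field F] [Fintype F] (hs : IsSimpleGroup ↥(chevE8.group F))
    (H : Subgroup ↥(chevE8.group F)) (hH : H ≠ ⊤) : 4 * Fintype.card F ^ 58 ≤ H.index ^ 2 := by
  have : Finite (GL chevE8.Idx F) := inferInstance
  have hq : 2 ≤ Fintype.card F := Fintype.one_lt_card
  rcases bound hD tab tab_ok (by norm_num) (MonoidHom.id ↥(chevE8.group F)) Function.injective_id hH 2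
    (Or.inl rfl) with h | h
  · have h1 := Nat.pow_le_pow_left h 2
    refine le_trans ?_ h1
    rw [← pow_mul]
    calc 4 * Fintype.card F ^ 58 ≤ Fintype.card F ^ 2 * Fintype.card F ^ 58 := by
          apply Nat.mul_le_mul_right
          nlinarith
      _ = Fintype.card F ^ 60 := by ring
      _ ≤ _ := Nat.pow_le_pow_right (by omega) (by norm_num)
  · exact h

theorem two_mul_le {F : Type u} [Field F] [Fintype F] (hs : IsSimpleGroup ↥(chevE8.group F))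
    (H : Subgroup ↥(chevE8.group F)) (hH : H ≠ ⊤) : 2 * Fintype.card F ^ 29 ≤ H.index := by
  have h := sq_le hs H hH
  have h1 : (2 * Fintype.card F ^ 29) ^ 2 ≤ H.index ^ 2 := by
    calc (2 * Fintype.card F ^ 29) ^ 2 = 4 * Fintype.card F ^ 58 := by ring
      _ ≤ _ := h
  exact (Nat.pow_le_pow_iff_left (by norm_num)).1 h1

end Cfsg.Agent.H934.HeisE8
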