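import Mathlib
import Cfsg.Agent.S0254
import Cfsg.Agent.S2119
import Cfsg.Agent.S2060
import Cfsg.Agent.S2061
import Cfsg.Agent.S2062
import Cfsg.Agent.S2063
import Cfsg.Agent.S2064
import Cfsg.Agent.S2065
import Cfsg.Agent.S2066
import Cfsg.Agent.S2067
import Cfsg.Agent.S2068
import Cfsg.Agent.S2069
import Cfsg.Agent.S2070
import Cfsg.Agent.S2071
import Cfsg.Agent.S2072
import Cfsg.Agent.S2073
import Cfsg.Agent.S2074
import Cfsg.Agent.S2075
import Cfsg.Agent.S2076
import Cfsg.Agent.S2077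
import Cfsg.Agent.S2078
import Cfsg.Agent.S2079
import Cfsg.Agent.S2080
import Cfsg.Agent.S2081
import Cfsg.Agent.S2082
import Cfsg.Agent.S2083
import Cfsg.Agent.S2084
import Cfsg.Agent.S2085
import Cfsg.Agent.S2121
import Cfsg.Agent.S2122
import Cfsg.Agent.S2123
import Cfsg.Agent.S2124
import Cfsg.Agent.S2125
import Cfsg.Agent.S2126
import Cfsg.Agent.S2127
import Cfsg.Agent.S2128
import Cfsg.Agent.S2129
import Cfsg.Agent.S2130
import Cfsg.Agent.EvenType.ChevTwoTits
import Cfsg.Agent.H934.OutCl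
import Cfsg.Agent.H934.IdxExc
import Cfsg.Agent.H934.HeisE6_m3
import Cfsg.Agent.H934.HeisE7
import Cfsg.Agent.H934.HeisE8
import Cfsg.Agent.H934.IdxTwE6
import Cfsg.Agent.H934.IdxTwD4
import Cfsg.Agent.H934.IdxTwF4
import Cfsg.Agent.H934.IdxSz_m3
import Cfsg.Agent.Prune
set_option linter.all false
prune_inst 0x7f00000000000000000000000000000000000000000000000000000000000000000000000000000000000000000000000000000000000000000000000000000000000000000000000000000000000000003fffffffffffffffffffffffffffbeffbdffffffff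
open scoped Cfsg.Agent.FastGrp

/-!
# `2 ^ |Out G| ≤ |G : H| ^ 3` for every known simple group `G` and every proper subgroup `H`
-/

set_option autoImplicit false

namespace Cfsg.Agent.H934.OutAll

open Cfsg.Agent.H934.OutB

universe u v

variable {G : Type u} [Group G]

theorem simple_of {X : Type v} [Group X] [IsSimpleGroup G] (e : G ≃* X) : IsSimpleGroup X :=
  e.symm.isSimpleGroup

theorem not_comm_of {X : Type v} [Group X] (hna : ¬ IsMulCommutative G) (e : G ≃* X) : ¬ IsMulCommutative X := by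
  intro h
  apply hna
  refine ⟨⟨fun a b => e.injective ?_⟩⟩
  rw [map_mul, map_mul]
  exact h.is_comm.comm _ _

theorem small [Finite G] [IsSimpleGroup G] (hna : ¬ IsMulCommutative G) {X : Type v} [Group X]
    (h : Nat.card (Cfsg.Out X) ≤ 6) (e : Nonempty (G ≃* X)) : Bd G := by
  obtain ⟨e⟩ := e
  exact Bd.of_le_six hna (by rwa [card_out_congr e])

theorem card_out_alt {n : ℕ} (hn : 5 ≤ n) (h6 : n ≠ 6) [IsSimpleGroup (alternatingGroup (Fin n))]
    (hna : ¬ IsMulCommutative (alternatingGroup (Fin n))) :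
    Nat.card (Cfsg.Out (alternatingGroup (Fin n))) = 2 := by
  haveI : Nontrivial (Fin n) := Fin.nontrivial_iff_two_le.2 (by omega)
  apply card_out_of_aut hna
  have h1 := Nat.card_congr (Equiv.ofBijective _ (Cfsg.Agent.S2119.result n (by omega) h6))
  rw [← h1, Nat.card_eq_fintype_card, Nat.card_eq_fintype_card, two_mul_card_alternatingGroup]

theorem bd_alternating [Finite G] [IsSimpleGroup G] (hna : ¬ IsMulCommutative G) (h : Cfsg.IsAlternating G) :
    Bd G := by
  obtain ⟨n, hn, ⟨e⟩⟩ := h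
  haveI := simple_of e
  have hna' := not_comm_of hna e
  rcases eq_or_ne n 6 with rfl | h6
  · haveI : Fact (Nat.Prime 3) := ⟨by norm_num⟩
    haveI : Fintype (GaloisField 3 2) := Fintype.ofFinite _
    have hF : Fintype.card (GaloisField 3 2) = 9 := by
      rw [← Nat.card_eq_fintype_card, GaloisField.card 3 2 (by norm_num)]
      norm_num
    obtain ⟨e'⟩ := Cfsg.Agent.S0254.result hF
    haveI := simple_of e'.symm
    have h1 := OutCl.psl (F := GaloisField 3 2) le_rfl (fun _ => by rw [hF]; norm_num) inferInstance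
      (not_comm_of hna' e'.symm)
    exact (h1.congr e').congr e.symm
  · exact Bd.congr (Bd.of_le_six hna' (by rw [card_out_alt hn h6 hna']; norm_num)) e.symm

theorem bd_tits [Finite G] [IsSimpleGroup G] (hna : ¬ IsMulCommutative G) (h : Cfsg.Lie.IsoTits G) :
    Bd G := by
  obtain ⟨e⟩ := h
  obtain ⟨e'⟩ := Cfsg.Agent.TitsK.exists_equiv
  have hfin : Finite Cfsg.Agent.FourTwo.Base.LL := by infer_instance
  have h1 : Nat.card (Cfsg.Out ↥Cfsg.Agent.TitsK.TT) ∣ 2 := Cfsg.Agent.TitsK.tdata.index_inn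
  exact small hna ((Nat.le_of_dvd (by norm_num) h1).trans (by norm_num)) ⟨e.trans e'⟩

theorem bd_sporadic [Finite G] [IsSimpleGroup G] (hna : ¬ IsMulCommutative G) (h : Cfsg.IsSporadicGroup G) :
    Bd G := by
  rcases h with h | h | h | h | h | h | h | h | h | h | h | h | h | h | h | h | h | h | h | h | h | h | h | h | h | h
  · exact small hna (by rw [Cfsg.Agent.S2060.result]; norm_num) h
  · exact small hna (by rw [Cfsg.Agent.S2061.result]; norm_num) h
  · exact small hna (by rw [Cfsg.Agent.S2062.result]; norm_num) h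
  · exact small hna (by rw [Cfsg.Agent.S2063.result]; norm_num) h
  · exact small hna (by rw [Cfsg.Agent.S2064.result]; norm_num) h
  · exact small hna (by rw [Cfsg.Agent.S2065.result]; norm_num) h
  · exact small hna (by rw [Cfsg.Agent.S2066.result]; norm_num) h
  · obtain ⟨F, _, _, ω, hF, hω, e⟩ := h
    exact small hna (by rw [Cfsg.Agent.S2067.result hF ω hω]; norm_num) e
  · exact small hna (by rw [Cfsg.Agent.S2068.result]; norm_num) h
  · exact small hna (by rw [Cfsg.Agent.S2069.result]; norm_num) h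
  · exact small hna (by rw [Cfsg.Agent.S2070.result]; norm_num) h
  · exact small hna (by rw [Cfsg.Agent.S2071.result]; norm_num) h
  · exact small hna (by rw [Cfsg.Agent.S2073.result]; norm_num) h
  · exact small hna (by rw [Cfsg.Agent.S2072.result]; norm_num) h
  · exact small hna (by rw [Cfsg.Agent.S2074.result]; norm_num) h
  · exact small hna (by rw [Cfsg.Agent.S2075.result]; norm_num) h
  · exact small hna (by rw [Cfsg.Agent.S2077.result]; norm_num) h
  · exact small hna (by rw [Cfsg.Agent.S2078.result]; norm_num) h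
  · exact small hna (by rw [Cfsg.Agent.S2076.result]; norm_num) h
  · exact small hna (by rw [Cfsg.Agent.S2079.result]; norm_num) h
  · exact small hna (by rw [Cfsg.Agent.S2080.result]; norm_num) h
  · exact small hna (by rw [Cfsg.Agent.S2081.result]; norm_num) h
  · exact small hna (by rw [Cfsg.Agent.S2082.result]; norm_num) h
  · exact small hna (by rw [Cfsg.Agent.S2083.result]; norm_num) h
  · exact small hna (by rw [Cfsg.Agent.S2084.result]; norm_num) h
  · exact small hna (by rw [Cfsg.Agent.S2085.result]; norm_num) h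

theorem bd_g2 [Finite G] [IsSimpleGroup G] (h : Cfsg.Lie.IsoChevG2 G) : Bd G := by
  obtain ⟨F, _, _, h3, ⟨e⟩⟩ := h
  obtain ⟨p, f, hp, hf, hF⟩ := OutCl.exists_pf F
  haveI := Fact.mk hp
  haveI : CharP F p := charP_of_card_eq_prime_pow hF
  have hs := simple_of e
  have h1 := Cfsg.Agent.S2121.result p f hF (by rwa [← hF])
  refine Bd.congr (Bd.of_pow (N := 2) (M := p) (f := f) ?_ (fun H hH => ?_) ?_) e.symm
  · rw [h1]
    split_ifs <;> omega
  · rw [← hF]
    exact IdxExc.g2 hs H hH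
  · calc 2 ^ 2 ≤ 2 ^ 3 := by norm_num
      _ ≤ p ^ 3 := Nat.pow_le_pow_left hp.two_le 3

theorem bd_f4 [Finite G] [IsSimpleGroup G] (h : Cfsg.Lie.IsoF4 G) : Bd G := by
  obtain ⟨F, _, _, ⟨e⟩⟩ := h
  obtain ⟨p, f, hp, hf, hF⟩ := OutCl.exists_pf F
  haveI := Fact.mk hp
  haveI : CharP F p := charP_of_card_eq_prime_pow hF
  have hs := simple_of e
  have h1 := Cfsg.Agent.S2122.result p f hF
  refine Bd.congr (Bd.of_pow (N := 2) (M := p) (f := f) ?_ (fun H hH => ?_) ?_) e.symm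
  · rw [h1]
    exact Nat.mul_le_mul_right _ (Nat.le_of_dvd (by norm_num) (Nat.gcd_dvd_left 2 p))
  · rw [← hF]
    exact IdxExc.f4 hs H hH
  · calc 2 ^ 2 ≤ 2 ^ 3 := by norm_num
      _ ≤ p ^ 3 := Nat.pow_le_pow_left hp.two_le 3

theorem bd_e6 [Finite G] [IsSimpleGroup G] (h : Cfsg.Lie.IsoChevE6 G) : Bd G := by
  obtain ⟨F, _, _, ⟨e⟩⟩ := h
  obtain ⟨p, f, hp, hf, hF⟩ := OutCl.exists_pf F
  haveI := Fact.mk hp
  haveI : CharP F p := charP_of_card_eq_prime_pow hF
  have hs := simple_of e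
  have h1 := Cfsg.Agent.S2123.result p f hF
  refine Bd.congr (Bd.of_pow (N := 6) (M := p ^ 2) (f := f) ?_ (fun H hH => ?_) ?_) e.symm
  · rw [h1]
    apply Nat.mul_le_mul_right
    have := Nat.le_of_dvd (by norm_num) (Nat.gcd_dvd_left 3 (p ^ f - 1))
    omega
  · have h2 := HeisE6.two_mul_le hs H hH
    rw [← pow_mul, mul_comm, pow_mul, ← hF]
    refine le_trans (le_trans ?_ (Nat.le_mul_of_pos_left _ (by norm_num))) h2
    exact Nat.pow_le_pow_right Fintype.card_pos (by norm_num)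
  · calc 2 ^ 6 ≤ (2 ^ 2) ^ 3 := by norm_num
      _ ≤ (p ^ 2) ^ 3 := Nat.pow_le_pow_left (Nat.pow_le_pow_left hp.two_le _) 3

theorem bd_e7 [Finite G] [IsSimpleGroup G] (h : Cfsg.Lie.IsoE7 G) : Bd G := by
  obtain ⟨F, _, _, ⟨e⟩⟩ := h
  obtain ⟨p, f, hp, hf, hF⟩ := OutCl.exists_pf F
  haveI := Fact.mk hp
  haveI : CharP F p := charP_of_card_eq_prime_pow hF
  have hs := simple_of e
  have h1 := Cfsg.Agent.S2124.result p f hF
  refine Bd.congr (Bd.of_pow (N := 2) (M := p) (f := f) ?_ (fun H hH => ?_) ?_) e.symm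
  · rw [h1]
    exact Nat.mul_le_mul_right _ (Nat.le_of_dvd (by norm_num) (Nat.gcd_dvd_left 2 (p ^ f - 1)))
  · have h2 := HeisE7.two_mul_le hs H hH
    rw [← hF]
    refine le_trans (le_trans ?_ (Nat.le_mul_of_pos_left _ (by norm_num))) h2
    exact Nat.le_self_pow (by norm_num) _
  · calc 2 ^ 2 ≤ 2 ^ 3 := by norm_num
      _ ≤ p ^ 3 := Nat.pow_le_pow_left hp.two_le 3

theorem bd_e8 [Finite G] [IsSimpleGroup G] (h : Cfsg.Lie.IsoE8 G) : Bd G := by
  obtain ⟨F, _, _, ⟨e⟩⟩ := h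
  obtain ⟨p, f, hp, hf, hF⟩ := OutCl.exists_pf F
  haveI := Fact.mk hp
  haveI : CharP F p := charP_of_card_eq_prime_pow hF
  have hs := simple_of e
  have h1 := Cfsg.Agent.S2125.result p f hF
  refine Bd.congr (Bd.of_pow (N := 1) (M := p) (f := f) ?_ (fun H hH => ?_) ?_) e.symm
  · rw [h1, one_mul]
  · have h2 := HeisE8.two_mul_le hs H hH
    rw [← hF]
    refine le_trans (le_trans ?_ (Nat.le_mul_of_pos_left _ (by norm_num))) h2
    exact Nat.le_self_pow (by norm_num) _
  · calc 2 ^ 1 ≤ 2 ^ 3 := by norm_num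
      _ ≤ p ^ 3 := Nat.pow_le_pow_left hp.two_le 3

theorem exists_pf_of_pow {K : Type v} [Field K] [Fintype K] {q n : ℕ} (hq : IsPrimePow q)
    (hK : Fintype.card K = q ^ n) (hn : n ≠ 0) :
    ∃ p f : ℕ, p.Prime ∧ 1 ≤ f ∧ q = p ^ f ∧ CharP K p ∧ Fintype.card K = p ^ (n * f) := by
  obtain ⟨p, f, hp, hf, rfl⟩ := hq
  have hp' := Nat.prime_iff.2 hp
  haveI := Fact.mk hp'
  have h : Fintype.card K = p ^ (n * f) := by rw [hK, ← pow_mul, mul_comm]
  exact ⟨p, f, hp', hf, rfl, charP_of_card_eq_prime_pow h, h⟩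

theorem bd_2e6 [Finite G] [IsSimpleGroup G] (h : Cfsg.Lie.Iso2E6 G) : Bd G := by
  obtain ⟨K, _, _, q, hq, hK, ⟨e⟩⟩ := h
  obtain ⟨p, f, hp, hf, rfl, _, hKp⟩ := exists_pf_of_pow hq hK (by norm_num)
  haveI := Fact.mk hp
  have hs := simple_of e
  have h1 := Cfsg.Agent.S2130.result p f hKp hf
  refine Bd.congr (Bd.of_pow (N := 6) (M := p ^ 2) (f := f) ?_ (fun H hH => ?_) ?_) e.symm
  · rw [h1]
    apply Nat.mul_le_mul_right
    have := Nat.le_of_dvd (by norm_num) (Nat.gcd_dvd_left 3 (p ^ f + 1))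
    omega
  · have h2 := IdxTwE6.card_le_index hq hK hs H hH
    rw [← pow_mul, mul_comm, pow_mul]
    exact h2
  · calc 2 ^ 6 ≤ (2 ^ 2) ^ 3 := by norm_num
      _ ≤ (p ^ 2) ^ 3 := Nat.pow_le_pow_left (Nat.pow_le_pow_left hp.two_le _) 3

theorem bd_3d4 [Finite G] [IsSimpleGroup G] (h : Cfsg.Lie.Iso3D4 G) : Bd G := by
  obtain ⟨K, _, _, q, hq, hK, ⟨e⟩⟩ := h
  obtain ⟨p, f, hp, hf, rfl, _, hKp⟩ := exists_pf_of_pow hq hK (by norm_num)
  haveI := Fact.mk hp
  have hs := simple_of e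
  have h1 := Cfsg.Agent.S2129.result p f hKp hf
  refine Bd.congr (Bd.of_pow (N := 3) (M := p ^ 3) (f := f) ?_ (fun H hH => ?_) ?_) e.symm
  · rw [h1]
  · have h2 := IdxTwD4.card_le_index hq hK hs H hH
    rw [← pow_mul, mul_comm, pow_mul]
    exact h2
  · calc 2 ^ 3 ≤ (2 ^ 3) ^ 3 := by norm_num
      _ ≤ (p ^ 3) ^ 3 := Nat.pow_le_pow_left (Nat.pow_le_pow_left hp.two_le _) 3

theorem bd_sz [Finite G] [IsSimpleGroup G] (h : Cfsg.Lie.IsoSuzuki G) : Bd G := by
  obtain ⟨F, _, _, m, hm, hF, ⟨e⟩⟩ := h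
  have hs := simple_of e
  have h1 := Cfsg.Agent.S2126.result hm hF
  refine Bd.congr (Bd.of_pow (N := 1) (M := 2) (f := 2 * m + 1) ?_ (fun H hH => ?_) ?_) e.symm
  · rw [h1, one_mul]
  · rw [← hF]
    exact IdxSz.card_le_index hF hs H hH
  · norm_num

theorem bd_2f4 [Finite G] [IsSimpleGroup G] (h : Cfsg.Lie.Iso2F4 G) : Bd G := by
  obtain ⟨F, _, _, m, hm, hF, ⟨e⟩⟩ := h
  have hs := simple_of e
  have h1 := Cfsg.Agent.S2128.result hm hF
  refine Bd.congr (Bd.of_pow (N := 1) (M := 2) (f := 2 * m + 1) ?_ (fun H hH => ?_) ?_) e.symm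
  · rw [h1, one_mul]
  · rw [← hF]
    exact IdxTwF4.card_le_index hF hs H hH
  · norm_num

theorem bd_ree [Finite G] [IsSimpleGroup G] (h : Cfsg.Lie.IsoRee G) : Bd G := by
  obtain ⟨F, _, _, m, hm, hF, ⟨e⟩⟩ := h
  have hs := simple_of e
  have h1 := Cfsg.Agent.S2127.result hm hF
  refine Bd.congr (Bd.of_pow (N := 1) (M := 2) (f := 2 * m + 1) ?_ (fun H hH => ?_) ?_) e.symm
  · rw [h1, one_mul]
  · have h2 := IdxRee.card_le_two_mul hF hs H hH
    rw [hF] at h2
    obtain ⟨k, rfl⟩ : ∃ k, m = k + 1 := ⟨m - 1, by omega⟩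
    have h3 : 4 ^ k ≤ 9 ^ k := Nat.pow_le_pow_left (by norm_num) _
    have h4 : 2 ^ (2 * (k + 1) + 1) = 8 * 4 ^ k := by
      rw [pow_succ, pow_mul, pow_succ]
      norm_num
      ring
    have h5 : 3 ^ (2 * (k + 1) + 1) = 27 * 9 ^ k := by
      rw [pow_succ, pow_mul, pow_succ]
      norm_num
      ring
    rw [h4]
    rw [h5] at h2
    generalize 4 ^ k = a at h3 ⊢
    generalize 9 ^ k = b at h2 h3
    omega
  · norm_num

/-- Every proper subgroup `H` of a nonabelian known simple group `G` has `2 ^ |Out G| ≤ |G : H| ^ 3`. -/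
theorem bd [Finite G] [IsSimpleGroup G] (hna : ¬ IsMulCommutative G) (h : Cfsg.IsKnownSimple' G) : Bd G := by
  rcases h with h | h | h | h | h | h | h | h | h | h
  · exfalso
    apply hna
    haveI : Fact (Nat.card G).Prime := ⟨h⟩
    haveI : IsCyclic G := isCyclic_of_prime_card rfl
    infer_instance
  · exact bd_alternating hna h
  · obtain ⟨F, _, _, n, hn, h4, ⟨e⟩⟩ := h
    exact (OutCl.psl hn h4 (simple_of e) (not_comm_of hna e)).congr e.symm
  · obtain ⟨F, _, _, m, hm, h3, ⟨e⟩⟩ := h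
    exact (OutCl.psp hm h3 (simple_of e) (not_comm_of hna e)).congr e.symm
  · obtain ⟨F, _, _, n, q, hF, hn, h32, ⟨e⟩⟩ := h
    exact (OutCl.psu hF hn h32 (simple_of e) (not_comm_of hna e)).congr e.symm
  · obtain ⟨F, _, _, m, hm, ho, ⟨e⟩⟩ := h
    exact (OutCl.pomega_odd hm ho (simple_of e) (not_comm_of hna e)).congr e.symm
  · obtain ⟨F, _, _, m, hm, ⟨e⟩⟩ := h
    exact (OutCl.pomega_plus hm (simple_of e) (not_comm_of hna e)).congr e.symm
  · obtain ⟨F, _, _, m, a, b, hm, hab, ⟨e⟩⟩ := h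
    exact (OutCl.pomega_minus hm a b hab (simple_of e) (not_comm_of hna e)).congr e.symm
  · rcases h with h | h | h | h | h | h | h | h | h | h | h
    · exact bd_g2 h
    · exact bd_f4 h
    · exact bd_e6 h
    · exact bd_e7 h
    · exact bd_e8 h
    · exact bd_2e6 h
    · exact bd_3d4 h
    · exact bd_sz h
    · exact bd_ree h
    · exact bd_2f4 h
    · exact bd_tits hna h
  · exact bd_sporadic hna h

end Cfsg.Agent.H934.OutAll
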