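import Mathlib
import Cfsg.Agent.H934.RowRgd
import Cfsg.Agent.H35.ExcIdxTw_m3
import Cfsg.Agent.H934.HeisTwE6
import Cfsg.Agent.Prune
set_option linter.all false
prune_inst 0x7f00000000000000000000000000000000000000000000000000000000000000000000000000000000000000000000000000000000000000000000000000000000000000000000000000000000000000003fffffffffffffffffffffffffffbeffbdffffffff
open scoped Cfsg.Agent.FastGrp

/-!
# The row of `²E₆(q)` (S5880)
-/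

set_option autoImplicit false

namespace Cfsg.Agent.H934.RowTwE6

open CoxeterSystem Cfsg.Agent.ChevalleyStructure.CoxeterGeom Cfsg.Agent.Tits.Roots Cfsg.Agent.Tits.Core
  Cfsg.Agent.Tits.Exchange Cfsg.Agent.Nodes.Reps Cfsg.Agent.Nodes.BNOf Cfsg.Agent.Nodes.StabComb
  Cfsg.Agent.Nodes.Bruhat Cfsg.Agent.Nodes.OppDec Cfsg.Agent.Nodes.LeviDec Cfsg.Agent.Nodes.NormalForm
open Cfsg.Agent.KFacts.RgdOpp Cfsg.Agent.KFacts.RgdAut Cfsg.Agent.KFacts.RgdDiag Cfsg.Agent.KFacts.RgdRigid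
  Cfsg.Agent.H430.CfBase Cfsg.Agent.H934.RowOrb
open Cfsg.Lie Cfsg.Agent.ChevalleyStructure Cfsg.Agent.H35.ExcIdx Cfsg.Agent.H35.PoinNum
open Cfsg.Agent.ChevalleyStructure.TwE6Basic (posE negE sg fix n exists_frob twisted_le_fix)

universe u

/-- minimal coset representatives -/
def LL : List (List (Fin 4)) :=
  [[], [1], [2, 1], [1, 2, 1], [3, 2, 1], [3, 1, 2, 1], [2, 3, 1, 2, 1], [1, 2, 3, 1, 2, 1]]

theorem orb : OrbOK Nodes.RGDTwE6.A [1, 2, 3] 1 LL := by constructor <;> decide +kernel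

theorem arith {q i : ℕ} (hq : 2 ≤ q)
    (h : i * ((1 + q + q ^ 3 + q ^ 4 + q ^ 5 + q ^ 6 + q ^ 8 + q ^ 9) * ((1 + q ^ 2) * (1 + q ^ 2 + q ^ 4))) *
      ((q - 1) ^ 4 * (q + 1) ^ 2) = PT q) : i ≤ q ^ 22 := by
  have hsub : ∀ a b : ℕ, a = b + 1 → a - 1 = b := by omega
  obtain ⟨x, hx⟩ : ∃ x, q = x + 1 := ⟨q - 1, by omega⟩
  have hx0 : 0 < x := by omega
  have e0 : q - 1 = x := by omega
  have e2 : q ^ 2 - 1 = x * (q + 1) := hsub _ _ (by rw [hx]; ring)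
  have e6 : q ^ 6 - 1 = x * ((q + 1) * (1 + q ^ 2 + q ^ 4)) := hsub _ _ (by rw [hx]; ring)
  have e8 : q ^ 8 - 1 = x * ((q + 1) * (1 + q ^ 2) * (1 + q ^ 4)) := hsub _ _ (by rw [hx]; ring)
  have e12 : q ^ 12 - 1 = x * (1 + q + q ^ 2 + q ^ 3 + q ^ 4 + q ^ 5 + q ^ 6 + q ^ 7 + q ^ 8 + q ^ 9 + q ^ 10 + q ^ 11) :=
    hsub _ _ (by rw [hx]; ring)
  have e9 : q ^ 9 + 1 = (q ^ 3 + 1) * (q ^ 3 * (q ^ 3 - 1) + 1) := by
    have h1 : q ^ 9 = (q ^ 3) ^ 3 := by ring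
    have h2 : 1 ≤ q ^ 3 := Nat.one_le_pow _ _ (by omega)
    rw [h1]
    obtain ⟨w, hw⟩ : ∃ w, q ^ 3 = w + 1 := ⟨q ^ 3 - 1, by omega⟩
    rw [hw, Nat.add_sub_cancel]
    ring
  obtain ⟨s, hs⟩ : ∃ s, s = q ^ 3 * (q ^ 3 - 1) + 1 := ⟨_, rfl⟩
  rw [← hs] at e9
  have h1 : i = (1 + q ^ 4) * s *
      (1 + q + q ^ 2 + q ^ 3 + q ^ 4 + q ^ 5 + q ^ 6 + q ^ 7 + q ^ 8 + q ^ 9 + q ^ 10 + q ^ 11) := by
    unfold PT at h
    rw [e0, e2, e6, e8, e12, e9] at h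
    have hpos : 0 < ((1 + q + q ^ 3 + q ^ 4 + q ^ 5 + q ^ 6 + q ^ 8 + q ^ 9) * ((1 + q ^ 2) * (1 + q ^ 2 + q ^ 4))) *
      (x ^ 4 * (q + 1) ^ 2) := by positivity
    apply Nat.eq_of_mul_eq_mul_right hpos
    rw [← mul_assoc i, h]
    ring
  rw [h1, hs]
  obtain ⟨y, rfl⟩ : ∃ y, q = y + 2 := ⟨q - 2, by omega⟩
  have e3 : (y + 2) ^ 3 - 1 = y ^ 3 + 6 * y ^ 2 + 12 * y + 7 := hsub _ _ (by ring)
  rw [e3]
  refine Nat.le.intro (k := 226249 + 6291275 * y + 51069975 * y ^ 2 + 225095264 * y ^ 3 + 654409285 * y ^ 4 +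
    1377534195 * y ^ 5 + 2214649632 * y ^ 6 + 2812167327 * y ^ 7 + 2883723429 * y ^ 8 + 2423944143 * y ^ 9 +
    1686599306 * y ^ 10 + 977220270 * y ^ 11 + 472740553 * y ^ 12 + 190883163 * y ^ 13 + 64118563 * y ^ 14 +
    17798014 * y ^ 15 + 4038757 * y ^ 16 + 737123 * y ^ 17 + 105602 * y ^ 18 + 11439 * y ^ 19 + 881 * y ^ 20 +
    43 * y ^ 21 + y ^ 22) ?_
  ring

theorem sum_LL (q : ℕ) : (LL.map fun ω => (ω.map (fE q)).prod).sum =
    1 + q + q ^ 3 + q ^ 4 + q ^ 5 + q ^ 6 + q ^ 8 + q ^ 9 := by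
  have h0 : fE q 1 = q := rfl
  have h2 : fE q 2 = q ^ 2 := rfl
  have h3 : fE q 3 = q ^ 2 := rfl
  simp only [LL, List.map_cons, List.map_nil, List.prod_cons, List.prod_nil, List.sum_cons, List.sum_nil, h0, h2, h3]
  ring

/-- the Coxeter matrix -/
def mF : Fin 4 → Fin 4 → ℕ := ![![1, 3, 2, 2], ![3, 1, 4, 2], ![2, 4, 1, 3], ![2, 2, 3, 1]]

theorem mF_eq (i j : Fin 4) : CoxeterMatrix.F₄ i j = mF i j := by
  fin_cases i <;> fin_cases j <;> rfl

theorem perm_aux : ∀ a b c : Fin 4, mF a b = 3 → mF b c = 4 → (a : ℕ) < 2 → a = 0 ∧ b = 1 ∧ c = 2 := by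
  decide +kernel

theorem perm_aux' : ∀ d : Fin 4, mF 2 d = 3 → d = 3 := by
  decide +kernel

theorem perm_F4 (σ : Equiv.Perm (Fin 4)) (h : ∀ i j, CoxeterMatrix.F₄ (σ i) (σ j) = CoxeterMatrix.F₄ i j)
    (h' : ∀ i, (σ i : ℕ) < 2 ↔ (i : ℕ) < 2) : σ = 1 := by
  simp only [mF_eq] at h
  obtain ⟨h0, h1, h2⟩ := perm_aux (σ 0) (σ 1) (σ 2) ((h 0 1).trans (by decide))
    ((h 1 2).trans (by decide)) ((h' 0).2 (by decide))
  have h3 : σ 3 = 3 := by
    have h4 := h 2 3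
    rw [h2] at h4
    exact perm_aux' _ (h4.trans (by decide))
  ext i
  fin_cases i
  · exact congrArg Fin.val h0
  · exact congrArg Fin.val h1
  · exact congrArg Fin.val h2
  · exact congrArg Fin.val h3

/-- **The row of `²E₆(q)`.** -/
theorem row {K : Type u} [Field K] [Fintype K] {q : ℕ} (hq : IsPrimePow q) (hK : Fintype.card K = q ^ 2)
    (hs : IsSimpleGroup ↥(twistedE6 K q)) : Row ↥(twistedE6 K q) := by
  obtain ⟨φ, hφ, hqq⟩ := exists_frob hq hK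
  have : Finite (GL chevE6.Idx K) := inferInstance
  obtain ⟨p, hcp⟩ := CharP.exists K
  have hp' : Fact p.Prime := ⟨CharP.char_is_prime K p⟩
  have h2 : 2 ≤ q := hq.two_le
  obtain ⟨r, f, hr, hf, hrf⟩ := hq
  have hr' : r.Prime := hr.nat_prime
  have hpr : p = r := by
    obtain ⟨n, hpp, hn⟩ := FiniteField.card K p
    have h3 : p ∣ r := by
      have h4 : p ∣ Fintype.card K := by rw [hn]; exact dvd_pow_self p n.pos.ne'
      rw [hK, ← hrf, ← pow_mul] at h4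
      exact hpp.dvd_of_dvd_pow h4
    exact (Nat.prime_dvd_prime_iff_eq hpp hr').1 h3
  subst hpr
  have hpp : IsPrimePow q := ⟨p, f, hr, hf, hrf⟩
  have hq' : q = p ^ f := hrf.symm
  have hfin : Finite CoxeterMatrix.F₄.Group := Nodes.RGDFold.finite_W (hp := Nodes.RGDTwE6.hp)
    CoxeterMatrix.F₄.toCoxeterSystem Nodes.RGDTwE6.isCartan Nodes.RGDTwE6.foldData
  have hR := Nodes.RGDTwE6.rgd CoxeterMatrix.F₄.toCoxeterSystem hφ hqq p
  have hG1 : Nodes.RGDLib.G1 CoxeterMatrix.F₄.toCoxeterSystem Nodes.RGDTwE6.isCartan (Nodes.RGDTwE6.X φ q) = ⊤ :=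
    Nodes.RGDTwE6.G1_eq_top _ hφ hqq
  have hGG : GG CoxeterMatrix.F₄.toCoxeterSystem Nodes.RGDTwE6.isCartan (Nodes.RGDTwE6.T K q)
      (Nodes.RGDTwE6.X φ q) = ⊤ := by
    rw [eq_top_iff, ← hG1]
    exact le_sup_right
  have hc := card_X_tw (φ := φ) hφ hqq (by omega) hK
  have hP : ¬ p ∣ PT q := by
    intro h3
    have h4 : p ∣ pr q [2, 6, 8, 10, 12, 18] := by
      rw [← PT_mul (by omega)]; exact Dvd.dvd.mul_right h3 _
    rw [hq'] at h4
    exact not_dvd_pr hr' hf.ne' _ (by simp) h4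
  have hT : Nat.gcd 3 (q + 1) * Nat.card ↥(Nodes.RGDTwE6.T K q) = (q - 1) ^ 4 * (q + 1) ^ 2 := by
    rw [← Cfsg.Agent.S1102.result hpp hK]
    congr 1
    exact Nat.card_congr (Subgroup.subgroupOfEquivOfLe inf_le_right).toEquiv
  have hd : ¬ p ∣ Nat.gcd 3 (q + 1) := by
    intro h3
    have h4 : p ∣ q + 1 := h3.trans (Nat.gcd_dvd_right _ _)
    have h5 : p ∣ q := by rw [hq']; exact dvd_pow_self p hf.ne'
    exact hr'.one_lt.ne' (Nat.dvd_one.1 ((Nat.dvd_add_right h5).1 h4))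
  have hS : Nat.gcd 3 (q + 1) * Nat.card ↥(twistedE6 K q) = p ^ (f * 36) * PT q := by
    rw [Cfsg.Agent.S1066.result hpp hK, pow_mul, ← hq']
    unfold PT
    ring
  have hN := card_orbit hR orb hc (JL' := [2, 3]) (by decide) (card_step hR path_T_3 (y := q ^ 2) (fun i hi => by
    rw [hc]; revert i; simp [fE]) (card_nil hR))
  have hFA : FA [(2 : Fin 4), 3].length (q ^ 2) * 1 = (1 + q ^ 2) * (1 + q ^ 2 + q ^ 4) := by
    simp only [FA, List.length_cons, List.length_nil, Finset.prod_range_succ, Finset.prod_range_zero,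
      Finset.sum_range_succ, Finset.sum_range_zero]
    ring
  rw [hFA, sum_LL] at hN
  have h6 := index_eq hR hGG hN hd hT hS hP
  have hidx := arith h2 h6
  refine RowRgd.row_of hR hGG (J := {j | j ∈ ([1, 2, 3] : List (Fin 4))}) (i := 0) (by simp) (fun β σ D i => ?_)
    fun L hL => hidx.trans (HeisTwE6.bound_2E6 hpp hK hs L hL)
  have h8 : q ≠ q ^ 2 := by
    have : q ^ 1 < q ^ 2 := Nat.pow_lt_pow_right (by omega) (by norm_num)
    rw [pow_one] at this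
    exact this.ne
  have h9 : σ = 1 := by
    refine perm_F4 σ (fun i j => D.matrix (R := hR) i j) fun i => ?_
    have h7 := Cfsg.Agent.KFacts.RgdNodes.Diag.card_eq D i
    rw [hc, hc] at h7
    unfold fE at h7
    split_ifs at h7 with h10 h11 h11
    · exact ⟨fun _ => h11, fun _ => h10⟩
    · exact absurd h7 h8
    · exact absurd h7.symm h8
    · exact ⟨fun h => absurd h h10, fun h => absurd h h11⟩
  rw [h9]
  rfl

/-- The row for the predicate. -/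
theorem row_2E6 {S : Type u} [Group S] [Finite S] [IsSimpleGroup S] (h : Iso2E6 S) : Row S := by
  obtain ⟨K, _, _, q, hq, hK, ⟨e⟩⟩ := h
  exact Row.of_equiv e.symm (row hq hK (e.isSimpleGroup_congr.1 inferInstance))

end Cfsg.Agent.H934.RowTwE6

private theorem dce_51bbcec9a96a : _root_.True := by
  try have : _root_.True := by simp only [_root_.Cfsg.Agent.H934.RowTwE6.LL.eq_1]
  exact _root_.True.intro
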